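import Mathlib
import Cfsg.Agent.S0848
import Cfsg.Agent.J2Type.SylowSeven

set_option autoImplicit false
set_option linter.unusedSectionVars false
set_option linter.style.haveILetI false

/-!
Project P16, J3 cluster, package P3: in a group of J3 type the centraliser of the `A₆`-type element `g` of order 3 has
order 1080, and there is an element `w` commuting with `φ`, inverting `g` and normalising `⟨y⟩`.
-/

namespace Cfsg.Agent.J3Type.ExistsW

open Subgroup
open scoped commutatorElement

/-- In `DihedralGroup 4`: the only non-trivial central element. -/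
theorem dih_center : ∀ c : DihedralGroup 4, (∀ x, x * c = c * x) → c ≠ 1 → c = DihedralGroup.r 2 := by
  decide

theorem dih_comm : (DihedralGroup.r 2 : DihedralGroup 4) =
    ⁅(DihedralGroup.r 1 : DihedralGroup 4), (DihedralGroup.sr 0 : DihedralGroup 4)⁆ := by
  decide

theorem dih_gen : ∀ x : DihedralGroup 4, ∃ a b : DihedralGroup 4, a * a = 1 ∧ b * b = 1 ∧ x = a * b := by
  decide

theorem dih_card : Nat.card (DihedralGroup 4) = 8 := by
  rw [DihedralGroup.nat_card]

section Y
variable {Y : Type*} [Group Y] [Finite Y]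

/-- The hypothesis on involution centralisers. -/
def HD8 (Y : Type*) [Group Y] : Prop :=
  ∀ s : Y, orderOf s = 2 → Nonempty (centralizer ({s} : Set Y) ≃* DihedralGroup 4)

theorem HD8.card (h : HD8 Y) {s : Y} (hs : orderOf s = 2) :
    Nat.card (centralizer ({s} : Set Y)) = 8 := by
  obtain ⟨e⟩ := h s hs
  rw [Nat.card_congr e.toEquiv, dih_card]

theorem HD8.eq_of_central (h : HD8 Y) {s c : Y} (hs : orderOf s = 2)
    (hc : c ∈ centralizer ({s} : Set Y)) (hc' : ∀ x ∈ centralizer ({s} : Set Y), x * c = c * x)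
    (hc1 : c ≠ 1) : c = s := by
  obtain ⟨e⟩ := h s hs
  have hs1 : s ≠ 1 := by rintro rfl; simp at hs
  have hsC : s ∈ centralizer ({s} : Set Y) := by
    rw [mem_centralizer_singleton_iff]
  have key : ∀ d : Y, ∀ hd : d ∈ centralizer ({s} : Set Y),
      (∀ x ∈ centralizer ({s} : Set Y), x * d = d * x) → d ≠ 1 → e ⟨d, hd⟩ = DihedralGroup.r 2 := by
    intro d hd hd' hd1
    apply dih_center
    · intro x
      obtain ⟨y, rfl⟩ := e.surjective x
      rw [← map_mul, ← map_mul]
      congr 1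
      exact Subtype.ext (hd' y y.2)
    · intro h1
      have h2 := e.map_eq_one_iff.mp h1
      exact hd1 (congrArg Subtype.val h2)
  have h1 := key c hc hc' hc1
  have h2 := key s hsC (fun x hx => by rw [mem_centralizer_singleton_iff] at hx; exact hx) hs1
  have h3 := e.injective (h1.trans h2.symm)
  exact congrArg Subtype.val h3

theorem HD8.mem_commutator (h : HD8 Y) {s : Y} (hs : orderOf s = 2) : s ∈ commutator Y := by
  obtain ⟨e⟩ := h s hs
  have hs1 : s ≠ 1 := by rintro rfl; simp at hs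
  have hsC : s ∈ centralizer ({s} : Set Y) := by
    rw [mem_centralizer_singleton_iff]
  let a := e.symm (DihedralGroup.r 1)
  let b := e.symm (DihedralGroup.sr 0)
  have h1 : e ⟨s, hsC⟩ = DihedralGroup.r 2 := by
    apply dih_center
    · intro x
      obtain ⟨y, rfl⟩ := e.surjective x
      rw [← map_mul, ← map_mul]
      congr 1
      exact Subtype.ext (by
        have := y.2
        rw [mem_centralizer_singleton_iff] at this
        exact this)
    · intro h1
      have h2 := e.map_eq_one_iff.mp h1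
      exact hs1 (congrArg Subtype.val h2)
  have h2 : (⟨s, hsC⟩ : centralizer ({s} : Set Y)) = ⁅a, b⁆ := by
    apply e.injective
    rw [h1, map_commutatorElement, dih_comm]
    simp [a, b]
  have h3 : s = ⁅(a : Y), (b : Y)⁆ := congrArg Subtype.val h2
  rw [h3, _root_.commutator_def]
  exact commutator_mem_commutator (mem_top _) (mem_top _)

theorem HD8.centralizer_le (h : HD8 Y) {s : Y} (hs : orderOf s = 2) :
    centralizer ({s} : Set Y) ≤ commutator Y := by
  obtain ⟨e⟩ := h s hs
  intro x hx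
  obtain ⟨a, b, ha, hb, hab⟩ := dih_gen (e ⟨x, hx⟩)
  have key : ∀ a : DihedralGroup 4, a * a = 1 → ((e.symm a : centralizer ({s} : Set Y)) : Y) ∈ commutator Y := by
    intro a ha
    by_cases h1 : a = 1
    · rw [h1, map_one]; exact one_mem _
    · apply h.mem_commutator
      rw [orderOf_eq_prime_iff]
      constructor
      · rw [pow_two, ← coe_mul, ← map_mul, ha, map_one]; rfl
      · intro h2
        apply h1
        have h3 : e.symm a = 1 := Subtype.ext h2
        exact e.symm.map_eq_one_iff.mp h3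
  have h1 : (⟨x, hx⟩ : centralizer ({s} : Set Y)) = e.symm a * e.symm b := by
    rw [← map_mul, ← hab, e.symm_apply_apply]
  have h2 : x = (e.symm a : Y) * (e.symm b : Y) := congrArg Subtype.val h1
  rw [h2]
  exact mul_mem (key a ha) (key b hb)

/-- the centraliser of an involution is a Sylow 2-subgroup -/
theorem HD8.exists_sylow (h : HD8 Y) {s : Y} (hs : orderOf s = 2) :
    ∃ S : Sylow 2 Y, (S : Subgroup Y) = centralizer ({s} : Set Y) := by
  have h2 : IsPGroup 2 (centralizer ({s} : Set Y)) :=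
    IsPGroup.of_card (n := 3) (by rw [h.card hs]; norm_num)
  obtain ⟨S, hS⟩ := h2.exists_le_sylow
  refine ⟨S, ?_⟩
  haveI : Fact (Nat.Prime 2) := ⟨Nat.prime_two⟩
  have hs1 : s ≠ 1 := by rintro rfl; simp at hs
  have hsS : s ∈ S := hS (by rw [mem_centralizer_singleton_iff])
  haveI : Nontrivial (S : Subgroup Y) := ⟨⟨⟨s, hsS⟩, 1, fun hh => hs1 (congrArg Subtype.val hh)⟩⟩
  have hZ := S.isPGroup'.center_nontrivial
  have hcard : 2 ∣ Nat.card (center (S : Subgroup Y)) := by
    have := (S.isPGroup'.to_subgroup (center (S : Subgroup Y))).card_eq_or_dvd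
    rcases this with h1 | h1
    · exact absurd h1 (Finite.one_lt_card).ne'
    · exact h1
  obtain ⟨z, hz⟩ := exists_prime_orderOf_dvd_card' 2 hcard
  have hz' : orderOf ((z : (S : Subgroup Y)) : Y) = 2 := by
    rw [orderOf_coe, orderOf_coe]; exact hz
  have hle : (S : Subgroup Y) ≤ centralizer ({((z : (S : Subgroup Y)) : Y)} : Set Y) := by
    intro x hx
    rw [mem_centralizer_singleton_iff]
    exact congrArg Subtype.val (mem_center_iff.mp z.2 ⟨x, hx⟩)
  have h8 := card_le_of_le hle
  rw [h.card hz'] at h8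
  exact (eq_of_le_of_card_ge hS (by rw [h.card hs]; exact h8)).symm

theorem HD8.perfect (h : HD8 Y) {s : Y} (hs : orderOf s = 2) : commutator Y = ⊤ := by
  haveI : Fact (Nat.Prime 2) := ⟨Nat.prime_two⟩
  obtain ⟨S, hS⟩ := h.exists_sylow hs
  have hSle : (S : Subgroup Y) ≤ commutator Y := by rw [hS]; exact h.centralizer_le hs
  have h1 := Sylow.normalizer_sup_eq_top' S hSle
  rw [eq_top_iff, ← h1]
  refine sup_le ?_ le_rfl
  refine le_trans ?_ hSle
  intro x hx
  rw [hS]
  rw [mem_centralizer_singleton_iff]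
  -- x s x⁻¹ = s
  have hsS : s ∈ (S : Subgroup Y) := by rw [hS, mem_centralizer_singleton_iff]
  have h2 : x * s * x⁻¹ ∈ (S : Subgroup Y) := (mem_normalizer_iff.mp hx s).mp hsS
  have hs1 : s ≠ 1 := by rintro rfl; simp at hs
  have h3 : x * s * x⁻¹ = s := by
    apply h.eq_of_central hs
    · rw [← hS]; exact h2
    · intro y hy
      rw [← hS] at hy
      have h4 : x⁻¹ * y * x ∈ (S : Subgroup Y) := by
        have := (mem_normalizer_iff.mp ((normalizer _).inv_mem hx) y).mp hy
        simpa using this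
      rw [hS, mem_centralizer_singleton_iff] at h4
      calc y * (x * s * x⁻¹) = x * (x⁻¹ * y * x * s) * x⁻¹ := by group
        _ = x * (s * (x⁻¹ * y * x)) * x⁻¹ := by rw [h4]
        _ = x * s * x⁻¹ * y := by group
    · intro h5
      apply hs1
      calc s = x⁻¹ * (x * s * x⁻¹) * x := by group
        _ = 1 := by rw [h5]; group
  calc x * s = x * s * x⁻¹ * x := by group
    _ = s * x := by rw [h3]

end Y

section Norm
variable {Y : Type*} [Group Y] [Finite Y]

/-- conjugating a generator into a finite cyclic group is enough to normalise it. -/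
theorem mem_normalizer_zpowers {x y : Y} (h : x * y * x⁻¹ ∈ zpowers y) :
    x ∈ normalizer ((zpowers y : Subgroup Y) : Set Y) := by
  have h1 : (zpowers y).map (MulAut.conj x).toMonoidHom ≤ zpowers y := by
    rw [MonoidHom.map_zpowers, zpowers_le]
    exact h
  have h2 : Nat.card ((zpowers y).map (MulAut.conj x).toMonoidHom) = Nat.card (zpowers y) :=
    card_map_of_injective (MulAut.conj x).injective
  have h3 := eq_of_le_of_card_ge h1 h2.ge
  rw [mem_normalizer_iff]
  intro z
  constructor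
  · intro hz
    have : (MulAut.conj x).toMonoidHom z ∈ (zpowers y).map (MulAut.conj x).toMonoidHom :=
      mem_map_of_mem _ hz
    rw [h3] at this
    exact this
  · intro hz
    have hz' : x * z * x⁻¹ ∈ (zpowers y).map (MulAut.conj x).toMonoidHom := by
      rw [h3]; exact hz
    obtain ⟨u, hu, hu'⟩ := hz'
    have : u = z := (MulAut.conj x).injective hu'
    rw [← this]; exact hu

theorem card_zpowers' (y : Y) : Nat.card (zpowers y) = orderOf y := Nat.card_zpowers y

theorem centralizer_zpowers (y : Y) :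
    centralizer ((zpowers y : Subgroup Y) : Set Y) = centralizer ({y} : Set Y) := by
  ext x
  rw [mem_centralizer_singleton_iff, mem_centralizer_iff]
  constructor
  · intro h
    exact (h y (mem_zpowers y)).symm
  · rintro h z ⟨k, rfl⟩
    have : Commute x y := h
    exact (this.zpow_right k).symm

/-- In a group all of whose involutions have centraliser of order 8, an odd order element `τ` with `3 ∣` or `5 ∣`
order has centraliser of odd order. -/
theorem odd_centralizer (h8 : ∀ s : Y, orderOf s = 2 → Nat.card (centralizer ({s} : Set Y)) = 8)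
    (τ : Y) {p : ℕ} (hp : ¬ p ∣ 8) (hτ : orderOf τ = p) :
    ¬ 2 ∣ Nat.card (centralizer ({τ} : Set Y)) := by
  intro h2
  haveI : Fact (Nat.Prime 2) := ⟨Nat.prime_two⟩
  obtain ⟨s, hs⟩ := exists_prime_orderOf_dvd_card' 2 h2
  have hs' : orderOf (s : Y) = 2 := by rw [orderOf_coe]; exact hs
  have hc := s.2
  rw [mem_centralizer_singleton_iff] at hc
  have hτ' : τ ∈ centralizer ({(s : Y)} : Set Y) := by
    rw [mem_centralizer_singleton_iff]; exact hc.symm
  apply hp
  rw [← hτ, ← h8 s hs', ← orderOf_mk τ hτ']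
  exact orderOf_dvd_natCard _

theorem card_normalizer_eq_ten (h8 : ∀ s : Y, orderOf s = 2 → Nat.card (centralizer ({s} : Set Y)) = 8)
    (hY : Nat.card Y = 360) {y φ : Y} (hy : orderOf y = 5) (hφ : orderOf φ = 2)
    (hφy : φ * y * φ⁻¹ = y⁻¹) :
    Nat.card (normalizer ((zpowers y : Subgroup Y) : Set Y)) = 10 := by
  haveI : Fact (Nat.Prime 5) := ⟨by norm_num⟩
  haveI : Fact (Nat.Prime 3) := ⟨by norm_num⟩
  haveI : Fact (Nat.Prime 2) := ⟨by norm_num⟩
  set N := normalizer ((zpowers y : Subgroup Y) : Set Y) with hN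
  set K := centralizer ({y} : Set Y) with hK
  have hKodd : ¬ 2 ∣ Nat.card K := odd_centralizer h8 y (p := 5) (by norm_num) hy
  have hKN : K ≤ N := by
    rw [hK, ← centralizer_zpowers]; exact J2Type.SylowSeven.centralizer_le_normalizer' _
  have hZ5 : Nat.card (zpowers y) = 5 := by rw [Nat.card_zpowers, hy]
  have hrel : K.relIndex N ∣ 4 := by
    have := J2Type.SylowSeven.relIndex_dvd_of_card_prime (zpowers y) (by norm_num : Nat.Prime 5) hZ5
    rw [centralizer_zpowers] at this
    exact this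
  have hmul := J2Type.SylowSeven.card_mul_relIndex' hKN
  have hφN : φ ∈ N := mem_normalizer_zpowers (by rw [hφy]; exact inv_mem (mem_zpowers y))
  have h2N : 2 ∣ Nat.card N := by
    rw [← hφ, ← orderOf_mk φ hφN]; exact orderOf_dvd_natCard _
  have hyK : y ∈ K := by rw [hK, mem_centralizer_singleton_iff]
  have h5K : 5 ∣ Nat.card K := by
    rw [← hy, ← orderOf_mk y hyK]; exact orderOf_dvd_natCard _
  have hK360 : Nat.card K ∣ 360 := by rw [← hY]; exact card_subgroup_dvd_card _
  have hidx : Nat.card N * N.index = 360 := by rw [← hY]; exact card_mul_index N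
  have hmod : N.index ≡ 1 [MOD 5] := by
    let P : Sylow 5 Y := Sylow.ofCard (zpowers y) (by
      rw [hZ5, hY]
      rw [show 360 = 5 ^ 1 * 72 by norm_num, Nat.factorization_mul (by norm_num) (by norm_num),
        Finsupp.add_apply, Nat.factorization_eq_zero_of_not_dvd (by norm_num : ¬ 5 ∣ 72),
        Nat.Prime.factorization_pow (by norm_num : Nat.Prime 5)]
      simp)
    have h1 := card_sylow_modEq_one 5 Y
    rw [P.card_eq_index_normalizer] at h1
    exact h1
  -- possible values
  have hcases : (Nat.card K = 5 ∧ K.relIndex N = 2) ∨ (Nat.card K = 15 ∧ K.relIndex N = 4) := by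
    generalize Nat.card K = k at *
    generalize K.relIndex N = r at *
    generalize N.index = i at *
    have hr : r ≤ 4 := Nat.le_of_dvd (by norm_num) hrel
    obtain ⟨m, rfl⟩ := h5K
    have hm : 5 * m ≤ 360 := Nat.le_of_dvd (by norm_num) hK360
    have hm' : m ∣ 72 := by
      have : 5 * m ∣ 5 * 72 := hK360
      exact Nat.dvd_of_mul_dvd_mul_left (by norm_num) this
    have hm9 : m ∣ 9 := by
      have : Nat.Coprime m 8 := by
        rw [show 8 = 2 ^ 3 by norm_num]
        apply Nat.Coprime.pow_right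
        rw [Nat.coprime_comm, Nat.Prime.coprime_iff_not_dvd Nat.prime_two]
        intro h; exact hKodd (Dvd.dvd.mul_left h 5)
      exact this.dvd_of_dvd_mul_right (by simpa using hm')
    have hm9' : m ≤ 9 := Nat.le_of_dvd (by norm_num) hm9
    rw [← hmul] at hidx h2N
    unfold Nat.ModEq at hmod
    interval_cases r <;> interval_cases m <;> omega
  rcases hcases with ⟨h1, h2⟩ | ⟨h1, h2⟩
  · rw [← hmul, h1, h2]
  · exfalso
    have hN60 : Nat.card N = 60 := by rw [← hmul, h1, h2]
    obtain ⟨τ', hτ'⟩ := exists_prime_orderOf_dvd_card' (G := K) 3 (by rw [h1]; norm_num)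
    set τ : Y := (τ' : Y) with hτdef
    have hτK : τ ∈ K := τ'.2
    have hτ : orderOf τ = 3 := by rw [hτdef, orderOf_coe]; exact hτ'
    -- uniqueness of the subgroup of order 3 of K
    have huniq : ∀ σ : K, orderOf σ = 3 → σ ∈ zpowers τ' := by
      intro σ hσ
      have hfac : (Nat.card K).factorization 3 = 1 := by
        rw [h1, show 15 = 3 ^ 1 * 5 by norm_num, Nat.factorization_mul (by norm_num) (by norm_num),
          Finsupp.add_apply, Nat.factorization_eq_zero_of_not_dvd (by norm_num : ¬ 3 ∣ 5),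
          Nat.Prime.factorization_pow (by norm_num : Nat.Prime 3)]
        simp
      let P : Sylow 3 K := Sylow.ofCard (zpowers τ') (by rw [Nat.card_zpowers, hτ', hfac]; norm_num)
      let Q : Sylow 3 K := Sylow.ofCard (zpowers σ) (by rw [Nat.card_zpowers, hσ, hfac]; norm_num)
      have hn1 := card_sylow_modEq_one 3 K
      have hn2 : Nat.card (Sylow 3 K) ∣ 5 := by
        have hd := P.card_dvd_index
        have : (P : Subgroup K).index = 5 := by
          have := card_mul_index (P : Subgroup K)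
          have hP : Nat.card (P : Subgroup K) = 3 := by
            show Nat.card (zpowers τ') = 3
            rw [Nat.card_zpowers, hτ']
          rw [hP, h1] at this
          omega
        rwa [this] at hd
      have hn : Nat.card (Sylow 3 K) = 1 := by
        have hle := Nat.le_of_dvd (by norm_num) hn2
        unfold Nat.ModEq at hn1
        interval_cases (Nat.card (Sylow 3 K)) <;> omega
      haveI : Subsingleton (Sylow 3 K) := (Nat.card_eq_one_iff_unique.mp hn).1
      have hPQ : P = Q := Subsingleton.elim _ _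
      have hPQ' : zpowers τ' = zpowers σ := congrArg (fun X : Sylow 3 K => (X : Subgroup K)) hPQ
      rw [hPQ']; exact mem_zpowers σ
    have hNle : N ≤ normalizer ((zpowers τ : Subgroup Y) : Set Y) := by
      intro x hx
      apply mem_normalizer_zpowers
      have hxK : x * τ * x⁻¹ ∈ K := by
        rw [hK, ← centralizer_zpowers, mem_centralizer_iff]
        intro z hz
        have hz' : x⁻¹ * z * x ∈ zpowers y := by
          have := (mem_normalizer_iff.mp (N.inv_mem hx) z).mp hz
          simpa using this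
        have hτ2 : τ ∈ centralizer ((zpowers y : Subgroup Y) : Set Y) := by
          rw [centralizer_zpowers]; exact hτK
        have h3 := mem_centralizer_iff.mp hτ2 _ hz'
        calc z * (x * τ * x⁻¹) = x * (x⁻¹ * z * x * τ) * x⁻¹ := by group
          _ = x * (τ * (x⁻¹ * z * x)) * x⁻¹ := by rw [h3]
          _ = x * τ * x⁻¹ * z := by group
      have hord : orderOf (⟨x * τ * x⁻¹, hxK⟩ : K) = 3 := by
        rw [orderOf_mk]
        have : orderOf (x * τ * x⁻¹) = orderOf τ := by
          have := orderOf_injective (MulAut.conj x).toMonoidHom (MulAut.conj x).injective τ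
          exact this
        rw [this, hτ]
      obtain ⟨k, hk⟩ := huniq _ hord
      refine ⟨k, ?_⟩
      have := congrArg Subtype.val hk
      simpa using this
    have hτ3 : Nat.card (zpowers τ) = 3 := by rw [Nat.card_zpowers, hτ]
    have hrel2 := J2Type.SylowSeven.relIndex_dvd_of_card_prime (zpowers τ) (by norm_num : Nat.Prime 3) hτ3
    have hmul2 := J2Type.SylowSeven.card_mul_relIndex'
      (J2Type.SylowSeven.centralizer_le_normalizer' (zpowers τ))
    have hodd2 : ¬ 2 ∣ Nat.card (centralizer ({τ} : Set Y)) :=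
      odd_centralizer h8 τ (p := 3) (by norm_num) hτ
    rw [centralizer_zpowers] at hrel2 hmul2
    have h60 : 60 ∣ Nat.card (normalizer ((zpowers τ : Subgroup Y) : Set Y)) := by
      rw [← hN60]; exact card_dvd_of_le hNle
    apply hodd2
    rw [← hmul2] at h60
    have hle : (centralizer ({τ} : Set Y)).relIndex
        (normalizer ((zpowers τ : Subgroup Y) : Set Y)) ≤ 2 := Nat.le_of_dvd (by norm_num) hrel2
    generalize Nat.card (centralizer ({τ} : Set Y)) = a at *
    generalize (centralizer ({τ} : Set Y)).relIndex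
        (normalizer ((zpowers τ : Subgroup Y) : Set Y)) = b at *
    interval_cases b
    · simp at hrel2
    · omega
    · omega

end Norm

section C
variable {C : Type*} [Group C] [Finite C]

/-- The structure of a group with a central element `z` of order 3 whose involution centralisers are
`D₈ × ⟨z⟩`. -/
theorem central_three (z y φ : C) (hz : orderOf z = 3) (hzc : ∀ x, x * z = z * x)
    (hy : orderOf y = 5) (hφ : orderOf φ = 2) (hφy : φ * y * φ⁻¹ = y⁻¹)
    (hD : ∀ s : C, orderOf s = 2 → ∃ D : Subgroup C, Nonempty (D ≃* DihedralGroup 4) ∧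
      (∀ d ∈ D, d * s = s * d) ∧ ∀ c : C, c * s = s * c → ∃ d ∈ D, ∃ k : ℕ, c = d * z ^ k) :
    Nat.card C = 1080 ∧ Nat.card (normalizer ((zpowers y : Subgroup C) : Set C)) = 30 ∧
      ∀ x : C, x ∈ normalizer ((zpowers y : Subgroup C) : Set C) → x * φ = φ * x →
        x ^ 3 = 1 ∨ x ^ 3 = φ := by
  have hz3 : z ^ 3 = 1 := by rw [← hz]; exact pow_orderOf_eq_one z
  have hcomm : ∀ x : C, Commute x z := hzc
  haveI hZn : (zpowers z).Normal := by
    constructor
    rintro n ⟨k, rfl⟩ g
    refine ⟨k, ?_⟩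
    have := (hcomm g).zpow_right k
    show z ^ k = g * z ^ k * g⁻¹
    rw [this.eq]; group
  have hZcard : Nat.card (zpowers z) = 3 := by rw [Nat.card_zpowers, hz]
  have hZ3 : ∀ x ∈ zpowers z, x ^ 3 = 1 := by
    rintro x ⟨k, rfl⟩
    show (z ^ k) ^ 3 = 1
    rw [← zpow_natCast, ← zpow_mul, mul_comm, zpow_mul, zpow_natCast, hz3, one_zpow]
  have hZc : ∀ u ∈ zpowers z, ∀ x : C, Commute x u := by
    rintro u ⟨k, rfl⟩ x
    exact (hcomm x).zpow_right k
  let π : C →* C ⧸ zpowers z := QuotientGroup.mk' (zpowers z)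
  have hπs : Function.Surjective π := QuotientGroup.mk'_surjective _
  have hπ1 : ∀ x : C, π x = 1 ↔ x ∈ zpowers z := fun x => QuotientGroup.eq_one_iff x
  -- elements killed by a power coprime to 3 in the kernel
  have hker : ∀ u ∈ zpowers z, ∀ m : ℕ, Nat.Coprime 3 m → u ^ m = 1 → u = 1 := by
    intro u hu m hm h1
    have h3 := orderOf_dvd_of_pow_eq_one (hZ3 u hu)
    have h4 := orderOf_dvd_of_pow_eq_one h1
    have h5 : orderOf u ∣ 1 := by
      have := Nat.dvd_gcd h3 h4
      rwa [hm.gcd_eq_one] at this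
    exact orderOf_eq_one_iff.mp (Nat.dvd_one.mp h5)
  -- order of the image
  have hord : ∀ (x : C) (p : ℕ), p.Prime → Nat.Coprime 3 p → orderOf x = p → orderOf (π x) = p := by
    intro x p hp h3p hx
    haveI : Fact p.Prime := ⟨hp⟩
    rw [orderOf_eq_prime_iff]
    constructor
    · rw [← map_pow, ← hx, pow_orderOf_eq_one, map_one]
    · intro h1
      rw [hπ1] at h1
      have h2 := hker x h1 p h3p (by rw [← hx]; exact pow_orderOf_eq_one x)
      rw [h2, orderOf_one] at hx
      exact hp.one_lt.ne hx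
  -- commuting lifts
  have hlift : ∀ (x s : C), s ^ 2 = 1 → π x * π s = π s * π x → x * s = s * x := by
    intro x s hs h
    have h1 : (s * x)⁻¹ * (x * s) ∈ zpowers z := by
      rw [← hπ1, map_mul, map_inv, map_mul, map_mul, h]; group
    set u := (s * x)⁻¹ * (x * s) with hu
    have h2 : x * s = s * x * u := by rw [hu]; group
    have h3 : x * s * x⁻¹ = s * u := by
      have := hZc u h1 x⁻¹
      calc x * s * x⁻¹ = s * x * u * x⁻¹ := by rw [h2]
        _ = s * x * (u * x⁻¹) := by group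
        _ = s * x * (x⁻¹ * u) := by rw [this.eq]
        _ = s * u := by group
    have h4 : u ^ 2 = 1 := by
      have h5 : (x * s * x⁻¹) ^ 2 = 1 := by
        rw [conj_pow, hs]; group
      rw [h3, (hZc u h1 s).mul_pow, hs, one_mul] at h5
      exact h5
    rw [h2, hker u h1 2 (by norm_num) h4, mul_one]
  have hHD8 : HD8 (C ⧸ zpowers z) := by
    intro s' hs'
    obtain ⟨c, rfl⟩ := hπs s'
    have hc2 : c ^ 2 ∈ zpowers z := by
      rw [← hπ1, map_pow, ← hs']; exact pow_orderOf_eq_one _
    have hc1 : π c ≠ 1 := by intro h; rw [h, orderOf_one] at hs'; norm_num at hs'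
    have hπc2 : π c ^ 2 = 1 := by rw [← hs']; exact pow_orderOf_eq_one _
    have hs2 : (c ^ 3) ^ 2 = 1 := by
      rw [← pow_mul, mul_comm, pow_mul]; exact hZ3 _ hc2
    have hπs3 : π (c ^ 3) = π c := by
      rw [map_pow, pow_succ, hπc2, one_mul]
    have hs : orderOf (c ^ 3) = 2 := by
      rw [orderOf_eq_prime_iff]
      refine ⟨hs2, ?_⟩
      intro h
      apply hc1
      rw [← hπs3, h, map_one]
    obtain ⟨D, ⟨e⟩, hDs, hDc⟩ := hD (c ^ 3) hs
    have hmem : ∀ d : D, π d ∈ centralizer ({π c} : Set (C ⧸ zpowers z)) := by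
      intro d
      rw [mem_centralizer_singleton_iff, ← hπs3, ← map_mul, ← map_mul, hDs d d.2]
    let f : D →* centralizer ({π c} : Set (C ⧸ zpowers z)) :=
      (π.comp D.subtype).codRestrict _ hmem
    have hf : Function.Bijective f := by
      constructor
      · rw [injective_iff_map_eq_one]
        intro d hd
        have h1 : π (d : C) = 1 := congrArg Subtype.val hd
        rw [hπ1] at h1
        have h8 : d ^ 8 = 1 := by
          have : Nat.card D = 8 := by rw [Nat.card_congr e.toEquiv, dih_card]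
          rw [← this]; exact pow_card_eq_one'
        have h8' : (d : C) ^ 8 = 1 := by
          have := congrArg Subtype.val h8
          simpa using this
        exact Subtype.ext (hker _ h1 8 (by norm_num) h8')
      · rintro ⟨x', hx'⟩
        obtain ⟨x, rfl⟩ := hπs x'
        rw [mem_centralizer_singleton_iff, ← hπs3] at hx'
        obtain ⟨d, hd, k, hk⟩ := hDc x (hlift x _ hs2 hx')
        refine ⟨⟨d, hd⟩, Subtype.ext ?_⟩
        show π d = π x
        rw [hk, map_mul, map_pow, (hπ1 z).mpr (mem_zpowers z), one_pow, mul_one]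
    exact ⟨(MulEquiv.ofBijective f hf).symm.trans e⟩
  have hφ' : orderOf (π φ) = 2 := hord φ 2 Nat.prime_two (by norm_num) hφ
  have hy' : orderOf (π y) = 5 := hord y 5 (by norm_num) (by norm_num) hy
  have hYcard : Nat.card (C ⧸ zpowers z) = 360 := by
    have hperf := hHD8.perfect hφ'
    obtain ⟨e⟩ := hHD8 _ hφ'
    have h5 : 5 ∣ Nat.card (C ⧸ zpowers z) := by rw [← hy']; exact orderOf_dvd_natCard _
    rcases Cfsg.Agent.S0848.result hperf (π φ) hφ' e with h | h
    · rw [h] at h5; norm_num at h5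
    · exact h
  have hCcard : Nat.card C = 1080 := by
    rw [card_eq_card_quotient_mul_card_subgroup (zpowers z), hYcard, hZcard]
  have h8 : ∀ s : C ⧸ zpowers z, orderOf s = 2 →
      Nat.card (centralizer ({s} : Set (C ⧸ zpowers z))) = 8 := fun s hs => hHD8.card hs
  have hφy' : π φ * π y * (π φ)⁻¹ = (π y)⁻¹ := by
    rw [← map_inv, ← map_inv, ← map_mul, ← map_mul, hφy]
  have h10 := card_normalizer_eq_ten h8 hYcard hy' hφ' hφy'
  -- the normaliser of ⟨y⟩ is the full preimage
  have hcomap : normalizer ((zpowers y : Subgroup C) : Set C) =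
      (normalizer ((zpowers (π y) : Subgroup (C ⧸ zpowers z)) : Set (C ⧸ zpowers z))).comap π := by
    ext x
    rw [mem_comap]
    constructor
    · intro hx
      apply mem_normalizer_zpowers
      obtain ⟨k, hk⟩ := (mem_normalizer_iff.mp hx y).mp (mem_zpowers y)
      refine ⟨k, ?_⟩
      have hk' : y ^ k = x * y * x⁻¹ := hk
      show π y ^ k = _
      rw [← map_inv, ← map_mul, ← map_mul, ← map_zpow, hk']
    · intro hx
      apply mem_normalizer_zpowers
      obtain ⟨k, hk⟩ := (mem_normalizer_iff.mp hx (π y)).mp (mem_zpowers (π y))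
      have hk' : π y ^ k = π x * π y * (π x)⁻¹ := hk
      have hu : (y ^ k)⁻¹ * (x * y * x⁻¹) ∈ zpowers z := by
        rw [← hπ1, map_mul, map_inv, map_zpow, map_mul, map_mul, map_inv, hk']; group
      set u := (y ^ k)⁻¹ * (x * y * x⁻¹) with hudef
      have h1 : x * y * x⁻¹ = y ^ k * u := by rw [hudef]; group
      have hy5 : y ^ 5 = 1 := by rw [← hy]; exact pow_orderOf_eq_one y
      have h2 : u ^ 5 = 1 := by
        have h3 : (x * y * x⁻¹) ^ 5 = 1 := by rw [conj_pow, hy5]; group
        rw [h1, (hZc u hu (y ^ k)).mul_pow] at h3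
        have h4 : (y ^ k) ^ 5 = 1 := by
          rw [← zpow_natCast, ← zpow_mul, mul_comm, zpow_mul, zpow_natCast, hy5, one_zpow]
        rw [h4, one_mul] at h3
        exact h3
      rw [hker u hu 5 (by norm_num) h2, mul_one] at h1
      rw [h1]; exact ⟨k, rfl⟩
  have h30 : Nat.card (normalizer ((zpowers y : Subgroup C) : Set C)) = 30 := by
    have h1 := card_mul_index (normalizer ((zpowers y : Subgroup C) : Set C))
    have h2 := card_mul_index
      (normalizer ((zpowers (π y) : Subgroup (C ⧸ zpowers z)) : Set (C ⧸ zpowers z)))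
    rw [h10, hYcard] at h2
    have h3 : (normalizer ((zpowers y : Subgroup C) : Set C)).index =
        (normalizer ((zpowers (π y) : Subgroup (C ⧸ zpowers z)) : Set (C ⧸ zpowers z))).index := by
      rw [hcomap]; exact index_comap_of_surjective _ hπs
    rw [h3, hCcard] at h1
    have h4 : (normalizer ((zpowers (π y) : Subgroup (C ⧸ zpowers z)) : Set (C ⧸ zpowers z))).index = 36 := by
      omega
    rw [h4] at h1
    omega
  refine ⟨hCcard, h30, ?_⟩
  intro x hx hxφ
  -- intersect with the centraliser of π φ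
  set N := normalizer ((zpowers (π y) : Subgroup (C ⧸ zpowers z)) : Set (C ⧸ zpowers z)) with hN
  set Q : Subgroup (C ⧸ zpowers z) := N ⊓ centralizer ({π φ} : Set (C ⧸ zpowers z)) with hQ
  have hQ1 : Nat.card Q ∣ 10 := by rw [← h10]; exact card_dvd_of_le inf_le_left
  have hQ2 : Nat.card Q ∣ 8 := by rw [← h8 _ hφ']; exact card_dvd_of_le inf_le_right
  have hQ3 : Nat.card Q ∣ 2 := by
    have := Nat.dvd_gcd hQ1 hQ2
    simpa using this
  have hxQ : π x ∈ Q := by
    refine mem_inf.mpr ⟨?_, ?_⟩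
    · rw [hcomap] at hx; exact hx
    · rw [mem_centralizer_singleton_iff, ← map_mul, ← map_mul, hxφ]
  have hφQ : π φ ∈ Q := by
    refine mem_inf.mpr ⟨?_, ?_⟩
    · apply mem_normalizer_zpowers; rw [hφy']; exact inv_mem (mem_zpowers _)
    · rw [mem_centralizer_singleton_iff]
  have hQφ : zpowers (π φ) = Q := by
    apply eq_of_le_of_card_ge
    · rw [zpowers_le]; exact hφQ
    · rw [Nat.card_zpowers, hφ']; exact Nat.le_of_dvd (by norm_num) hQ3
  rw [← hQφ] at hxQ
  obtain ⟨k, hk⟩ := hxQ
  have hk' : π φ ^ k = π x := hk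
  have hφ2 : φ ^ 2 = 1 := by rw [← hφ]; exact pow_orderOf_eq_one φ
  rcases Int.even_or_odd' k with ⟨m, hm | hm⟩
  · left
    apply hZ3
    rw [← hπ1, ← hk', hm, zpow_mul, ← map_zpow]
    have : φ ^ (2 : ℤ) = 1 := by exact_mod_cast hφ2
    rw [this, map_one, one_zpow]
  · right
    have hφ2' : φ ^ (2 : ℤ) = 1 := by exact_mod_cast hφ2
    have hu : φ⁻¹ * x ∈ zpowers z := by
      rw [← hπ1, map_mul, map_inv, ← hk', hm, zpow_add, zpow_mul, ← map_zpow, hφ2', map_one, one_zpow]
      group
    have h1 : x = φ * (φ⁻¹ * x) := by group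
    have h2 := hZ3 _ hu
    have h3 := hZc _ hu φ
    rw [h1, h3.mul_pow, h2, mul_one, pow_succ, hφ2, one_mul]

end C

theorem exists_w {G : Type*} [Group G] [Finite G] (g y φ n : G) (hg : orderOf g = 3)
    (hy : orderOf y = 5) (hφ : orderOf φ = 2) (hgy : g * y = y * g) (hgφ : g * φ = φ * g)
    (hφy : φ * y * φ⁻¹ = y⁻¹) (hnφ : n * φ = φ * n) (hng : n * g * n⁻¹ = g⁻¹)
    (hD : ∀ s : G, orderOf s = 2 → s * g = g * s → ∃ D : Subgroup G,
      Nonempty (D ≃* DihedralGroup 4) ∧ (∀ d ∈ D, d * s = s * d ∧ d * g = g * d) ∧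
      ∀ c : G, c * s = s * c → c * g = g * c → ∃ d ∈ D, ∃ k : ℕ, c = d * g ^ k) :
    Nat.card (Subgroup.centralizer ({g} : Set G)) = 1080 ∧
      ∃ w : G, w * φ = φ * w ∧ w * g * w⁻¹ = g⁻¹ ∧ (∃ k : ℕ, w * y * w⁻¹ = y ^ k) ∧
        (w * w = 1 ∨ w * w = φ) := by
  haveI : Fact (Nat.Prime 5) := ⟨by norm_num⟩
  haveI : Fact (Nat.Prime 2) := ⟨by norm_num⟩
  set C := Subgroup.centralizer ({g} : Set G) with hC
  have memC : ∀ x : G, x ∈ C ↔ x * g = g * x := fun x => mem_centralizer_singleton_iff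
  have hgC : g ∈ C := (memC g).mpr rfl
  have hyC : y ∈ C := (memC y).mpr hgy.symm
  have hφC : φ ∈ C := (memC φ).mpr hgφ.symm
  obtain ⟨hcard, h30, hQ⟩ := central_three (C := C) ⟨g, hgC⟩ ⟨y, hyC⟩ ⟨φ, hφC⟩
    (by rw [orderOf_mk]; exact hg)
    (fun x => Subtype.ext ((memC x).mp x.2))
    (by rw [orderOf_mk]; exact hy) (by rw [orderOf_mk]; exact hφ)
    (Subtype.ext hφy) (by
      intro s hs
      obtain ⟨D, ⟨e⟩, hD1, hD2⟩ := hD s (by rw [orderOf_coe]; exact hs) ((memC s).mp s.2)
      have hDC : D ≤ C := fun d hd => (memC d).mpr (hD1 d hd).2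
      refine ⟨D.subgroupOf C, ⟨(subgroupOfEquivOfLe hDC).trans e⟩, ?_, ?_⟩
      · intro d hd
        exact Subtype.ext (hD1 d hd).1
      · intro c hc
        obtain ⟨d, hd, k, hk⟩ := hD2 c (congrArg Subtype.val hc) ((memC c).mp c.2)
        exact ⟨⟨d, hDC hd⟩, hd, k, Subtype.ext hk⟩)
  refine ⟨hcard, ?_⟩
  set yC : C := ⟨y, hyC⟩ with hyCdef
  set φC : C := ⟨φ, hφC⟩ with hφCdef
  -- conjugation by `n` stabilises `C`
  have hinv : ∀ m : G, m * g * m⁻¹ = g⁻¹ → ∀ x ∈ C, m * x * m⁻¹ ∈ C := by
    intro m hm x hx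
    rw [memC] at hx ⊢
    have h1 : m * g⁻¹ * m⁻¹ = g := by
      have h2 := congrArg (fun t => t⁻¹) hm
      simp only [inv_inv] at h2
      calc m * g⁻¹ * m⁻¹ = (m * g * m⁻¹)⁻¹ := by group
        _ = g := h2
    calc m * x * m⁻¹ * g = m * x * m⁻¹ * (m * g⁻¹ * m⁻¹) := by rw [h1]
      _ = m * (x * g⁻¹) * m⁻¹ := by group
      _ = m * (g⁻¹ * x) * m⁻¹ := by
        have : x * g⁻¹ = g⁻¹ * x := (Commute.inv_right (show Commute x g from hx)).eq
        rw [this]
      _ = (m * g⁻¹ * m⁻¹) * (m * x * m⁻¹) := by group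
      _ = g * (m * x * m⁻¹) := by rw [h1]
  have hfac5 : (Nat.card C).factorization 5 = 1 := by
    rw [hcard, show 1080 = 5 ^ 1 * 216 by norm_num, Nat.factorization_mul (by norm_num) (by norm_num),
      Finsupp.add_apply, Nat.factorization_eq_zero_of_not_dvd (by norm_num : ¬ 5 ∣ 216),
      Nat.Prime.factorization_pow (by norm_num : Nat.Prime 5)]
    simp
  have hyCo : orderOf yC = 5 := by rw [hyCdef, orderOf_mk]; exact hy
  have hy'C : n * y * n⁻¹ ∈ C := hinv n hng y hyC
  have hy'o : orderOf (⟨n * y * n⁻¹, hy'C⟩ : C) = 5 := by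
    rw [orderOf_mk, ← hy]
    exact orderOf_injective (MulAut.conj n).toMonoidHom (MulAut.conj n).injective y
  let P : Sylow 5 C := Sylow.ofCard (zpowers yC) (by rw [Nat.card_zpowers, hyCo, hfac5]; norm_num)
  let P' : Sylow 5 C := Sylow.ofCard (zpowers (⟨n * y * n⁻¹, hy'C⟩ : C))
    (by rw [Nat.card_zpowers, hy'o, hfac5]; norm_num)
  obtain ⟨c, hc⟩ := MulAction.exists_smul_eq C P' P
  have hc' : c * ⟨n * y * n⁻¹, hy'C⟩ * c⁻¹ ∈ zpowers yC := by
    have h1 : c * ⟨n * y * n⁻¹, hy'C⟩ * c⁻¹ ∈ (P : Subgroup C) := by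
      rw [← hc]
      rw [Sylow.coe_subgroup_smul]
      exact ⟨_, mem_zpowers _, rfl⟩
    exact h1
  set v : G := (c : G) * n with hv
  have hvy : v * y * v⁻¹ ∈ zpowers y := by
    obtain ⟨k, hk⟩ := hc'
    refine ⟨k, ?_⟩
    have h1 : y ^ k = (c : G) * (n * y * n⁻¹) * (c : G)⁻¹ := congrArg Subtype.val hk
    show y ^ k = v * y * v⁻¹
    rw [h1, hv]; group
  have hcg : (c : G) * g⁻¹ * (c : G)⁻¹ = g⁻¹ := by
    have h1 : Commute (c : G) g⁻¹ := Commute.inv_right (show Commute (c : G) g from (memC c).mp c.2)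
    rw [h1.eq]; group
  have hvg : v * g * v⁻¹ = g⁻¹ := by
    calc v * g * v⁻¹ = (c : G) * (n * g * n⁻¹) * (c : G)⁻¹ := by rw [hv]; group
      _ = g⁻¹ := by rw [hng, hcg]
  have hvN : v ∈ normalizer ((zpowers y : Subgroup G) : Set G) := mem_normalizer_zpowers hvy
  have hφN : φ ∈ normalizer ((zpowers y : Subgroup G) : Set G) :=
    mem_normalizer_zpowers (by rw [hφy]; exact inv_mem (mem_zpowers y))
  -- passage between the two normalisers
  have hRG : ∀ x : G, ∀ hx : x ∈ C, x ∈ normalizer ((zpowers y : Subgroup G) : Set G) →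
      (⟨x, hx⟩ : C) ∈ normalizer ((zpowers yC : Subgroup C) : Set C) := by
    intro x hx hxN
    apply mem_normalizer_zpowers
    obtain ⟨k, hk⟩ := (mem_normalizer_iff.mp hxN y).mp (mem_zpowers y)
    exact ⟨k, Subtype.ext hk⟩
  have hGR : ∀ x : C, x ∈ normalizer ((zpowers yC : Subgroup C) : Set C) →
      (x : G) ∈ normalizer ((zpowers y : Subgroup G) : Set G) := by
    intro x hx
    apply mem_normalizer_zpowers
    obtain ⟨k, hk⟩ := (mem_normalizer_iff.mp hx yC).mp (mem_zpowers yC)
    exact ⟨k, congrArg Subtype.val hk⟩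
  set R := normalizer ((zpowers yC : Subgroup C) : Set C) with hR
  have hφ'C : v * φ * v⁻¹ ∈ C := hinv v hvg φ hφC
  have hφ'R : (⟨v * φ * v⁻¹, hφ'C⟩ : C) ∈ R :=
    hRG _ _ (mul_mem (mul_mem hvN hφN) (inv_mem hvN))
  have hφR : φC ∈ R := hRG _ _ hφN
  have hfac2 : (Nat.card R).factorization 2 = 1 := by
    rw [h30, show 30 = 2 ^ 1 * 15 by norm_num, Nat.factorization_mul (by norm_num) (by norm_num),
      Finsupp.add_apply, Nat.factorization_eq_zero_of_not_dvd (by norm_num : ¬ 2 ∣ 15),
      Nat.Prime.factorization_pow (by norm_num : Nat.Prime 2)]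
    simp
  have ho1 : orderOf (⟨φC, hφR⟩ : R) = 2 := by rw [orderOf_mk, hφCdef, orderOf_mk]; exact hφ
  have ho2 : orderOf (⟨⟨v * φ * v⁻¹, hφ'C⟩, hφ'R⟩ : R) = 2 := by
    rw [orderOf_mk, orderOf_mk, ← hφ]
    exact orderOf_injective (MulAut.conj v).toMonoidHom (MulAut.conj v).injective φ
  let S : Sylow 2 R := Sylow.ofCard (zpowers (⟨φC, hφR⟩ : R))
    (by rw [Nat.card_zpowers, ho1, hfac2]; norm_num)
  let S' : Sylow 2 R := Sylow.ofCard (zpowers (⟨⟨v * φ * v⁻¹, hφ'C⟩, hφ'R⟩ : R))
    (by rw [Nat.card_zpowers, ho2, hfac2]; norm_num)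
  obtain ⟨r, hr⟩ := MulAction.exists_smul_eq R S' S
  have hr' : r * ⟨⟨v * φ * v⁻¹, hφ'C⟩, hφ'R⟩ * r⁻¹ ∈ zpowers (⟨φC, hφR⟩ : R) := by
    have h1 : r * ⟨⟨v * φ * v⁻¹, hφ'C⟩, hφ'R⟩ * r⁻¹ ∈ (S : Subgroup R) := by
      rw [← hr]
      rw [Sylow.coe_subgroup_smul]
      exact ⟨_, mem_zpowers _, rfl⟩
    exact h1
  set rG : G := ((r : C) : G) with hrG
  have hφ2 : φ ^ (2 : ℤ) = 1 := by
    have := pow_orderOf_eq_one φ
    rw [hφ] at this; exact_mod_cast this
  have hφ1 : φ ≠ 1 := by rintro rfl; simp at hφ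
  have hrφ : rG * (v * φ * v⁻¹) * rG⁻¹ = φ := by
    obtain ⟨k, hk⟩ := hr'
    have h1 : φ ^ k = rG * (v * φ * v⁻¹) * rG⁻¹ :=
      congrArg (fun t : R => ((t : C) : G)) hk
    rcases Int.even_or_odd' k with ⟨m, hm | hm⟩
    · exfalso
      rw [hm, zpow_mul, hφ2, one_zpow] at h1
      apply hφ1
      calc φ = (rG * v)⁻¹ * (rG * (v * φ * v⁻¹) * rG⁻¹) * (rG * v) := by group
        _ = 1 := by rw [← h1]; group
    · rw [← h1, hm, zpow_add, zpow_mul, hφ2, one_zpow, one_mul, zpow_one]
  set w : G := rG * v with hw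
  have hwφ : w * φ = φ * w := by
    calc w * φ = rG * (v * φ * v⁻¹) * rG⁻¹ * w := by rw [hw]; group
      _ = φ * w := by rw [hrφ]
  have hrg : rG * g⁻¹ * rG⁻¹ = g⁻¹ := by
    have h1 : Commute rG g⁻¹ := Commute.inv_right (show Commute rG g from (memC rG).mp (r : C).2)
    rw [h1.eq]; group
  have hwg : w * g * w⁻¹ = g⁻¹ := by
    calc w * g * w⁻¹ = rG * (v * g * v⁻¹) * rG⁻¹ := by rw [hw]; group
      _ = g⁻¹ := by rw [hvg, hrg]
  have hwg' : w * g⁻¹ * w⁻¹ = g := by
    calc w * g⁻¹ * w⁻¹ = (w * g * w⁻¹)⁻¹ := by group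
      _ = g := by rw [hwg, inv_inv]
  have hwN : w ∈ normalizer ((zpowers y : Subgroup G) : Set G) := mul_mem (hGR _ r.2) hvN
  have hwwC : w * w ∈ C := by
    rw [memC]
    calc w * w * g = w * (w * g * w⁻¹) * w⁻¹ * (w * w) := by group
      _ = g * (w * w) := by rw [hwg, hwg']
  have hwwR : (⟨w * w, hwwC⟩ : C) ∈ R := hRG _ _ (mul_mem hwN hwN)
  have hww := hQ ⟨w * w, hwwC⟩ hwwR (Subtype.ext (by
    show w * w * φ = φ * (w * w)
    rw [mul_assoc, hwφ, ← mul_assoc, hwφ, mul_assoc]))
  have h6 : (w * w * w) * (w * w * w) = (w * w) ^ 3 := by simp only [pow_succ, pow_zero, one_mul, mul_assoc]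
  refine ⟨w * w * w, ?_, ?_, ?_, ?_⟩
  · have h1 : Commute w φ := hwφ
    exact ((h1.mul_left h1).mul_left h1).eq
  · calc w * w * w * g * (w * w * w)⁻¹ = w * (w * (w * g * w⁻¹) * w⁻¹) * w⁻¹ := by group
      _ = g⁻¹ := by rw [hwg, hwg', hwg]
  · have h1 : w * w * w ∈ normalizer ((zpowers y : Subgroup G) : Set G) :=
      mul_mem (mul_mem hwN hwN) hwN
    have h2 := (mem_normalizer_iff.mp h1 y).mp (mem_zpowers y)
    have h3 := mem_powers_iff_mem_zpowers.mpr h2
    obtain ⟨k, hk⟩ := h3
    exact ⟨k, hk.symm⟩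
  · rw [h6]
    rcases hww with h | h
    · left; exact congrArg Subtype.val h
    · right; exact congrArg Subtype.val h

end Cfsg.Agent.J3Type.ExistsW
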