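import Mathlib
import Cfsg.Agent.J2Type.CStruct
import Cfsg.Agent.J2Type.ModelExists

set_option autoImplicit false

/-!
# Groups with one class of involutions and centraliser `2^{1+4}_-.A₅`
-/

namespace Cfsg.Agent.J3Type.OneClass

open Cfsg.Agent.J2Type.Model Cfsg.Agent.J2Type.SPFacts Cfsg.Agent.J2Type.CStruct

/-- conjugation equivalence of centralisers -/
def conjEquiv {G : Type*} [Group G] (g t s : G) (h : g * t * g⁻¹ = s) :
    Subgroup.centralizer ({t} : Set G) ≃* Subgroup.centralizer ({s} : Set G) where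
  toFun c := ⟨g * c * g⁻¹, by
    rw [Subgroup.mem_centralizer_singleton_iff]
    have hc := Subgroup.mem_centralizer_singleton_iff.1 c.2
    rw [← h]
    calc g * c * g⁻¹ * (g * t * g⁻¹) = g * (c * t) * g⁻¹ := by group
      _ = g * (t * c) * g⁻¹ := by rw [hc]
      _ = _ := by group⟩
  invFun c := ⟨g⁻¹ * c * g, by
    rw [Subgroup.mem_centralizer_singleton_iff]
    have hc := Subgroup.mem_centralizer_singleton_iff.1 c.2
    have ht : t = g⁻¹ * s * g := by rw [← h]; group
    rw [ht]
    calc g⁻¹ * c * g * (g⁻¹ * s * g) = g⁻¹ * (c * s) * g := by group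
      _ = g⁻¹ * (s * c) * g := by rw [hc]
      _ = _ := by group⟩
  left_inv c := by
    apply Subtype.ext
    change g⁻¹ * (g * c * g⁻¹) * g = c
    group
  right_inv c := by
    apply Subtype.ext
    change g * (g⁻¹ * c * g) * g⁻¹ = c
    group
  map_mul' a b := by
    apply Subtype.ext
    change g * (a * b) * g⁻¹ = (g * a * g⁻¹) * (g * b * g⁻¹)
    group

theorem zp_map {C C' : Type*} [Group C] [Group C'] (e : C ≃* C') (z : C) (a : ZMod 2) :
    e (zp z a) = zp (e z) a := by
  rcases zmod2_cases a with rfl | rfl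
  · rw [zp_zero, zp_zero, map_one]
  · rw [zp_one, zp_one]

/-- transport of a model along an isomorphism -/
theorem transport {C C' : Type*} [Group C] [Group C'] (e : C ≃* C') {Q : Subgroup C} {z : C}
    {v : Fin 5 → C} {ρ : C →* SP} (M : IsModel Q z v ρ) :
    IsModel (Q.map e.toMonoidHom) (e z) (fun i => e (v i)) (ρ.comp e.symm.toMonoidHom) where
  z_ne := by
    intro h
    apply M.z_ne
    rw [← map_one e] at h
    exact e.injective h
  z_sq := by rw [← map_mul, M.z_sq, map_one]
  z_comm := by
    intro c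
    have := congrArg e (M.z_comm (e.symm c))
    rwa [map_mul, map_mul, e.apply_symm_apply] at this
  z_mem := ⟨z, M.z_mem, rfl⟩
  v_mem := fun i => ⟨v i, M.v_mem i, rfl⟩
  v_sq := by
    intro i
    rw [← map_mul, M.v_sq, map_one]
  v_anti := by
    intro i j hij
    rw [← map_mul, M.v_anti i j hij, map_mul, map_mul]
  v_prod := by
    rw [← map_mul, ← map_mul, ← map_mul, ← map_mul, M.v_prod, map_one]
  v_inj := by
    intro a b i j h
    rw [← zp_map, ← zp_map, ← map_mul, ← map_mul] at h
    exact M.v_inj a b i j (e.injective h)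
  conj := by
    intro c i
    have := congrArg e (M.conj (e.symm c) i)
    rw [map_mul, map_mul, map_inv, e.apply_symm_apply, map_mul, zp_map] at this
    exact this
  ker := by
    intro c
    change ρ (e.symm c) = 1 ↔ _
    rw [M.ker]
    constructor
    · rintro (h | h)
      · left; rw [← e.apply_symm_apply c, h, map_one]
      · right; rw [← e.apply_symm_apply c, h]
    · rintro (h | h)
      · left; rw [h, map_one]
      · right; rw [h, e.symm_apply_apply]
  range := by
    intro g
    rw [← M.range]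
    constructor
    · rintro ⟨c, hc⟩; exact ⟨e.symm c, hc⟩
    · rintro ⟨c, hc⟩
      refine ⟨e c, ?_⟩
      change ρ (e.symm (e c)) = g
      rw [e.symm_apply_apply, hc]
  mem_Q := by
    intro c
    change _ ↔ (ρ (e.symm c)).σ = 1
    rw [← M.mem_Q]
    constructor
    · rintro ⟨d, hd, rfl⟩
      have : e.symm (e.toMonoidHom d) = d := e.symm_apply_apply d
      rw [this]; exact hd
    · intro h
      exact ⟨e.symm c, h, e.apply_symm_apply c⟩
  cover := by
    rintro _ ⟨q, hq, rfl⟩
    rcases M.cover q hq with ⟨a, h⟩ | ⟨a, i, h⟩ | ⟨a, i, j, hij, h⟩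
    · left; exact ⟨a, by rw [h]; exact zp_map e z a⟩
    · right; left
      refine ⟨a, i, ?_⟩
      rw [h]
      change e (zp z a * v i) = _
      rw [map_mul, zp_map]
    · right; right
      refine ⟨a, i, j, hij, ?_⟩
      rw [h]
      change e (zp z a * (v i * v j)) = _
      rw [map_mul, map_mul, zp_map]

/-- `z` as an element of its own centraliser -/
abbrev zc {G : Type*} [Group G] (t : G) : Subgroup.centralizer ({t} : Set G) :=
  ⟨t, Subgroup.mem_centralizer_singleton_iff.2 rfl⟩

/-- the involution `t` has a centraliser with a model -/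
def HasModel {G : Type*} [Group G] (t : G) : Prop :=
  orderOf t = 2 ∧ Nat.card (Subgroup.centralizer ({t} : Set G)) = 1920 ∧
  ∃ (Q : Subgroup (Subgroup.centralizer ({t} : Set G)))
    (v : Fin 5 → Subgroup.centralizer ({t} : Set G))
    (ρ : Subgroup.centralizer ({t} : Set G) →* SP), IsModel Q (zc t) v ρ

theorem HasModel.conj {G : Type*} [Group G] {t s : G} (h : HasModel t) (g : G)
    (hg : g * t * g⁻¹ = s) : HasModel s := by
  obtain ⟨h2, hc, Q, v, ρ, M⟩ := h
  refine ⟨?_, ?_, ?_⟩
  · rw [← hg, ← MulAut.conj_apply]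
    rw [← h2]
    exact orderOf_injective (MulAut.conj g).toMonoidHom (MulAut.conj g).injective t
  · rw [← hc]
    exact (Nat.card_congr (conjEquiv g t s hg).toEquiv).symm
  · have hz : conjEquiv g t s hg (zc t) = zc s := Subtype.ext hg
    have := transport (conjEquiv g t s hg) M
    rw [hz] at this
    exact ⟨_, _, _, this⟩

theorem normal_Q {C : Type*} [Group C] {Q : Subgroup C} {z : C} {v : Fin 5 → C} {ρ : C →* SP}
    (M : IsModel Q z v ρ) : Q.Normal := by
  constructor
  intro q hq g
  rw [M.mem_Q] at hq ⊢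
  rw [map_mul, map_mul, mul_σ, mul_σ, hq, mul_one, map_inv, inv_σ, mul_inv_cancel]

section Roots

variable {C : Type*} [Group C] {Q : Subgroup C} {z : C} {v : Fin 5 → C} {ρ : C →* SP}

/-- sign pattern of `v j * v k` -/
def rr (j k m : Fin 5) : ZMod 2 := (if m = k then 0 else 1) + (if m = j then 0 else 1)

theorem rho_vv (M : IsModel Q z v ρ) (j k : Fin 5) : ρ (v j * v k) = ⟨1, rr j k⟩ := by
  rw [map_mul, rho_v M, rho_v M]
  apply SP.ext
  · rw [mul_σ]; rfl
  · funext m
    rw [mul_s]; rfl

theorem root_facts (M : IsModel Q z v ρ) {y : C} {a : ZMod 2} {i : Fin 5}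
    (hy : y * y = zp z a * v i) :
    (ρ y).σ * (ρ y).σ = 1 ∧ (ρ y).σ i = i ∧
      ∀ j, (ρ y).s j + (ρ y).s ((ρ y).σ j) = if j = i then 0 else 1 := by
  have h1 : ρ y * ρ y = ⟨1, fun j => if j = i then 0 else 1⟩ := by
    rw [← map_mul, hy, map_mul, rho_zp M, one_mul, rho_v M]
  refine ⟨?_, ?_, ?_⟩
  · rw [← mul_σ, h1]
  · have h2 : y * v i * y⁻¹ = zp z 0 * v i := by
      have h3 : y * (zp z a * v i) = (zp z a * v i) * y := by rw [← hy]; group
      have h4 : v i = zp z a * (y * y) := by
        rw [hy, ← mul_assoc, zp_sq M, one_mul]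
      rw [zp_zero, one_mul]
      have h5 : y * v i = v i * y := by
        rw [h4]
        calc y * (zp z a * (y * y)) = (y * zp z a) * (y * y) := by group
          _ = (zp z a * y) * (y * y) := by rw [zp_comm' M]
          _ = _ := by group
      rw [h5]; group
    rw [M.conj] at h2
    exact (M.v_inj _ _ _ _ h2).2
  · intro j
    have := congrArg (fun g : SP => g.s j) h1
    exact this

theorem root_ne (M : IsModel Q z v ρ) {y : C} {a : ZMod 2} {i : Fin 5}
    (hy : y * y = zp z a * v i) {j : Fin 5} (hj : j ≠ i) : (ρ y).σ j ≠ j := by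
  intro h
  have := (root_facts M hy).2.2 j
  rw [h, if_neg hj, CharTwo.add_self_eq_zero] at this
  exact zero_ne_one this

theorem exists_jk_aux : ∀ (σ : Equiv.Perm (Fin 5)) (i : Fin 5), σ * σ = 1 → σ i = i →
    (∀ j, j ≠ i → σ j ≠ j) → ∃ j k : Fin 5, j ≠ k ∧ j ≠ i ∧ k ≠ i ∧
      ∀ m, rr j k m + rr j k (σ⁻¹ m) = if m = i then 0 else 1 := by
  decide +kernel

theorem exists_jk (M : IsModel Q z v ρ) {y : C} {a : ZMod 2} {i : Fin 5}
    (hy : y * y = zp z a * v i) : ∃ j k : Fin 5, j ≠ k ∧ j ≠ i ∧ k ≠ i ∧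
      ∃ b, y * (v j * v k) * y⁻¹ * (v j * v k)⁻¹ = zp z b * v i := by
  obtain ⟨h1, h2, h3⟩ := root_facts M hy
  obtain ⟨j, k, hjk, hji, hki, h⟩ := exists_jk_aux (ρ y).σ i h1 h2 (fun j hj => root_ne M hy hj)
  refine ⟨j, k, hjk, hji, hki, ?_⟩
  apply eq_of_rho_eq M
  rw [map_mul, map_mul, map_mul, map_inv, map_inv, rho_vv M, rho_v M]
  apply SP.ext
  · rw [mul_σ, mul_σ, mul_σ, inv_σ, inv_σ]
    simp
  · funext m
    change _ = if m = i then (0 : ZMod 2) else 1
    rw [← h m]
    simp only [mul_s, mul_σ, inv_s, inv_σ]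
    simp only [inv_one, Equiv.Perm.one_apply]
    ring_nf
    rw [show (2 : ZMod 2) = 0 from rfl, mul_zero, add_zero]

theorem root_comm_ne (M : IsModel Q z v ρ) {y : C} {a : ZMod 2} {i : Fin 5}
    (hy : y * y = zp z a * v i) {j k : Fin 5} (hjk : j ≠ k) (hji : j ≠ i) (hki : k ≠ i) :
    y * (v j * v k) * y⁻¹ * (v j * v k)⁻¹ ≠ z := by
  intro h
  obtain ⟨h1, h2, h3⟩ := root_facts M hy
  rw [mul_inv_eq_iff_eq_mul] at h
  have h4 : y * (v j * v k) * y⁻¹
      = zp z ((ρ y).s j + (ρ y).s k) * (v ((ρ y).σ j) * v ((ρ y).σ k)) := by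
    calc y * (v j * v k) * y⁻¹ = (y * v j * y⁻¹) * (y * v k * y⁻¹) := by group
      _ = (zp z ((ρ y).s j) * v ((ρ y).σ j)) * (zp z ((ρ y).s k) * v ((ρ y).σ k)) := by
          rw [M.conj, M.conj]
      _ = zp z ((ρ y).s j) * (v ((ρ y).σ j) * zp z ((ρ y).s k)) * v ((ρ y).σ k) := by group
      _ = zp z ((ρ y).s j) * (zp z ((ρ y).s k) * v ((ρ y).σ j)) * v ((ρ y).σ k) := by
          rw [zp_comm' M]
      _ = _ := by rw [zp_add z M.z_sq]; group
  have h5 : rr ((ρ y).σ j) ((ρ y).σ k) = rr j k := by
    have h6 := congrArg ρ h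
    rw [h4, map_mul, map_mul ρ z, rho_zp M, rho_z M, one_mul, one_mul, rho_vv M, rho_vv M] at h6
    exact congrArg SP.s h6
  have h7 : ∀ j k j' k' : Fin 5, j ≠ k → rr j' k' = rr j k → (j' = j ∧ k' = k) ∨ (j' = k ∧ k' = j) := by
    decide +kernel
  rcases h7 _ _ _ _ hjk h5 with ⟨h8, -⟩ | ⟨h8, h9⟩
  · exact root_ne M hy hji h8
  · have h10 := h3 j
    rw [h8, if_neg hji] at h10
    rw [h4, h8, h9, h10, zp_one, ← M.v_anti j k hjk] at h
    exact M.z_ne (mul_eq_right.mp h.symm)

end Roots

theorem jk_aux : ∀ i : Fin 5, ∃ j k : Fin 5, j ≠ k ∧ j ≠ i ∧ k ≠ i := by decide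

/-- If `t` is conjugate to a noncentral involution of `Q`, then `C` contains an involution outside
`Q` (the "split" case). -/
theorem exists_outer {G : Type*} [Group G] {t : G}
    {Q : Subgroup (Subgroup.centralizer ({t} : Set G))}
    {v : Fin 5 → Subgroup.centralizer ({t} : Set G)}
    {ρ : Subgroup.centralizer ({t} : Set G) →* SP} (M : IsModel Q (zc t) v ρ) (i0 : Fin 5)
    (hv : ∃ g, g * t * g⁻¹ = (v i0 : G)) :
    ∃ u : Subgroup.centralizer ({t} : Set G), u * u = 1 ∧ u ∉ Q := by
  obtain ⟨g, hg⟩ := hv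
  set r : G := (v i0 : G) with hr
  set e := conjEquiv g t r hg with he
  have M' := transport e M
  have hz : e (zc t) = zc r := Subtype.ext hg
  rw [hz] at M'
  set Q' := Q.map e.toMonoidHom with hQ'
  set v' : Fin 5 → Subgroup.centralizer ({r} : Set G) := fun i => e (v i) with hv'
  set ρ' := ρ.comp e.symm.toMonoidHom with hρ'
  have htt : t * t = 1 := by
    have := congrArg Subtype.val M.z_sq
    exact this
  have hrr : r * r = 1 := by
    have := congrArg Subtype.val (M.v_sq i0)
    exact this
  have htr : t * r = r * t := by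
    have := Subgroup.mem_centralizer_singleton_iff.1 (v i0).2
    exact this.symm
  have htr1 : t ≠ r := by
    intro h
    have h1 : zp (zc t) 0 * v i0 = zc t := by
      rw [zp_zero, one_mul]; exact Subtype.ext h.symm
    exact zv_ne_z M 0 i0 h1
  let t' : Subgroup.centralizer ({r} : Set G) :=
    ⟨t, Subgroup.mem_centralizer_singleton_iff.2 htr⟩
  by_cases ht' : t' ∈ Q'
  · have ht'sq : t' * t' = 1 := Subtype.ext htt
    have ht'1 : t' ≠ 1 := by
      intro h
      have h' : t = 1 := congrArg Subtype.val h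
      exact M.z_ne (Subtype.ext h')
    rcases invol_Q M' ht' ht'sq ht'1 with h | ⟨a, i, hai⟩
    · exact absurd (congrArg Subtype.val h) htr1
    · -- choose j k
      obtain ⟨j, k, hjk, hji, hki⟩ := jk_aux i
      set y' := v' j * v' k with hy'
      have hy'sq : y' * y' = zc r := vv_sq M' hjk
      have hy't : y' * t' = t' * y' := by
        rw [hai, hy']
        have e1 : v' k * v' i = zc r * (v' i * v' k) := M'.v_anti k i hki
        have e2 : v' j * v' i = zc r * (v' i * v' j) := M'.v_anti j i hji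
        calc v' j * v' k * (zp (zc r) a * v' i)
            = v' j * (v' k * zp (zc r) a) * v' i := by group
          _ = v' j * (zp (zc r) a * v' k) * v' i := by rw [zp_comm' M']
          _ = (v' j * zp (zc r) a) * (v' k * v' i) := by group
          _ = (zp (zc r) a * v' j) * (zc r * (v' i * v' k)) := by rw [zp_comm' M', e1]
          _ = zp (zc r) a * (v' j * zc r) * v' i * v' k := by group
          _ = zp (zc r) a * (zc r * v' j) * v' i * v' k := by rw [M'.z_comm]
          _ = zp (zc r) a * zc r * (v' j * v' i) * v' k := by group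
          _ = zp (zc r) a * zc r * (zc r * (v' i * v' j)) * v' k := by rw [e2]
          _ = zp (zc r) a * (zc r * zc r) * (v' i * v' j) * v' k := by group
          _ = zp (zc r) a * v' i * (v' j * v' k) := by rw [M'.z_sq]; group
      set y : G := (y' : G) with hy
      have hyt : y * t = t * y := congrArg Subtype.val hy't
      have hyr : y * r = r * y := Subgroup.mem_centralizer_singleton_iff.1 y'.2
      have hyy : y * y = r := congrArg Subtype.val hy'sq
      let yc : Subgroup.centralizer ({t} : Set G) :=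
        ⟨y, Subgroup.mem_centralizer_singleton_iff.2 hyt⟩
      have hyc : yc * yc = zp (zc t) 0 * v i0 := by
        rw [zp_zero, one_mul]; exact Subtype.ext hyy
      obtain ⟨j2, k2, hjk2, hj2, hk2, b, hb⟩ := exists_jk M hyc
      set qc := v j2 * v k2 with hqc
      set q : G := (qc : G) with hq
      have hqq : qc * qc = zc t := vv_sq M hjk2
      have hqq' : q * q = t := congrArg Subtype.val hqq
      have hqv : qc * v i0 = v i0 * qc := by
        have e1 : v k2 * v i0 = zc t * (v i0 * v k2) := M.v_anti k2 i0 hk2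
        have e2 : v j2 * v i0 = zc t * (v i0 * v j2) := M.v_anti j2 i0 hj2
        rw [hqc]
        calc v j2 * v k2 * v i0 = v j2 * (v k2 * v i0) := by group
          _ = v j2 * (zc t * (v i0 * v k2)) := by rw [e1]
          _ = (v j2 * zc t) * v i0 * v k2 := by group
          _ = (zc t * v j2) * v i0 * v k2 := by rw [M.z_comm]
          _ = zc t * (v j2 * v i0) * v k2 := by group
          _ = zc t * (zc t * (v i0 * v j2)) * v k2 := by rw [e2]
          _ = (zc t * zc t) * (v i0 * v j2) * v k2 := by group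
          _ = v i0 * (v j2 * v k2) := by rw [M.z_sq]; group
      have hqr : q * r = r * q := congrArg Subtype.val hqv
      have hqt : q * t = t * q := Subgroup.mem_centralizer_singleton_iff.1 qc.2
      let q' : Subgroup.centralizer ({r} : Set G) :=
        ⟨q, Subgroup.mem_centralizer_singleton_iff.2 hqr⟩
      have hq'q' : q' * q' = zp (zc r) a * v' i := by
        rw [← hai]; exact Subtype.ext hqq'
      have hne := root_comm_ne M' hq'q' hjk hji hki
      have hne' : q * y * q⁻¹ * y⁻¹ ≠ r := by
        intro h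
        exact hne (Subtype.ext h)
      have hb' : y * q * y⁻¹ * q⁻¹ = ((zp (zc t) b * v i0 : Subgroup.centralizer ({t} : Set G)) : G) :=
        congrArg Subtype.val hb
      have hb1 : b = 1 := by
        rcases zmod2_cases b with rfl | rfl
        · exfalso
          apply hne'
          have h1 : y * q * y⁻¹ * q⁻¹ = r := by rw [hb', zp_zero, one_mul]
          have h2 : q * y * q⁻¹ * y⁻¹ = (y * q * y⁻¹ * q⁻¹)⁻¹ := by group
          rw [h2, h1]
          exact inv_eq_of_mul_eq_one_left hrr
        · rfl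
      rw [hb1, zp_one] at hb'
      have hb2 : y * q * y⁻¹ * q⁻¹ = t * r := hb'
      have hb3 : y * q = t * r * (q * y) := by
        rw [mul_inv_eq_iff_eq_mul, mul_inv_eq_iff_eq_mul] at hb2
        rw [hb2]; group
      have hu : (y * q) * (y * q) = 1 := by
        calc (y * q) * (y * q) = (t * r * (q * y)) * (y * q) := by rw [← hb3]
          _ = t * r * q * (y * y) * q := by group
          _ = t * r * q * r * q := by rw [hyy]
          _ = t * r * (q * r) * q := by group
          _ = t * r * (r * q) * q := by rw [hqr]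
          _ = t * (r * r) * (q * q) := by group
          _ = 1 := by rw [hrr, hqq', mul_one, htt]
      refine ⟨yc * qc, Subtype.ext hu, ?_⟩
      rw [M.mem_Q, map_mul, mul_σ]
      have h1 : (ρ qc).σ = 1 := by rw [hqc, rho_vv M]
      rw [h1, mul_one]
      intro h2
      have := root_ne M hyc hj2
      rw [h2] at this
      exact this rfl
  · refine ⟨e.symm t', ?_, ?_⟩
    · rw [← map_mul]
      have : t' * t' = 1 := Subtype.ext htt
      rw [this, map_one]
    · intro h
      exact ht' ⟨_, h, e.apply_symm_apply t'⟩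

end Cfsg.Agent.J3Type.OneClass
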