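import Mathlib

/-!
# Generators and relations for groups of type J3 (helper940)

`CEl` : relations between elements of the centraliser `C(z) = Q : A₅` of an involution.
`Amal`: relations between elements of `C(z)`, of `N(V)` (the element `d`) and of `N(E)` (the involution `w`).
Convention `a ^ b = b⁻¹ * a * b`.
-/

set_option autoImplicit false

namespace Cfsg.Agent.J3Type.PresDef

/-- elements of the centraliser of the involution `z`: `c, f, h` generate a complement `A₅` (as `(123)`,
`(12)(34)`, `(12)(45)`), `s` is a non-central involution of `Q` fixed by `Alt {1,2,3,5}`; `y = s ^ h`, `g = f ^ c`,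
`u = f ^ s`. -/
structure CEl {G : Type*} [Group G] (z y s c f g u h : G) : Prop where
  z2 : z * z = 1
  s2 : s * s = 1
  f2 : f * f = 1
  h2 : h * h = 1
  c3 : c * c * c = 1
  cf : c * f * (c * f) * (c * f) = 1
  fh : f * h * (f * h) * (f * h) = 1
  ch : c * h * (c * h) = 1
  g_def : g = c⁻¹ * f * c
  u_def : u = s * f * s
  y_def : y = h * s * h
  sy : s * y * (s * y) = z
  sc : s * c = c * s
  sfhf : s * (f * h * f) = f * h * f * s
  zs : z * s = s * z
  zf : z * f = f * z
  zc : z * c = c * z
  zh : z * h = h * z
  prod : s * (f * s * f) * (g * s * g) * (g * f * s * f * g) * y = z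

/-- the whole configuration: `d` of order 3 in `N(V)`, `V = ⟨z, y⟩`, `w` an involution in `N(E)`, `E = ⟨z, y, f, g⟩`;
`x = c d⁻¹`, `v = x ^ h`. -/
structure Amal {G : Type*} [Group G] (z y s c f g u h d w x v : G) : Prop extends CEl z y s c f g u h where
  d3 : d * d * d = 1
  cd : c * d = d * c
  fd : f * d = d * f
  ds : s * d * s = (c * d)⁻¹
  zd : d⁻¹ * z * d = y
  w2 : w * w = 1
  cw : w * c * w = d
  zw : w * z * w = f
  wu : w * u * (w * u) * (w * u) = 1
  x_def : x = c * d⁻¹
  v_def : v = h * x * h

end Cfsg.Agent.J3Type.PresDef
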