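import Mathlib
import Cfsg.Agent.S0497
import Cfsg.Agent.J3Type.ExistsW
import Cfsg.Agent.J3Type.CThree
import Cfsg.Agent.J3Type.ASix
import Cfsg.Agent.J3Type.PresDef
import Cfsg.Agent.J3Type.OneClass

/-!
# The extra relation in groups of type J3

In `C(c)`, where `C(c)/⟨c⟩ = A₆`, the involution `w s w s w` is one of `c^i z v⁻¹ x⁻¹ v`, `c^i s y v x v`.
-/

set_option autoImplicit false
set_option linter.unusedSectionVars false
set_option linter.style.haveILetI false

namespace Cfsg.Agent.J3Type.Extra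

open Subgroup Cfsg.Agent.J3Type.ExistsW

section Y
variable {Y : Type*} [Group Y] [Finite Y]

/-- all involutions are conjugate -/
theorem isConj_of_hd8 (h : HD8 Y) {s t : Y} (hs : orderOf s = 2) (ht : orderOf t = 2) :
    ∃ g : Y, g * s * g⁻¹ = t := by
  haveI : Fact (Nat.Prime 2) := ⟨Nat.prime_two⟩
  obtain ⟨S, hS⟩ := h.exists_sylow hs
  obtain ⟨T, hT⟩ := h.exists_sylow ht
  obtain ⟨g, hg⟩ := MulAction.exists_smul_eq Y S T
  refine ⟨g, ?_⟩
  have hmem : ∀ x : Y, x ∈ centralizer ({s} : Set Y) → g * x * g⁻¹ ∈ centralizer ({t} : Set Y) := by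
    intro x hx
    rw [← hT, ← hg, Sylow.coe_subgroup_smul]
    exact ⟨x, by rw [← hS] at hx; exact hx, rfl⟩
  have hmem' : ∀ x : Y, x ∈ centralizer ({t} : Set Y) → g⁻¹ * x * g ∈ centralizer ({s} : Set Y) := by
    intro x hx
    rw [← hT, ← hg, Sylow.coe_subgroup_smul] at hx
    obtain ⟨u, hu, hux⟩ := hx
    rw [← hS]
    have hux' : g * u * g⁻¹ = x := hux
    have : g⁻¹ * x * g = u := by rw [← hux']; group
    rw [this]; exact hu
  have hs1 : s ≠ 1 := by rintro rfl; simp at hs
  apply h.eq_of_central ht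
  · exact hmem s (by rw [mem_centralizer_singleton_iff])
  · intro x hx
    have h1 := hmem' x hx
    rw [mem_centralizer_singleton_iff] at h1
    calc x * (g * s * g⁻¹) = g * (g⁻¹ * x * g * s) * g⁻¹ := by group
      _ = g * (s * (g⁻¹ * x * g)) * g⁻¹ := by rw [h1]
      _ = g * s * g⁻¹ * x := by group
  · intro h1
    apply hs1
    calc s = g⁻¹ * (g * s * g⁻¹) * g := by group
      _ = 1 := by rw [h1]; group

/-- a normal subgroup containing an involution is everything -/
theorem eq_top_of_mem (h : HD8 Y) (N : Subgroup Y) [N.Normal] {s : Y} (hs : orderOf s = 2)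
    (hsN : s ∈ N) : N = ⊤ := by
  haveI : Fact (Nat.Prime 2) := ⟨Nat.prime_two⟩
  have hinv : ∀ t : Y, orderOf t = 2 → t ∈ N := by
    intro t ht
    obtain ⟨g, hg⟩ := isConj_of_hd8 h hs ht
    rw [← hg]
    exact Normal.conj_mem inferInstance _ hsN _
  have hCN : centralizer ({s} : Set Y) ≤ N := by
    obtain ⟨e⟩ := h s hs
    intro x hx
    obtain ⟨a, b, ha, hb, hab⟩ := dih_gen (e ⟨x, hx⟩)
    have key : ∀ a : DihedralGroup 4, a * a = 1 →
        ((e.symm a : centralizer ({s} : Set Y)) : Y) ∈ N := by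
      intro a ha
      by_cases h1 : a = 1
      · rw [h1, map_one]; exact one_mem _
      · apply hinv
        rw [orderOf_eq_prime_iff]
        constructor
        · rw [pow_two, ← coe_mul, ← map_mul, ha, map_one]; rfl
        · intro h2
          apply h1
          have h3 : e.symm a = 1 := Subtype.ext h2
          exact e.symm.map_eq_one_iff.mp h3
    have h1 : (⟨x, hx⟩ : centralizer ({s} : Set Y)) = e.symm a * e.symm b := by
      rw [← map_mul, ← hab, e.symm_apply_apply]
    have h2 : x = (e.symm a : Y) * (e.symm b : Y) := congrArg Subtype.val h1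
    rw [h2]
    exact mul_mem (key a ha) (key b hb)
  obtain ⟨S, hS⟩ := h.exists_sylow hs
  have hSle : (S : Subgroup Y) ≤ N := by rw [hS]; exact hCN
  have h1 := Sylow.normalizer_sup_eq_top' S hSle
  rw [eq_top_iff, ← h1]
  refine sup_le ?_ le_rfl
  refine le_trans ?_ hSle
  intro x hx
  rw [hS, mem_centralizer_singleton_iff]
  have hsS : s ∈ (S : Subgroup Y) := by rw [hS, mem_centralizer_singleton_iff]
  have h2 : x * s * x⁻¹ ∈ (S : Subgroup Y) := (mem_normalizer_iff.mp hx s).mp hsS
  have hs1 : s ≠ 1 := by rintro rfl; simp at hs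
  have h3 : x * s * x⁻¹ = s := by
    apply h.eq_of_central hs
    · rw [← hS]; exact h2
    · intro y hy
      rw [← hS] at hy
      have h4 : x⁻¹ * y * x ∈ (S : Subgroup Y) := by
        have := (mem_normalizer_iff.mp ((normalizer _).inv_mem hx) y).mp hy
        simpa using this
      rw [hS, mem_centralizer_singleton_iff] at h4
      calc y * (x * s * x⁻¹) = x * (x⁻¹ * y * x * s) * x⁻¹ := by group
        _ = x * (s * (x⁻¹ * y * x)) * x⁻¹ := by rw [h4]
        _ = x * s * x⁻¹ * y := by group
    · intro h5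
      apply hs1
      calc s = x⁻¹ * (x * s * x⁻¹) * x := by group
        _ = 1 := by rw [h5]; group
  calc x * s = x * s * x⁻¹ * x := by group
    _ = s * x := by rw [h3]

theorem dih_pair : ∀ c : DihedralGroup 4, ∃ a : DihedralGroup 4, a * a = 1 ∧ a ≠ 1 ∧ a ≠ c := by
  decide

/-- simplicity -/
theorem isSimple (h : HD8 Y) {s : Y} (hs : orderOf s = 2) : IsSimpleGroup Y := by
  haveI : Fact (Nat.Prime 2) := ⟨Nat.prime_two⟩
  have hs1 : s ≠ 1 := by rintro rfl; simp at hs
  haveI : Nontrivial Y := ⟨⟨s, 1, hs1⟩⟩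
  refine ⟨?_⟩
  intro N hN
  by_cases h2 : 2 ∣ Nat.card N
  · right
    obtain ⟨t, ht⟩ := exists_prime_orderOf_dvd_card' 2 h2
    exact eq_top_of_mem h N (s := (t : Y)) (by rw [orderOf_coe]; exact ht) t.2
  · left
    -- each involution inverts N
    have hinv : ∀ t : Y, orderOf t = 2 → ∀ n ∈ N, t * n * t⁻¹ = n⁻¹ := by
      intro t ht n hn
      have htt : t * t = 1 := by rw [← pow_two, ← ht]; exact pow_orderOf_eq_one t
      let φ : N →* N := (MulAut.conjNormal t : MulAut N).toMonoidHom
      have hφ : MonoidHom.FixedPointFree φ := by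
        intro m hm
        have hm' : t * (m : Y) * t⁻¹ = m := by
          have := congrArg Subtype.val hm
          rwa [show ((φ m : N) : Y) = t * (m : Y) * t⁻¹ from MulAut.conjNormal_apply t m] at this
        have hmC : (m : Y) ∈ centralizer ({t} : Set Y) := by
          rw [mem_centralizer_singleton_iff]
          calc (m : Y) * t = t * (m : Y) * t⁻¹ * t := by rw [hm']
            _ = t * m := by group
        have h8 : orderOf (m : Y) ∣ 8 := by
          rw [← h.card ht, ← orderOf_mk (m : Y) hmC]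
          exact orderOf_dvd_natCard _
        have hN' : orderOf (m : Y) ∣ Nat.card N := by
          rw [orderOf_coe]; exact orderOf_dvd_natCard _
        have hco : Nat.Coprime 8 (Nat.card N) := by
          rw [show 8 = 2 ^ 3 by norm_num]
          apply Nat.Coprime.pow_left
          rw [Nat.Prime.coprime_iff_not_dvd Nat.prime_two]
          exact h2
        have h1 : orderOf (m : Y) ∣ 1 := by
          rw [← hco]
          exact Nat.dvd_gcd h8 hN'
        have := orderOf_eq_one_iff.mp (Nat.dvd_one.mp h1)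
        exact Subtype.ext this
      have hinvol : Function.Involutive φ := by
        intro m
        apply Subtype.ext
        rw [show ((φ (φ m) : N) : Y) = t * ((φ m : N) : Y) * t⁻¹ from MulAut.conjNormal_apply t _,
          show ((φ m : N) : Y) = t * (m : Y) * t⁻¹ from MulAut.conjNormal_apply t m]
        calc t * (t * (m : Y) * t⁻¹) * t⁻¹ = (t * t) * (m : Y) * (t * t)⁻¹ := by group
          _ = m := by rw [htt]; group
      have := congrFun (hφ.coe_eq_inv_of_involutive hinvol) ⟨n, hn⟩
      have h3 := congrArg Subtype.val this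
      rw [show ((φ ⟨n, hn⟩ : N) : Y) = t * n * t⁻¹ from MulAut.conjNormal_apply t _] at h3
      exact h3
    -- two commuting involutions
    obtain ⟨e⟩ := h s hs
    have hsC : s ∈ centralizer ({s} : Set Y) := by rw [mem_centralizer_singleton_iff]
    obtain ⟨a', ha2, ha1, hac⟩ := dih_pair (e ⟨s, hsC⟩)
    set a : Y := ((e.symm a' : centralizer ({s} : Set Y)) : Y) with ha
    have haa : a * a = 1 := by
      rw [ha, ← coe_mul, ← map_mul, ha2, map_one]; rfl
    have hane : a ≠ 1 := by
      intro h1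
      apply ha1
      have : e.symm a' = 1 := Subtype.ext h1
      exact e.symm.map_eq_one_iff.mp this
    have hanes : a ≠ s := by
      intro h1
      apply hac
      have : e.symm a' = ⟨s, hsC⟩ := Subtype.ext h1
      rw [← this, e.apply_symm_apply]
    have hss : s * s = 1 := by rw [← pow_two, ← hs]; exact pow_orderOf_eq_one s
    have hcomm : a * s = s * a := by
      have := (e.symm a').2
      rwa [mem_centralizer_singleton_iff] at this
    have hao : orderOf a = 2 := by
      rw [orderOf_eq_prime_iff]; exact ⟨by rw [pow_two, haa], hane⟩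
    have hsao : orderOf (s * a) = 2 := by
      rw [orderOf_eq_prime_iff]
      constructor
      · rw [pow_two]
        calc s * a * (s * a) = s * (a * s) * a := by group
          _ = s * (s * a) * a := by rw [hcomm]
          _ = (s * s) * (a * a) := by group
          _ = 1 := by rw [hss, haa, one_mul]
      · intro h1
        apply hanes
        calc a = s * s * a := by rw [hss, one_mul]
          _ = s * (s * a) := by group
          _ = s := by rw [h1, mul_one]
    rw [eq_bot_iff]
    intro n hn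
    rw [mem_bot]
    have e1 := hinv _ hs n hn
    have e2 := hinv _ hao n hn
    have e3 := hinv _ hsao n hn
    have e4 : s * a * n * (s * a)⁻¹ = n := by
      calc s * a * n * (s * a)⁻¹ = s * (a * n * a⁻¹) * s⁻¹ := by group
        _ = (s * n * s⁻¹)⁻¹ := by rw [e2]; group
        _ = n := by rw [e1, inv_inv]
    have e5 : n⁻¹ = n := by rw [← e3, e4]
    have e6 : n ^ 2 = 1 := by
      rw [pow_two]
      calc n * n = n * n⁻¹ := by rw [e5]
        _ = 1 := mul_inv_cancel n
    by_contra hne
    have e7 : orderOf n = 2 := by rw [orderOf_eq_prime_iff]; exact ⟨e6, hne⟩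
    apply h2
    rw [← e7, ← orderOf_mk n hn]
    exact orderOf_dvd_natCard _

end Y

section C
variable {C : Type*} [Group C] [Finite C]

/-- The quotient of `C` by a central subgroup `⟨z⟩` of order 3 has dihedral involution centralisers. -/
theorem hd8_quotient (z : C) (hz : orderOf z = 3) (hzc : ∀ x, x * z = z * x) [(zpowers z).Normal]
    (hD : ∀ s : C, orderOf s = 2 → ∃ D : Subgroup C, Nonempty (D ≃* DihedralGroup 4) ∧
      (∀ d ∈ D, d * s = s * d) ∧ ∀ c : C, c * s = s * c → ∃ d ∈ D, ∃ k : ℕ, c = d * z ^ k) :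
    HD8 (C ⧸ zpowers z) := by
  have hz3 : z ^ 3 = 1 := by rw [← hz]; exact pow_orderOf_eq_one z
  have hcomm : ∀ x : C, Commute x z := hzc
  have hZ3 : ∀ x ∈ zpowers z, x ^ 3 = 1 := by
    rintro x ⟨k, rfl⟩
    show (z ^ k) ^ 3 = 1
    rw [← zpow_natCast, ← zpow_mul, mul_comm, zpow_mul, zpow_natCast, hz3, one_zpow]
  have hZc : ∀ u ∈ zpowers z, ∀ x : C, Commute x u := by
    rintro u ⟨k, rfl⟩ x
    exact (hcomm x).zpow_right k
  let π : C →* C ⧸ zpowers z := QuotientGroup.mk' (zpowers z)
  have hπs : Function.Surjective π := QuotientGroup.mk'_surjective _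
  have hπ1 : ∀ x : C, π x = 1 ↔ x ∈ zpowers z := fun x => QuotientGroup.eq_one_iff x
  have hker : ∀ u ∈ zpowers z, ∀ m : ℕ, Nat.Coprime 3 m → u ^ m = 1 → u = 1 := by
    intro u hu m hm h1
    have h3 := orderOf_dvd_of_pow_eq_one (hZ3 u hu)
    have h4 := orderOf_dvd_of_pow_eq_one h1
    have h5 : orderOf u ∣ 1 := by
      have := Nat.dvd_gcd h3 h4
      rwa [hm.gcd_eq_one] at this
    exact orderOf_eq_one_iff.mp (Nat.dvd_one.mp h5)
  have hlift : ∀ (x s : C), s ^ 2 = 1 → π x * π s = π s * π x → x * s = s * x := by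
    intro x s hs h
    have h1 : (s * x)⁻¹ * (x * s) ∈ zpowers z := by
      rw [← hπ1, map_mul, map_inv, map_mul, map_mul, h]; group
    set u := (s * x)⁻¹ * (x * s) with hu
    have h2 : x * s = s * x * u := by rw [hu]; group
    have h3 : x * s * x⁻¹ = s * u := by
      have := hZc u h1 x⁻¹
      calc x * s * x⁻¹ = s * x * u * x⁻¹ := by rw [h2]
        _ = s * x * (u * x⁻¹) := by group
        _ = s * x * (x⁻¹ * u) := by rw [this.eq]
        _ = s * u := by group
    have h4 : u ^ 2 = 1 := by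
      have h5 : (x * s * x⁻¹) ^ 2 = 1 := by
        rw [conj_pow, hs]; group
      rw [h3, (hZc u h1 s).mul_pow, hs, one_mul] at h5
      exact h5
    rw [h2, hker u h1 2 (by norm_num) h4, mul_one]
  intro s' hs'
  obtain ⟨c, rfl⟩ := hπs s'
  have hc2 : c ^ 2 ∈ zpowers z := by
    rw [← hπ1, map_pow, ← hs']; exact pow_orderOf_eq_one _
  have hc1 : π c ≠ 1 := by intro h; rw [h, orderOf_one] at hs'; norm_num at hs'
  have hπc2 : π c ^ 2 = 1 := by rw [← hs']; exact pow_orderOf_eq_one _
  have hs2 : (c ^ 3) ^ 2 = 1 := by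
    rw [← pow_mul, mul_comm, pow_mul]; exact hZ3 _ hc2
  have hπs3 : π (c ^ 3) = π c := by
    rw [map_pow, pow_succ, hπc2, one_mul]
  have hs : orderOf (c ^ 3) = 2 := by
    rw [orderOf_eq_prime_iff]
    refine ⟨hs2, ?_⟩
    intro h
    apply hc1
    rw [← hπs3, h, map_one]
  obtain ⟨D, ⟨e⟩, hDs, hDc⟩ := hD (c ^ 3) hs
  have hmem : ∀ d : D, π d ∈ centralizer ({π c} : Set (C ⧸ zpowers z)) := by
    intro d
    rw [mem_centralizer_singleton_iff, ← hπs3, ← map_mul, ← map_mul, hDs d d.2]
  let f : D →* centralizer ({π c} : Set (C ⧸ zpowers z)) :=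
    (π.comp D.subtype).codRestrict _ hmem
  have hf : Function.Bijective f := by
    constructor
    · rw [injective_iff_map_eq_one]
      intro d hd
      have h1 : π (d : C) = 1 := congrArg Subtype.val hd
      rw [hπ1] at h1
      have h8 : d ^ 8 = 1 := by
        have : Nat.card D = 8 := by rw [Nat.card_congr e.toEquiv, dih_card]
        rw [← this]; exact pow_card_eq_one'
      have h8' : (d : C) ^ 8 = 1 := by
        have := congrArg Subtype.val h8
        simpa using this
      exact Subtype.ext (hker _ h1 8 (by norm_num) h8')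
    · rintro ⟨x', hx'⟩
      obtain ⟨x, rfl⟩ := hπs x'
      rw [mem_centralizer_singleton_iff, ← hπs3] at hx'
      obtain ⟨d, hd, k, hk⟩ := hDc x (hlift x _ hs2 hx')
      refine ⟨⟨d, hd⟩, Subtype.ext ?_⟩
      show π d = π x
      rw [hk, map_mul, map_pow, (hπ1 z).mpr (mem_zpowers z), one_pow, mul_one]
  exact ⟨(MulEquiv.ofBijective f hf).symm.trans e⟩

/-- `⟨z, x⟩` is a quotient of `A₄` -/
theorem zx_cubed {z s y x : C} (hz2 : z * z = 1) (hs2 : s * s = 1) (hsz : s * z = z * s)
    (hy2 : y * y = 1) (hsy : s * y * (s * y) = z) (hxz : x * z = y * x) (hxs : x * s * x = s)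
    (hx3 : x * x * x = 1) : z * x * (z * x) * (z * x) = 1 := by
  have hzinv : z⁻¹ = z := inv_eq_of_mul_eq_one_left hz2
  have hsinv : s⁻¹ = s := inv_eq_of_mul_eq_one_left hs2
  have hyinv : y⁻¹ = y := inv_eq_of_mul_eq_one_left hy2
  have hx3' : x⁻¹ = x * x := by
    rw [inv_eq_iff_mul_eq_one, ← mul_assoc]; exact hx3
  have h1 : s * y * s = z * y := by
    calc s * y * s = s * y * (s * y) * y := by
          rw [mul_assoc (s * y) (s * y) y, mul_assoc s y y, hy2, mul_one]
      _ = z * y := by rw [hsy]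
  have h3 : s * x * s = x⁻¹ := by
    calc s * x * s = x⁻¹ * (x * s * x) * s := by group
      _ = x⁻¹ * (s * s) := by rw [hxs]; group
      _ = x⁻¹ := by rw [hs2, mul_one]
  have h3' : s * x⁻¹ * s = x := by
    calc s * x⁻¹ * s = (s⁻¹ * x * s⁻¹)⁻¹ := by group
      _ = x := by rw [hsinv, h3, inv_inv]
  have h4 : x * z * x⁻¹ = y := by rw [hxz]; group
  have h5 : x⁻¹ * z * x = z * y := by
    have h6 : s * z * s = z := by rw [hsz, mul_assoc, hs2, mul_one]
    calc x⁻¹ * z * x = (s * x * s) * (s * z * s) * (s * x⁻¹ * s) := by rw [h3, h6, h3']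
      _ = s * x * (s * s) * z * (s * s) * x⁻¹ * s := by group
      _ = s * (x * z * x⁻¹) * s := by rw [hs2]; group
      _ = z * y := by rw [h4, h1]
  have h10 : y * z * y = z := by
    calc y * z * y = y * (s * y * (s * y)) * y := by rw [hsy]
      _ = y * s * y * s * (y * y) := by group
      _ = y⁻¹ * s⁻¹ * y⁻¹ * s⁻¹ := by rw [hy2, mul_one, hyinv, hsinv]
      _ = (s * y * (s * y))⁻¹ := by group
      _ = z := by rw [hsy, hzinv]
  have h11 : z * y = y * z := by
    calc z * y = (y * z * y) * y := by rw [h10]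
      _ = y * z * (y * y) := by group
      _ = y * z := by rw [hy2, mul_one]
  have h12 : x * x * z * (x * x)⁻¹ = z * y := by
    rw [← hx3', inv_inv, h5]
  calc z * x * (z * x) * (z * x) = z * (x * z * x⁻¹) * (x * x * z * (x * x)⁻¹) * (x * x * x) := by
        group
    _ = z * y * (z * y) := by rw [h4, h12, hx3, mul_one]
    _ = z * y * (y * z) := by rw [h11]
    _ = z * (y * y) * z := by group
    _ = 1 := by rw [hy2, mul_one, hz2]

/-- an element of order 5 in `⟨z, w, x⟩`, inverted by an involution -/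
theorem exists_five {z x w : C} (hz1 : z ≠ 1) (hz2 : z * z = 1)
    (hx3 : x * x * x = 1) (hw2 : w * w = 1) (hxw : x * w * x = w)
    (hwz : w * z * (w * z) * (w * z) = 1) (hzx : z * x * (z * x) * (z * x) = 1) :
    ∃ p φ : C, orderOf p = 5 ∧ orderOf φ = 2 ∧ φ * p * φ⁻¹ = p⁻¹ := by
  have hzinv : z⁻¹ = z := inv_eq_of_mul_eq_one_left hz2
  have hwinv : w⁻¹ = w := inv_eq_of_mul_eq_one_left hw2
  have hxx : x * x = x⁻¹ := by
    symm; rw [inv_eq_iff_mul_eq_one, ← mul_assoc]; exact hx3
  have hb : w * x * w = x⁻¹ := by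
    calc w * x * w = x⁻¹ * (x * w * x) * w := by group
      _ = x⁻¹ * (w * w) := by rw [hxw]; group
      _ = x⁻¹ := by rw [hw2, mul_one]
  have hb' : w * x⁻¹ * w = x := by
    calc w * x⁻¹ * w = (w⁻¹ * x * w⁻¹)⁻¹ := by group
      _ = x := by rw [hwinv, hb, inv_inv]
  have hab : w * z * w = z * w * z := by
    calc w * z * w = (w * z * (w * z) * (w * z)) * (z⁻¹ * w⁻¹ * z⁻¹) := by group
      _ = z * w * z := by rw [hwz, one_mul, hzinv, hwinv]
  have hax' : z * x * z = x⁻¹ * z * x⁻¹ := by
    calc z * x * z = (z * x * (z * x) * (z * x)) * (x⁻¹ * z⁻¹ * x⁻¹) := by group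
      _ = x⁻¹ * z * x⁻¹ := by rw [hzx, one_mul, hzinv]
  have hax : z * x⁻¹ * z = x * z * x := by
    calc z * x⁻¹ * z = (z⁻¹ * x * z⁻¹)⁻¹ := by group
      _ = (x⁻¹ * z * x⁻¹)⁻¹ := by rw [hzinv, hax']
      _ = x * z⁻¹ * x := by group
      _ = x * z * x := by rw [hzinv]
  -- p = x z w
  have p2 : (x * z * w) * (x * z * w) = x⁻¹ * z * x * w * z := by
    calc (x * z * w) * (x * z * w) = x * z * (w * x * w) * (w⁻¹ * z * w) := by group
      _ = x * z * x⁻¹ * (w * z * w) := by rw [hb, hwinv]
      _ = x * z * x⁻¹ * (z * w * z) := by rw [hab]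
      _ = x * (z * x⁻¹ * z) * w * z := by group
      _ = (x * x) * z * x * w * z := by rw [hax]; group
      _ = x⁻¹ * z * x * w * z := by rw [hxx]
  have p3 : x⁻¹ * z * x * w * z * (x * z * w) = z * x * w * z * x := by
    calc x⁻¹ * z * x * w * z * (x * z * w) = x⁻¹ * z * x * w * (z * x * z) * w := by group
      _ = x⁻¹ * z * x * w * (x⁻¹ * z * x⁻¹) * w := by rw [hax']
      _ = x⁻¹ * z * x * (w * x⁻¹ * w) * (w⁻¹ * z * w) * (w⁻¹ * x⁻¹ * w) := by group
      _ = x⁻¹ * z * (x * x) * (w * z * w) * x := by rw [hwinv, hb']; group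
      _ = x⁻¹ * z * x⁻¹ * (z * w * z) * x := by rw [hxx, hab]
      _ = x⁻¹ * (z * x⁻¹ * z) * w * z * x := by group
      _ = z * x * w * z * x := by rw [hax]; group
  have p5 : (x * z * w) ^ 5 = 1 := by
    calc (x * z * w) ^ 5 = ((x * z * w) * (x * z * w)) * (x * z * w) * ((x * z * w) * (x * z * w)) := by
          simp only [pow_succ, pow_zero, one_mul, mul_assoc]
      _ = (z * x * w * z * x) * (x⁻¹ * z * x * w * z) := by rw [p2, p3]
      _ = z * x * w * (z * z) * x * w * z := by group
      _ = z * x * (w * x * w) * z := by rw [hz2]; group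
      _ = z * z := by rw [hb]; group
      _ = 1 := hz2
  have hw1 : w ≠ 1 := by
    intro h
    rw [h, one_mul] at hwz
    apply hz1
    rw [hz2, one_mul] at hwz
    exact hwz
  refine ⟨x * z * w, x * w, ?_, ?_, ?_⟩
  · haveI : Fact (Nat.Prime 5) := ⟨by norm_num⟩
    rw [orderOf_eq_prime_iff]
    refine ⟨p5, ?_⟩
    intro h
    -- x = w z, so z x z = z w ... is an involution
    have hx : x = w * z := by
      calc x = (x * z * w) * w⁻¹ * z⁻¹ := by group
        _ = w * z := by rw [h, hzinv, hwinv, one_mul]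
    apply hw1
    have h2 : z * x * (z * x) = z * (w * (z * z) * w) * z := by rw [hx]; group
    rw [hz2, mul_one, hw2, mul_one, hz2] at h2
    rw [h2, one_mul, hx] at hzx
    calc w = z * (z * (w * z)) * z := by
          calc w = (z * z) * w * (z * z) := by rw [hz2]; group
            _ = _ := by group
      _ = 1 := by rw [hzx, mul_one, hz2]
  · rw [orderOf_eq_prime_iff]
    constructor
    · rw [pow_two]
      calc x * w * (x * w) = x * (w * x * w) := by group
        _ = 1 := by rw [hb]; group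
    · intro h
      apply hw1
      have hx : x = w := by
        calc x = (x * w) * w⁻¹ := by group
          _ = w := by rw [h, one_mul, hwinv]
      rw [hx, hw2, one_mul] at hx3
      exact hx3
  · calc x * w * (x * z * w) * (x * w)⁻¹ = x * (w * x * w) * (w⁻¹ * z) * x⁻¹ := by group
      _ = w * z * x⁻¹ := by rw [hb, hwinv]; group
      _ = w⁻¹ * z⁻¹ * x⁻¹ := by rw [hwinv, hzinv]
      _ = (x * z * w)⁻¹ := by group

/-- The involution `w` in the configuration `c; z, s, y, x, v`. -/
theorem extra_abs {c z s y x v w : C} (hc : orderOf c = 3) (hcc : ∀ a, a * c = c * a)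
    (hD : ∀ s : C, orderOf s = 2 → ∃ D : Subgroup C, Nonempty (D ≃* DihedralGroup 4) ∧
      (∀ d ∈ D, d * s = s * d) ∧ ∀ a : C, a * s = s * a → ∃ d ∈ D, ∃ k : ℕ, a = d * c ^ k)
    (hz1 : z ≠ 1) (hz2 : z * z = 1) (hs2 : s * s = 1) (hsz : s * z = z * s)
    (hy2 : y * y = 1) (hsy : s * y * (s * y) = z) (hxz : x * z = y * x) (hxs : x * s * x = s)
    (hx3 : x * x * x = 1) (hvz : v * z = s * v) (hvy : v * y * v = y) (hv3 : v * v * v = 1)
    (hw2 : w * w = 1) (hxw : x * w * x = w) (hwz : w * z * (w * z) * (w * z) = 1) :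
    ∃ i < 3, w = c ^ i * (z * v⁻¹ * x⁻¹ * v) ∨ w = c ^ i * (s * y * v * x * v) := by
  classical
  haveI hZn : (zpowers c).Normal := by
    constructor
    rintro n ⟨k, rfl⟩ g
    refine ⟨k, ?_⟩
    have h1 : Commute g c := hcc g
    have := h1.zpow_right k
    show c ^ k = g * c ^ k * g⁻¹
    rw [this.eq]; group
  have hHD8 := hd8_quotient c hc hcc hD
  let π : C →* C ⧸ zpowers c := QuotientGroup.mk' (zpowers c)
  have hπ1 : ∀ x : C, π x = 1 ↔ x ∈ zpowers c := fun x => QuotientGroup.eq_one_iff x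
  have hzinv : z⁻¹ = z := inv_eq_of_mul_eq_one_left hz2
  have hwinv : w⁻¹ = w := inv_eq_of_mul_eq_one_left hw2
  have hx3' : x⁻¹ = x * x := by
    rw [inv_eq_iff_mul_eq_one, ← mul_assoc]; exact hx3
  obtain ⟨p, φ, hp, hφ, hφp⟩ := exists_five hz1 hz2 hx3 hw2 hxw hwz
    (zx_cubed hz2 hs2 hsz hy2 hsy hxz hxs hx3)
  have hcard := (central_three c p φ hc hcc hp hφ hφp hD).1
  have hq : Nat.card (C ⧸ zpowers c) = 360 := by
    have := card_eq_card_quotient_mul_card_subgroup (zpowers c)
    rw [hcard, Nat.card_zpowers, hc] at this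
    omega
  have hzinv' : z ^ 2 = 1 := by rw [pow_two]; exact hz2
  have hπz : orderOf (π z) = 2 := by
    rw [orderOf_eq_prime_iff]
    constructor
    · rw [← map_pow, hzinv', map_one]
    · intro h
      rw [hπ1] at h
      have h3 : orderOf z ∣ Nat.card (zpowers c) := by
        rw [← orderOf_mk z h]; exact orderOf_dvd_natCard _
      rw [Nat.card_zpowers, hc] at h3
      have h2 : orderOf z ∣ 2 := orderOf_dvd_of_pow_eq_one hzinv'
      have h1 : orderOf z ∣ 1 := by
        have := Nat.dvd_gcd h3 h2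
        simpa using this
      exact hz1 (orderOf_eq_one_iff.mp (Nat.dvd_one.mp h1))
  haveI := isSimple hHD8 hπz
  obtain ⟨e⟩ := Cfsg.Agent.S0497.result hq
  let ψ : C →* Equiv.Perm (Fin 6) := (alternatingGroup (Fin 6)).subtype.comp (e.toMonoidHom.comp π)
  have hψ1 : ∀ a, ψ a = 1 ↔ a ∈ zpowers c := by
    intro a
    rw [← hπ1]
    constructor
    · intro h
      have h1 : e (π a) = 1 := Subtype.ext h
      exact e.map_eq_one_iff.mp h1
    · intro h
      show ((e (π a) : alternatingGroup (Fin 6)) : Equiv.Perm (Fin 6)) = 1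
      rw [h, map_one]; rfl
  have hsign : ∀ a, Equiv.Perm.sign (ψ a) = 1 := by
    intro a
    exact Equiv.Perm.mem_alternatingGroup.mp (e (π a)).2
  have hψe : ∀ a b, ψ a = ψ b → ∃ i < 3, a = c ^ i * b := by
    intro a b h
    have h1 : a * b⁻¹ ∈ zpowers c := by
      rw [← hψ1, map_mul, map_inv, h, mul_inv_cancel]
    rw [mem_zpowers_iff_mem_range_orderOf, Finset.mem_image] at h1
    obtain ⟨i, hi, hi'⟩ := h1
    rw [hc, Finset.mem_range] at hi
    exact ⟨i, hi, by rw [hi']; group⟩
  have hψz : ψ z ≠ 1 := by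
    intro h
    rw [hψ1, ← hπ1] at h
    rw [h, orderOf_one] at hπz
    norm_num at hπz
  have hxx : x⁻¹ = x * x := by
    rw [inv_eq_iff_mul_eq_one, ← mul_assoc]; exact hx3
  have hvv : v⁻¹ = v * v := by
    rw [inv_eq_iff_mul_eq_one, ← mul_assoc]; exact hv3
  have key := Cfsg.Agent.J3Type.ASix.two (z := ψ z) (s := ψ s) (y := ψ y) (x := ψ x) (v := ψ v)
    (w := ψ w) (hsign z) (hsign s) (hsign w) hψz (by rw [← map_mul, hz2, map_one])
    (by rw [← map_mul, hs2, map_one]) (by rw [← map_mul, ← map_mul, hsz])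
    (by rw [← map_mul, hy2, map_one]) (by rw [← map_mul, ← map_mul, hsy])
    (by rw [← map_mul, ← map_mul, hxz]) (by rw [← map_mul, ← map_mul, hxs])
    (by rw [← map_mul, ← map_mul, hx3, map_one]) (by rw [← map_mul, ← map_mul, hvz])
    (by rw [← map_mul, ← map_mul, hvy]) (by rw [← map_mul, ← map_mul, hv3, map_one])
    (by rw [← map_mul, hw2, map_one]) (by rw [← map_mul, ← map_mul, hxw])
    (by rw [← map_mul, ← map_mul, ← map_mul, hwz, map_one])
  rcases key with h | h
  · obtain ⟨i, hi, hi'⟩ := hψe w (z * (v * v) * (x * x) * v) (by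
      rw [h]; simp only [map_mul])
    exact ⟨i, hi, Or.inl (by rw [hxx, hvv]; exact hi')⟩
  · obtain ⟨i, hi, hi'⟩ := hψe w (s * y * v * x * v) (by
      rw [h]; simp only [map_mul])
    exact ⟨i, hi, Or.inr hi'⟩

end C

section G

open Cfsg.Agent.J3Type.PresDef Cfsg.Agent.J3Type.OneClass Cfsg.Agent.J2Type.Model

variable {G : Type*} [Group G] [Finite G]

/-- consequences of the relations `Amal` -/
theorem amal_facts {z y s c f g u h d w x v : G} (A : Amal z y s c f g u h d w x v) :
    y * y = 1 ∧ y * c = c * y ∧ x * c = c * x ∧ v * c = c * v ∧ x * z = y * x ∧ x * s * x = s ∧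
      x * x * x = 1 ∧ v * z = s * v ∧ v * y * v = y ∧ v * v * v = 1 ∧
      w * s * w * s * w * c = c * (w * s * w * s * w) ∧
      w * s * w * s * w * (w * s * w * s * w) = 1 ∧
      x * (w * s * w * s * w) * x = w * s * w * s * w ∧
      w * s * w * s * w * z * (w * s * w * s * w * z) * (w * s * w * s * w * z) = 1 := by
  have hhinv : h⁻¹ = h := inv_eq_of_mul_eq_one_left A.h2
  have hsinv : s⁻¹ = s := inv_eq_of_mul_eq_one_left A.s2
  have hwinv : w⁻¹ = w := inv_eq_of_mul_eq_one_left A.w2
  have hch : h * c * h = c⁻¹ := by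
    calc h * c * h = c⁻¹ * (c * h * (c * h)) := by group
      _ = c⁻¹ := by rw [A.ch, mul_one]
  have hch' : h * c⁻¹ * h = c := by
    calc h * c⁻¹ * h = (h⁻¹ * c * h⁻¹)⁻¹ := by group
      _ = c := by rw [hhinv, hch, inv_inv]
  have hcd : Commute c d := A.cd
  have y2 : y * y = 1 := by
    rw [A.y_def]
    calc h * s * h * (h * s * h) = h * s * (h * h) * s * h := by group
      _ = h * (s * s) * h := by rw [A.h2]; group
      _ = 1 := by rw [A.s2, mul_one, A.h2]
  have yc : y * c = c * y := by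
    rw [A.y_def]
    calc h * s * h * c = h * s * (h * c * h) * h⁻¹ := by group
      _ = h * (s * c⁻¹) * h := by rw [hch, hhinv]; group
      _ = h * (c⁻¹ * s) * h := by rw [(Commute.inv_right (show Commute s c from A.sc)).eq]
      _ = (h * c⁻¹ * h) * (h⁻¹ * s * h) := by group
      _ = c * (h * s * h) := by rw [hch', hhinv]
  have xc : x * c = c * x := by
    rw [A.x_def]
    exact ((Commute.refl c).mul_left hcd.symm.inv_left).eq
  have vc : v * c = c * v := by
    rw [A.v_def]
    calc h * x * h * c = h * x * (h * c * h) * h⁻¹ := by group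
      _ = h * (x * c⁻¹) * h := by rw [hch, hhinv]; group
      _ = h * (c⁻¹ * x) * h := by rw [(Commute.inv_right (show Commute x c from xc)).eq]
      _ = (h * c⁻¹ * h) * (h⁻¹ * x * h) := by group
      _ = c * (h * x * h) := by rw [hch', hhinv]
  have xz : x * z = y * x := by
    rw [A.x_def]
    calc c * d⁻¹ * z = c * (d⁻¹ * z * d) * d⁻¹ := by group
      _ = (y * c) * d⁻¹ := by rw [A.zd, yc]
      _ = y * (c * d⁻¹) := by group
  have c3' : c⁻¹ = c * c := by rw [inv_eq_iff_mul_eq_one, ← mul_assoc]; exact A.c3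
  have xs : x * s * x = s := by
    rw [A.x_def]
    have h1 : s * c * s = c := by rw [A.sc, mul_assoc, A.s2, mul_one]
    have h2 : s * d⁻¹ * s = c * d := by
      calc s * d⁻¹ * s = (s⁻¹ * d * s⁻¹)⁻¹ := by group
        _ = c * d := by rw [hsinv, A.ds, inv_inv]
    calc c * d⁻¹ * s * (c * d⁻¹) = s * ((s⁻¹ * c * s⁻¹) * (s * d⁻¹ * s)) * (c * d⁻¹) := by group
      _ = s * (c * (c * d)) * (c * d⁻¹) := by rw [hsinv, h1, h2]
      _ = s * (c * c) * (d * c) * d⁻¹ := by group
      _ = s * (c * c) * (c * d) * d⁻¹ := by rw [A.cd]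
      _ = s * (c * c * c) := by group
      _ = s := by rw [A.c3, mul_one]
  have x3 : x * x * x = 1 := by
    have h1 : Commute c d⁻¹ := hcd.inv_right
    have h2 : x ^ 3 = 1 := by
      rw [A.x_def, h1.mul_pow, inv_pow]
      have e1 : c ^ 3 = 1 := by simpa [pow_succ] using A.c3
      have e2 : d ^ 3 = 1 := by simpa [pow_succ] using A.d3
      rw [e1, e2, inv_one, mul_one]
    simpa [pow_succ] using h2
  have hyh : h * y * h = s := by
    rw [A.y_def]
    calc h * (h * s * h) * h = (h * h) * s * (h * h) := by group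
      _ = s := by rw [A.h2, one_mul, mul_one]
  have hsh : h * s * h = y := A.y_def.symm
  have hzh : h * z * h = z := by rw [← A.zh, mul_assoc, A.h2, mul_one]
  have vz : v * z = s * v := by
    rw [A.v_def]
    calc h * x * h * z = h * x * (h * z * h) * h⁻¹ := by group
      _ = h * (x * z) * h := by rw [hzh, hhinv]; group
      _ = h * (y * x) * h := by rw [xz]
      _ = (h * y * h) * (h⁻¹ * x * h) := by group
      _ = s * (h * x * h) := by rw [hyh, hhinv]
  have vy : v * y * v = y := by
    rw [A.v_def]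
    calc h * x * h * y * (h * x * h) = h * x * (h * y * h) * x * h := by group
      _ = h * (x * s * x) * h := by rw [hyh]; group
      _ = y := by rw [xs, hsh]
  have v3 : v * v * v = 1 := by
    rw [A.v_def]
    calc h * x * h * (h * x * h) * (h * x * h) = h * x * (h * h) * x * (h * h) * x * h := by group
      _ = h * (x * x * x) * h := by rw [A.h2]; group
      _ = 1 := by rw [x3, mul_one, A.h2]
  -- the element w' = w s w s w
  have wd : w * d * w = c := by
    calc w * d * w = w * (w * c * w) * w := by rw [A.cw]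
      _ = (w * w) * c * (w * w) := by group
      _ = c := by rw [A.w2, one_mul, mul_one]
  have scd : s * (c * d) * s = d⁻¹ := by
    calc s * (c * d) * s = (s * c) * (s⁻¹ * (s * d * s)) := by group
      _ = (c * s) * (s * (c * d)⁻¹) := by rw [A.ds, A.sc, hsinv]
      _ = c * (s * s) * (d⁻¹ * c⁻¹) := by group
      _ = c * (d⁻¹ * c⁻¹) := by rw [A.s2, mul_one]
      _ = c * (c⁻¹ * d⁻¹) := by
        rw [(hcd.inv_inv).eq]
      _ = d⁻¹ := by group
  have wc' : w * s * w * s * w * c = c * (w * s * w * s * w) := by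
    have e1 : w * (c * d)⁻¹ * w = (c * d)⁻¹ := by
      calc w * (c * d)⁻¹ * w = ((w⁻¹ * c * w) * (w⁻¹ * d * w⁻¹))⁻¹ := by group
        _ = (d * c)⁻¹ := by rw [hwinv, A.cw, wd]
        _ = (c * d)⁻¹ := by rw [A.cd]
    have e2 : s * (c * d)⁻¹ * s = d := by
      calc s * (c * d)⁻¹ * s = (s⁻¹ * (c * d) * s⁻¹)⁻¹ := by group
        _ = d := by rw [hsinv, scd, inv_inv]
    calc w * s * w * s * w * c = w * s * w * s * (w * c * w) * w⁻¹ := by group
      _ = w * s * w * (s * d * s) * s⁻¹ * w := by rw [A.cw, hwinv]; group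
      _ = w * s * (w * (c * d)⁻¹ * w) * w⁻¹ * s * w := by rw [A.ds, hsinv]; group
      _ = w * (s * (c * d)⁻¹ * s) * s⁻¹ * w * s * w := by rw [e1, hwinv]; group
      _ = (w * d * w) * w⁻¹ * s * w * s * w := by rw [e2, hsinv]; group
      _ = c * (w * s * w * s * w) := by rw [wd, hwinv]; group
  have w'2 : w * s * w * s * w * (w * s * w * s * w) = 1 := by
    calc w * s * w * s * w * (w * s * w * s * w) = w * s * w * s * (w * w) * s * w * s * w := by group
      _ = w * s * w * (s * s) * w * s * w := by rw [A.w2]; group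
      _ = w * s * (w * w) * s * w := by rw [A.s2]; group
      _ = w * (s * s) * w := by rw [A.w2]; group
      _ = 1 := by rw [A.s2, mul_one, A.w2]
  have wx : w * x * w = x⁻¹ := by
    rw [A.x_def]
    have e1 : w * d⁻¹ * w = c⁻¹ := by
      calc w * d⁻¹ * w = (w⁻¹ * d * w⁻¹)⁻¹ := by group
        _ = c⁻¹ := by rw [hwinv, wd]
    calc w * (c * d⁻¹) * w = (w * c * w) * (w⁻¹ * d⁻¹ * w) := by group
      _ = d * c⁻¹ := by rw [A.cw, hwinv, e1]
      _ = (c * d⁻¹)⁻¹ := by group
  have sx : s * x * s = x⁻¹ := by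
    calc s * x * s = x⁻¹ * (x * s * x) * s := by group
      _ = x⁻¹ * (s * s) := by rw [xs]; group
      _ = x⁻¹ := by rw [A.s2, mul_one]
  have conj_inv : ∀ a b : G, a * a = 1 → a * b * a = b⁻¹ → a * b⁻¹ * a = b := by
    intro a b ha hab
    have ha' : a⁻¹ = a := inv_eq_of_mul_eq_one_left ha
    calc a * b⁻¹ * a = (a⁻¹ * b * a⁻¹)⁻¹ := by group
      _ = b := by rw [ha', hab, inv_inv]
  have wx' := conj_inv w x A.w2 wx
  have sx' := conj_inv s x A.s2 sx
  have xw' : x * (w * s * w * s * w) * x = w * s * w * s * w := by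
    have e1 : w * s * w * s * w * x = x⁻¹ * (w * s * w * s * w) := by
      calc w * s * w * s * w * x = w * s * w * s * (w * x * w) * w⁻¹ := by group
        _ = w * s * w * (s * x⁻¹ * s) * s⁻¹ * w := by rw [wx, hwinv]; group
        _ = w * s * (w * x * w) * w⁻¹ * s * w := by rw [sx', hsinv]; group
        _ = w * (s * x⁻¹ * s) * s⁻¹ * w * s * w := by rw [wx, hwinv]; group
        _ = (w * x * w) * w⁻¹ * s * w * s * w := by rw [sx', hsinv]; group
        _ = x⁻¹ * (w * s * w * s * w) := by rw [wx, hwinv]; group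
    calc x * (w * s * w * s * w) * x = x * (w * s * w * s * w * x) := by group
      _ = w * s * w * s * w := by rw [e1]; group
  have hwz : w * s * w * s * w * z * (w * s * w * s * w * z) * (w * s * w * s * w * z) = 1 := by
    -- z = w f w, f = s u s
    have hf : f = s * u * s := by
      rw [A.u_def]
      calc f = (s * s) * f * (s * s) := by rw [A.s2]; group
        _ = _ := by group
    have hz : z = w * f * w := by
      calc z = (w * w) * z * (w * w) := by rw [A.w2]; group
        _ = w * (w * z * w) * w := by group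
        _ = w * f * w := by rw [A.zw]
    have e1 : w * s * w * s * w * z = (w * s) * (w * u) * (w * s)⁻¹ := by
      rw [hz, hf]
      calc w * s * w * s * w * (w * (s * u * s) * w) = w * s * w * s * (w * w) * s * u * s * w := by
            group
        _ = w * s * w * (s * s) * u * s * w := by rw [A.w2]; group
        _ = w * s * w * u * s * w := by rw [A.s2]; group
        _ = (w * s) * (w * u) * (w⁻¹ * s⁻¹)⁻¹ := by group
        _ = (w * s) * (w * u) * (w * s)⁻¹ := by
          rw [hwinv, hsinv]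
    rw [e1]
    calc (w * s) * (w * u) * (w * s)⁻¹ * ((w * s) * (w * u) * (w * s)⁻¹) *
          ((w * s) * (w * u) * (w * s)⁻¹)
        = (w * s) * (w * u * (w * u) * (w * u)) * (w * s)⁻¹ := by group
      _ = 1 := by rw [A.wu]; group
  exact ⟨y2, yc, xc, vc, xz, xs, x3, vz, vy, v3, wc', w'2, xw', hwz⟩

/-- **The extra relation.** -/
theorem extra {z y s c f g u h d w x v : G} (A : Amal z y s c f g u h d w x v) (hz : z ≠ 1)
    (hM : ∀ t : G, orderOf t = 2 → HasModel t) :
    ∃ i < 3, w * s * w * s * w = c ^ i * (z * v⁻¹ * x⁻¹ * v) ∨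
      w * s * w * s * w = c ^ i * (s * y * v * x * v) := by
  obtain ⟨y2, yc, xc, vc, xz, xs, x3, vz, vy, v3, wc', w'2, xw', hwz⟩ := amal_facts A
  have hc1 : c ≠ 1 := by
    intro h1
    apply hz
    have hd : d = 1 := by rw [← A.cw, h1, mul_one, A.w2]
    have hy : y = z := by rw [← A.zd, hd]; group
    have := A.sy
    rw [hy] at this
    calc z = s * z * (s * z) := this.symm
      _ = s * z * (z * s) := by rw [A.zs]
      _ = s * (z * z) * s := by group
      _ = 1 := by rw [A.z2, mul_one, A.s2]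
  have hc : orderOf c = 3 := by
    haveI : Fact (Nat.Prime 3) := ⟨by norm_num⟩
    rw [orderOf_eq_prime_iff]
    exact ⟨by simpa [pow_succ] using A.c3, hc1⟩
  set K := centralizer ({c} : Set G) with hK
  have memK : ∀ a : G, a ∈ K ↔ a * c = c * a := fun a => mem_centralizer_singleton_iff
  have hcK : c ∈ K := (memK c).mpr rfl
  have hzK : z ∈ K := (memK z).mpr A.zc
  have hsK : s ∈ K := (memK s).mpr A.sc
  have hyK : y ∈ K := (memK y).mpr yc
  have hxK : x ∈ K := (memK x).mpr xc
  have hvK : v ∈ K := (memK v).mpr vc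
  have hwK : w * s * w * s * w ∈ K := (memK _).mpr wc'
  obtain ⟨i, hi, h⟩ := extra_abs (C := K) (c := ⟨c, hcK⟩) (z := ⟨z, hzK⟩) (s := ⟨s, hsK⟩)
    (y := ⟨y, hyK⟩) (x := ⟨x, hxK⟩) (v := ⟨v, hvK⟩) (w := ⟨w * s * w * s * w, hwK⟩)
    (by rw [orderOf_mk]; exact hc) (fun a => Subtype.ext ((memK a).mp a.2))
    (by
      intro t ht
      have ht' : orderOf (t : G) = 2 := by rw [orderOf_coe]; exact ht
      obtain ⟨-, hcard, Q, v', ρ, M⟩ := hM (t : G) ht'
      have hct : c ∈ centralizer ({(t : G)} : Set G) := by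
        rw [mem_centralizer_singleton_iff]; exact ((memK _).mp t.2).symm
      obtain ⟨D, ⟨e⟩, hD1, hD2⟩ := Cfsg.Agent.J3Type.CThree.exists_D M hcard
        (g := ⟨c, hct⟩) (by rw [orderOf_mk]; exact hc)
      -- transport D to K
      have hDK : D.map (centralizer ({(t : G)} : Set G)).subtype ≤ K := by
        rintro _ ⟨d', hd', rfl⟩
        exact (memK _).mpr (congrArg Subtype.val (hD1 d' hd'))
      refine ⟨(D.map (centralizer ({(t : G)} : Set G)).subtype).subgroupOf K,
        ⟨((subgroupOfEquivOfLe hDK).trans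
          (D.equivMapOfInjective _ (subtype_injective _)).symm).trans e⟩, ?_, ?_⟩
      · rintro d' ⟨d'', hd'', hdd⟩
        apply Subtype.ext
        have h1 : ((d'' : centralizer ({(t : G)} : Set G)) : G) = (d' : G) := hdd
        have h2 := d''.2
        rw [mem_centralizer_singleton_iff, h1] at h2
        exact h2
      · intro a ha
        have haC : (a : G) ∈ centralizer ({(t : G)} : Set G) := by
          rw [mem_centralizer_singleton_iff]; exact congrArg Subtype.val ha
        obtain ⟨d', hd', k, hk⟩ := hD2 ⟨(a : G), haC⟩ (Subtype.ext ((memK _).mp a.2))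
        have hd'K : (d' : G) ∈ K := hDK ⟨d', hd', rfl⟩
        refine ⟨⟨(d' : G), hd'K⟩, ⟨d', hd', rfl⟩, k, Subtype.ext ?_⟩
        have := congrArg Subtype.val hk
        simpa using this)
    (fun h1 => hz (congrArg Subtype.val h1)) (Subtype.ext A.z2) (Subtype.ext A.s2)
    (Subtype.ext A.zs.symm) (Subtype.ext y2) (Subtype.ext A.sy) (Subtype.ext xz)
    (Subtype.ext xs) (Subtype.ext x3) (Subtype.ext vz) (Subtype.ext vy) (Subtype.ext v3)
    (Subtype.ext w'2) (Subtype.ext xw') (Subtype.ext hwz)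
  refine ⟨i, hi, ?_⟩
  rcases h with h | h
  · left
    have := congrArg Subtype.val h
    simpa using this
  · right
    have := congrArg Subtype.val h
    simpa using this

end G

end Cfsg.Agent.J3Type.Extra
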