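import Mathlib
import Cfsg.Agent.J3Type.Closing
import Cfsg.Agent.J3.Simple

/-!
# The closing step for groups of type J3

If `C_G(z) ≤ H`, `H ≃* J₃`, all involutions of `G` are conjugate and the involutions of `C_G(z)` are
conjugate in `H` to `z`, then `H = G`.
-/

set_option autoImplicit false

namespace Cfsg.Agent.J3Type.ClosingApply

open Cfsg.Agent.J3 Cfsg.Agent.J3.Core Cfsg.Agent.J3.Elts Cfsg.Agent.J3.Simple Cfsg.Spor

/-- conjugation inverts `(x z)`: powers -/
theorem pow_inv {G : Type*} [Group G] {x z : G} (hx : x * x = 1) (hz : z * z = 1) (n : ℕ) :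
    z * (x * z) ^ n = ((x * z) ^ n)⁻¹ * z := by
  have hxi : x⁻¹ = x := inv_eq_of_mul_eq_one_left hx
  have hzi : z⁻¹ = z := inv_eq_of_mul_eq_one_left hz
  induction n with
  | zero => simp
  | succ n ih =>
    rw [pow_succ', ← mul_assoc]
    have h1 : z * (x * z) = (x * z)⁻¹ * z := by
      rw [mul_inv_rev, hxi, hzi, mul_assoc z x z]
    rw [h1, mul_assoc, ih, ← mul_assoc, ← mul_inv_rev, ← pow_succ, ← pow_succ']

/-- all involutions of `H` are `H`-conjugate to `z` -/
theorem one_class {G : Type*} [Group G] [Finite G] (z : G) (hz1 : z ≠ 1) (hzz : z * z = 1)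
    (H : Subgroup G) (hzH : z ∈ H)
    (hcls : ∀ r : G, r * z = z * r → r * r = 1 → r ≠ 1 → r ∈ H → ∃ g ∈ H, g * z * g⁻¹ = r) :
    ∀ x ∈ H, x ≠ 1 → x * x = 1 → ∃ g ∈ H, g * z * g⁻¹ = x := by
  intro x hxH hx1 hxx
  have hxi : x⁻¹ = x := inv_eq_of_mul_eq_one_left hxx
  have hzi : z⁻¹ = z := inv_eq_of_mul_eq_one_left hzz
  set a := x * z with ha
  have haH : a ∈ H := H.mul_mem hxH hzH
  have hxa : x = a * z := by rw [ha, mul_assoc, hzz, mul_one]
  have hza : ∀ n : ℕ, z * a ^ n = (a ^ n)⁻¹ * z := pow_inv hxx hzz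
  rcases Nat.even_or_odd (orderOf a) with he | ho
  · obtain ⟨m, hm⟩ := he
    have hpos : 0 < orderOf a := orderOf_pos a
    have hmpos : 0 < m := by omega
    set j := a ^ m with hj
    have hj1 : j ≠ 1 := by
      intro h
      have := orderOf_dvd_of_pow_eq_one h
      have := Nat.le_of_dvd hmpos this
      omega
    have hjj : j * j = 1 := by rw [hj, ← pow_add, ← hm, pow_orderOf_eq_one]
    have hji : j⁻¹ = j := inv_eq_of_mul_eq_one_left hjj
    have hjz : j * z = z * j := by rw [hj, hza m, ← hj, hji]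
    have hja : j * a = a * j := by rw [hj, ← pow_succ, ← pow_succ']
    have hjx : j * x = x * j := by
      calc j * x = j * (a * z) := by rw [← hxa]
        _ = (j * a) * z := by group
        _ = a * (j * z) := by rw [hja]; group
        _ = (a * z) * j := by rw [hjz]; group
        _ = x * j := by rw [← hxa]
    have hjH : j ∈ H := H.pow_mem haH m
    obtain ⟨g, hg, hgj⟩ := hcls j hjz hjj hj1 hjH
    have h1 : (g⁻¹ * x * g) * z = z * (g⁻¹ * x * g) := by
      have h2 : z = g⁻¹ * j * g := by rw [← hgj]; group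
      rw [h2]
      calc g⁻¹ * x * g * (g⁻¹ * j * g) = g⁻¹ * (x * j) * g := by group
        _ = g⁻¹ * (j * x) * g := by rw [hjx]
        _ = g⁻¹ * j * g * (g⁻¹ * x * g) := by group
    obtain ⟨k, hk, hkx⟩ := hcls (g⁻¹ * x * g) h1 (by
        calc g⁻¹ * x * g * (g⁻¹ * x * g) = g⁻¹ * (x * x) * g := by group
          _ = 1 := by rw [hxx]; group) (by
        intro h
        apply hx1
        calc x = g * (g⁻¹ * x * g) * g⁻¹ := by group
          _ = 1 := by rw [h]; group) (H.mul_mem (H.mul_mem (H.inv_mem hg) hxH) hg)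
    refine ⟨g * k, H.mul_mem hg hk, ?_⟩
    calc g * k * z * (g * k)⁻¹ = g * (k * z * k⁻¹) * g⁻¹ := by group
      _ = x := by rw [hkx]; group
  · obtain ⟨m, hm⟩ := ho
    refine ⟨a ^ (m + 1), H.pow_mem haH _, ?_⟩
    have h1 : z * (a ^ (m + 1))⁻¹ = a ^ (m + 1) * z := by
      have := hza (m + 1)
      calc z * (a ^ (m + 1))⁻¹ = z * ((a ^ (m + 1))⁻¹ * z) * z⁻¹ := by group
        _ = z * (z * a ^ (m + 1)) * z⁻¹ := by rw [this]
        _ = (z * z) * a ^ (m + 1) * z := by rw [hzi]; group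
        _ = a ^ (m + 1) * z := by rw [hzz, one_mul]
    calc a ^ (m + 1) * z * (a ^ (m + 1))⁻¹ = a ^ (m + 1) * (z * (a ^ (m + 1))⁻¹) := by group
      _ = a ^ (m + 1) * (a ^ (m + 1) * z) := by rw [h1]
      _ = a ^ (m + 1 + (m + 1)) * z := by rw [← mul_assoc, ← pow_add]
      _ = a ^ (orderOf a + 1) * z := by rw [hm]; congr 2; omega
      _ = x := by rw [pow_succ, pow_orderOf_eq_one, one_mul, ← hxa]

/-- no element of order 17 of `J₃` commutes with an element of order 19 -/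
theorem not_comm {F : Type*} [Field F] [Fintype F] {ω : F} (hF : Fintype.card F = 4) (H : Good ω)
    (a b : J3 F ω) (ha : orderOf a = 17) (hb : orderOf b = 19) : a * b ≠ b * a := by
  intro hab
  obtain ⟨x, rfl⟩ := QuotientGroup.mk_surjective a
  obtain ⟨y, rfl⟩ := QuotientGroup.mk_surjective b
  obtain ⟨G⟩ := exists_gens hF H
  have hZ : ∀ t : threeJ3 F ω, t ∈ Subgroup.center (threeJ3 F ω) → t ^ 3 = 1 := by
    intro t ht
    have h1 : Nat.card (Subgroup.center (threeJ3 F ω)) = 3 := Cfsg.Agent.J3.Nineteen.card_center hF H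
    have h2 : (⟨t, ht⟩ : Subgroup.center (threeJ3 F ω)) ^
        Nat.card (Subgroup.center (threeJ3 F ω)) = 1 := pow_card_eq_one'
    have h3 := congrArg Subtype.val h2
    have h4 : t ^ Nat.card (Subgroup.center (threeJ3 F ω)) = 1 := h3
    rwa [h1] at h4
  have hx17 : x ^ 17 ∈ Subgroup.center (threeJ3 F ω) := by
    rw [← QuotientGroup.eq_one_iff, QuotientGroup.mk_pow, ← ha, pow_orderOf_eq_one]
  have hy19 : y ^ 19 ∈ Subgroup.center (threeJ3 F ω) := by
    rw [← QuotientGroup.eq_one_iff, QuotientGroup.mk_pow, ← hb, pow_orderOf_eq_one]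
  set x' := x ^ 3 with hx'
  set y' := y ^ 3 with hy'
  have hx17' : x' ^ 17 = 1 := by
    rw [hx', ← pow_mul, mul_comm, pow_mul]; exact hZ _ hx17
  have hy19' : y' ^ 19 = 1 := by
    rw [hy', ← pow_mul, mul_comm, pow_mul]; exact hZ _ hy19
  have hy'1 : y' ≠ 1 := by
    intro h
    have h1 : ((y : threeJ3 F ω) : J3 F ω) ^ 3 = 1 := by
      rw [← QuotientGroup.mk_pow, ← hy', h]; rfl
    have h2 := orderOf_dvd_of_pow_eq_one h1
    rw [hb] at h2
    norm_num at h2
  have hx'1 : x' ≠ 1 := by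
    intro h
    have h1 : ((x : threeJ3 F ω) : J3 F ω) ^ 3 = 1 := by
      rw [← QuotientGroup.mk_pow, ← hx', h]; rfl
    have h2 := orderOf_dvd_of_pow_eq_one h1
    rw [ha] at h2
    norm_num at h2
  have ho : orderOf y' = 19 := by
    have : Fact (Nat.Prime 19) := ⟨by norm_num⟩
    exact orderOf_eq_prime hy19' hy'1
  -- commutator is central
  have hcm : ((x' * y' : threeJ3 F ω) : J3 F ω) = ((y' * x' : threeJ3 F ω) : J3 F ω) := by
    have hc : Commute ((x : threeJ3 F ω) : J3 F ω) ((y : threeJ3 F ω) : J3 F ω) := hab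
    have h1 := (hc.pow_pow 3 3).eq
    rw [hx', hy', QuotientGroup.mk_mul, QuotientGroup.mk_mul, QuotientGroup.mk_pow,
      QuotientGroup.mk_pow]
    exact h1
  have hcen : x' * y' * (y' * x')⁻¹ ∈ Subgroup.center (threeJ3 F ω) := by
    rw [← QuotientGroup.eq_one_iff, QuotientGroup.mk_mul, QuotientGroup.mk_inv, hcm, mul_inv_cancel]
  set ζ := x' * y' * (y' * x')⁻¹ with hζ
  have hζc := Subgroup.mem_center_iff.mp hcen
  have hconj : x' * y' * x'⁻¹ = ζ * y' := by
    rw [hζ]; group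
  have h19 : (ζ * y') ^ 19 = 1 := by
    rw [← hconj, conj_pow, hy19']; group
  have hcomm : Commute ζ y' := (hζc y').symm
  rw [hcomm.mul_pow, hy19', mul_one] at h19
  have h3 := hZ ζ hcen
  have hζ1 : ζ = 1 := by
    have : ζ ^ 19 = (ζ ^ 3) ^ 6 * ζ := by rw [← pow_mul, ← pow_succ]
    rw [this, h3, one_pow, one_mul] at h19
    exact h19
  have hxy : y' * x' = x' * y' := by
    rw [hζ1, one_mul] at hconj
    calc y' * x' = x' * y' * x'⁻¹ * x' := by rw [hconj]
      _ = x' * y' := by group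
  exact hx'1 (eq_one_of_commute hF H G ho (p := 17) (by norm_num) (by norm_num) hx17' hxy)

theorem isoJ3_facts {H : Type*} [Group H] (hJ : IsoJ3 H) : Nat.card H = 50232960 ∧
    ∀ x y : H, orderOf x = 17 → orderOf y = 19 → x * y ≠ y * x := by
  obtain ⟨F, _, _, ω, hF, hω, ⟨e⟩⟩ := hJ
  have Hg := good_of_card hF hω
  refine ⟨?_, ?_⟩
  · rw [Nat.card_congr e.toEquiv]; exact card_J3 hF Hg
  · intro x y hx hy h
    refine not_comm hF Hg (e x) (e y) ?_ ?_ ?_
    · rw [← hx]; exact orderOf_injective e.toMonoidHom e.injective x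
    · rw [← hy]; exact orderOf_injective e.toMonoidHom e.injective y
    · rw [← map_mul, h, map_mul]

/-- **Closing step**: a subgroup of type `J₃` containing `C_G(z)` is everything. -/
theorem eq_top {G : Type*} [Group G] [Finite G] (z : G) (hz1 : z ≠ 1) (hzz : z * z = 1)
    (hone : ∀ x y : G, orderOf x = 2 → orderOf y = 2 → IsConj x y)
    (hcard : Nat.card (Subgroup.centralizer ({z} : Set G)) = 1920)
    (H : Subgroup G) (hCH : Subgroup.centralizer ({z} : Set G) ≤ H)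
    (hcls : ∀ r : G, r * z = z * r → r * r = 1 → r ≠ 1 → ∃ g ∈ H, g * z * g⁻¹ = r)
    (hJ : IsoJ3 H) : H = ⊤ := by
  obtain ⟨hH, hcomm⟩ := isoJ3_facts hJ
  have ho2 : ∀ x : G, x ≠ 1 → x * x = 1 → orderOf x = 2 := by
    intro x h1 h2
    have : Fact (Nat.Prime 2) := ⟨Nat.prime_two⟩
    exact orderOf_eq_prime (by rw [pow_two]; exact h2) h1
  refine Cfsg.Agent.J3Type.Closing.eq_top z hz1 hzz H hcard hCH ?_ ?_ hH ?_
  · intro x h1 h2
    obtain ⟨g, hg⟩ := isConj_iff.mp (hone z x (ho2 z hz1 hzz) (ho2 x h1 h2))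
    exact ⟨g, hg⟩
  · exact one_class z hz1 hzz H (hCH (Subgroup.mem_centralizer_singleton_iff.mpr rfl))
      (fun r h1 h2 h3 _ => hcls r h1 h2 h3)
  · intro x hx y hy h1 h2 h3
    refine hcomm ⟨x, hx⟩ ⟨y, hy⟩ ?_ ?_ (Subtype.ext h3)
    · rw [← h1]; exact (Subgroup.orderOf_mk x hx)
    · rw [← h2]; exact (Subgroup.orderOf_mk y hy)

/-- **Closing step**, final form. -/
theorem isoJ3 {G : Type*} [Group G] [Finite G] (z : G) (hz1 : z ≠ 1) (hzz : z * z = 1)
    (hone : ∀ x y : G, orderOf x = 2 → orderOf y = 2 → IsConj x y)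
    (hcard : Nat.card (Subgroup.centralizer ({z} : Set G)) = 1920)
    (H : Subgroup G) (hCH : Subgroup.centralizer ({z} : Set G) ≤ H)
    (hcls : ∀ r : G, r * z = z * r → r * r = 1 → r ≠ 1 → ∃ g ∈ H, g * z * g⁻¹ = r)
    (hJ : IsoJ3 H) : IsoJ3 G := by
  have h := eq_top z hz1 hzz hone hcard H hCH hcls hJ
  obtain ⟨F, i1, i2, ω, hF, hω, ⟨e⟩⟩ := hJ
  subst h
  exact ⟨F, i1, i2, ω, hF, hω, ⟨(Subgroup.topEquiv (G := G)).symm.trans e⟩⟩

end Cfsg.Agent.J3Type.ClosingApply
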