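import Mathlib
import Cfsg.Agent.J2Type.CStruct
import Cfsg.Agent.Transfer.ThompsonTransfer

/-!
# A complement `A₅` in the split case

If some involution of `C` lies outside `Q` then there is a complement `A₅` acting on the `v i`
without signs.
-/

set_option autoImplicit false

namespace Cfsg.Agent.J3Type.Kappa

open Cfsg.Agent.J2Type.Model Cfsg.Agent.J2Type.CStruct Cfsg.Agent.J2Type.SPFacts

variable {C : Type*} [Group C] {Q : Subgroup C} {z : C} {v : Fin 5 → C} {ρ : C →* SP}

/-- the even unsigned permutations -/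
def TB : Finset SP :=
  ((Finset.univ : Finset (Equiv.Perm (Fin 5))).filter (fun σ => Equiv.Perm.sign σ = 1)).image
    (fun σ => ⟨σ, fun _ => 0⟩)

theorem card_TB : TB.card = 60 := by
  unfold TB
  rw [Finset.card_image_of_injective _ (fun a b h => congrArg SP.σ h)]
  decide +kernel

theorem mem_TB (g : SP) : g ∈ TB ↔ Equiv.Perm.sign g.σ = 1 ∧ g.s = 0 := by
  unfold TB
  rw [Finset.mem_image]
  constructor
  · rintro ⟨σ, hσ, rfl⟩
    exact ⟨(Finset.mem_filter.1 hσ).2, rfl⟩
  · rintro ⟨h1, h2⟩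
    exact ⟨g.σ, Finset.mem_filter.2 ⟨Finset.mem_univ _, h1⟩, SP.ext rfl h2.symm⟩

/-- the preimage of the unsigned permutations -/
def BB (ρ : C →* SP) : Subgroup C where
  carrier := {c | (ρ c).s = 0}
  one_mem' := by
    show (ρ 1).s = 0
    rw [map_one]; rfl
  mul_mem' := by
    intro a b ha hb
    show (ρ (a * b)).s = 0
    rw [map_mul]
    funext i
    rw [mul_s]
    have ha' : (ρ a).s = 0 := ha
    have hb' : (ρ b).s = 0 := hb
    rw [ha', hb']; rfl
  inv_mem' := by
    intro a ha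
    show (ρ a⁻¹).s = 0
    rw [map_inv]
    funext i
    rw [inv_s]
    have ha' : (ρ a).s = 0 := ha
    rw [ha']; rfl

theorem mem_BB {c : C} : c ∈ BB ρ ↔ (ρ c).s = 0 := Iff.rfl

theorem card_BB (M : IsModel Q z v ρ) : Nat.card (BB ρ) = 120 := by
  have h1 := card_fiber M TB (fun g hg => by
    rw [mem_TB] at hg
    refine ⟨hg.1, ?_⟩
    rw [hg.2]; simp)
  rw [card_TB] at h1
  rw [show (120 : ℕ) = 2 * 60 by norm_num, ← h1]
  refine Nat.card_congr (Equiv.subtypeEquivRight ?_)
  intro x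
  rw [mem_TB, mem_BB]
  exact ⟨fun h => ⟨((M.range (ρ x)).1 ⟨x, rfl⟩).1, h⟩, fun h => h.2⟩

theorem s1_comm : (⟨σ0, fun _ => 0⟩ : SP) * ⟨σ1, fun _ => 0⟩ = ⟨σ1, fun _ => 0⟩ * ⟨σ0, fun _ => 0⟩ := by
  decide +kernel

theorem exists_hom (M : IsModel Q z v ρ) [Finite C] (x : C) (hx : x ∉ Q) (hx2 : x * x = 1) :
    ∃ f : BB ρ →* ℤˣ, ∀ h : z ∈ BB ρ, f ⟨z, h⟩ = -1 := by
  obtain ⟨x0, h0⟩ := (M.range (⟨σ0, fun _ => 0⟩ : SP)).2 (by decide +kernel)
  obtain ⟨x1, h1⟩ := (M.range (⟨σ1, fun _ => 0⟩ : SP)).2 (by decide +kernel)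
  have q0 : x0 * x0 = 1 := sq_of_rho_sq M hx2 hx (by rw [h0]; decide +kernel) (by rw [h0]; decide +kernel)
  have q1 : x1 * x1 = 1 := sq_of_rho_sq M hx2 hx (by rw [h1]; decide +kernel) (by rw [h1]; decide +kernel)
  have q01 : (x0 * x1) * (x0 * x1) = 1 := by
    apply sq_of_rho_sq M hx2 hx
    · rw [map_mul, h0, h1]; decide +kernel
    · rw [map_mul, h0, h1]; decide +kernel
  have hcomm : x1 * x0 = x0 * x1 := by
    have e1 : (x0 * x1)⁻¹ = x0 * x1 := inv_eq_of_mul_eq_one_left q01
    rw [mul_inv_rev, inv_eq_of_mul_eq_one_left q0, inv_eq_of_mul_eq_one_left q1] at e1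
    exact e1
  have m0 : x0 ∈ BB ρ := by rw [mem_BB, h0]; rfl
  have m1 : x1 ∈ BB ρ := by rw [mem_BB, h1]; rfl
  have mz : z ∈ BB ρ := by rw [mem_BB, rho_z M]; rfl
  -- the four-group
  let X0 : BB ρ := ⟨x0, m0⟩
  let X1 : BB ρ := ⟨x1, m1⟩
  have Q0 : X0 * X0 = 1 := Subtype.ext q0
  have Q1 : X1 * X1 = 1 := Subtype.ext q1
  have hC : X1 * X0 = X0 * X1 := Subtype.ext hcomm
  let P : Subgroup (BB ρ) :=
    { carrier := {y | y = 1 ∨ y = X0 ∨ y = X1 ∨ y = X0 * X1}
      one_mem' := Or.inl rfl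
      mul_mem' := by
        have e1 : X0 * (X0 * X1) = X1 := by rw [← mul_assoc, Q0, one_mul]
        have e2 : X1 * (X0 * X1) = X0 := by rw [← mul_assoc, hC, mul_assoc, Q1, mul_one]
        have e3 : (X0 * X1) * X0 = X1 := by rw [mul_assoc, hC, e1]
        have e4 : (X0 * X1) * X1 = X0 := by rw [mul_assoc, Q1, mul_one]
        have e5 : (X0 * X1) * (X0 * X1) = 1 := by rw [mul_assoc, e2, Q0]
        rintro a b (rfl | rfl | rfl | rfl) (rfl | rfl | rfl | rfl) <;>
          simp [Q0, Q1, hC, e1, e2, e3, e4, e5]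
      inv_mem' := by
        rintro a (rfl | rfl | rfl | rfl)
        · left; exact inv_one
        · right; left; exact inv_eq_of_mul_eq_one_left Q0
        · right; right; left; exact inv_eq_of_mul_eq_one_left Q1
        · right; right; right
          exact inv_eq_of_mul_eq_one_left (Subtype.ext q01) }
  have n0 : X0 ≠ 1 := by
    intro h; have := congrArg (fun y : BB ρ => ρ (y : C)) h
    simp only [X0, h0] at this
    rw [show ((1 : BB ρ) : C) = 1 from rfl, map_one] at this
    revert this; decide +kernel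
  have n1 : X1 ≠ 1 := by
    intro h; have := congrArg (fun y : BB ρ => ρ (y : C)) h
    simp only [X1, h1] at this
    rw [show ((1 : BB ρ) : C) = 1 from rfl, map_one] at this
    revert this; decide +kernel
  have n01 : X0 ≠ X1 := by
    intro h; have := congrArg (fun y : BB ρ => ρ (y : C)) h
    simp only [X0, X1, h0, h1] at this
    revert this; decide +kernel
  have hPcard : Nat.card P = 4 := by
    classical
    have : Nat.card P = ({1, X0, X1, X0 * X1} : Finset (BB ρ)).card := by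
      apply Nat.subtype_card
      intro y
      show y ∈ ({1, X0, X1, X0 * X1} : Finset (BB ρ)) ↔ (y = 1 ∨ y = X0 ∨ y = X1 ∨ y = X0 * X1)
      simp
    rw [this]
    have a1 : X0 * X1 ≠ 1 := by
      intro h
      apply n01
      calc X0 = X0 * (X1 * X1) := by rw [Q1, mul_one]
        _ = (X0 * X1) * X1 := by rw [mul_assoc]
        _ = X1 := by rw [h, one_mul]
    have a2 : X0 * X1 ≠ X0 := by
      intro h; exact n1 (mul_eq_left.1 h)
    have a3 : X0 * X1 ≠ X1 := by
      intro h; exact n0 (mul_eq_right.1 h)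
    rw [Finset.card_insert_of_notMem, Finset.card_insert_of_notMem, Finset.card_insert_of_notMem,
      Finset.card_singleton]
    · simp only [Finset.mem_singleton]; exact a3.symm
    · simp only [Finset.mem_insert, Finset.mem_singleton, not_or]; exact ⟨n01, a2.symm⟩
    · simp only [Finset.mem_insert, Finset.mem_singleton, not_or]; exact ⟨n0.symm, n1.symm, a1.symm⟩
  have hidx : P.index = 2 * 15 := by
    have h3 := P.card_mul_index
    rw [hPcard, card_BB M] at h3
    omega
  obtain ⟨f, hf⟩ := Cfsg.Agent.Transfer.ThompsonTransfer.exists_hom_eq_neg_one P hidx (by decide)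
    ⟨z, mz⟩ (by rw [sq]; exact Subtype.ext M.z_sq) (by
      intro g hg
      have e1 : g * ⟨z, mz⟩ * g⁻¹ = ⟨z, mz⟩ := by
        apply Subtype.ext
        show (g : C) * z * (g : C)⁻¹ = z
        rw [M.z_comm]; group
      rw [e1] at hg
      rcases hg with h | h | h | h
      · exact M.z_ne (congrArg Subtype.val h)
      · have h2 : z = x0 := congrArg Subtype.val h
        have := congrArg ρ h2
        rw [rho_z M, h0] at this
        revert this; decide +kernel
      · have h2 : z = x1 := congrArg Subtype.val h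
        have := congrArg ρ h2
        rw [rho_z M, h1] at this
        revert this; decide +kernel
      · have h2 : z = x0 * x1 := congrArg Subtype.val h
        have := congrArg ρ h2
        rw [rho_z M, map_mul, h0, h1] at this
        revert this; decide +kernel)
  exact ⟨f, fun _ => hf⟩

/-- **The complement** `A₅` acting on the `v i` without signs. -/
theorem exists_kappa [Finite C] (M : IsModel Q z v ρ) (x : C) (hx : x ∉ Q) (hx2 : x * x = 1) :
    ∃ κ : alternatingGroup (Fin 5) →* C, ∀ σ, ρ (κ σ) = ⟨σ, 0⟩ := by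
  obtain ⟨f, hf⟩ := exists_hom M x hx hx2
  have mz : z ∈ BB ρ := by rw [mem_BB, rho_z M]; rfl
  have hfz := hf mz
  have hex : ∀ σ : alternatingGroup (Fin 5), ∃ c : BB ρ, ρ (c : C) = ⟨σ, 0⟩ ∧ f c = 1 := by
    intro σ
    obtain ⟨c, hc⟩ := (M.range (⟨σ, 0⟩ : SP)).2
      ⟨Equiv.Perm.mem_alternatingGroup.1 σ.2, by simp⟩
    have hcB : c ∈ BB ρ := by rw [mem_BB, hc]
    rcases Int.units_eq_one_or (f ⟨c, hcB⟩) with h | h
    · exact ⟨⟨c, hcB⟩, hc, h⟩
    · refine ⟨⟨z, mz⟩ * ⟨c, hcB⟩, ?_, ?_⟩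
      · show ρ (z * c) = _
        rw [map_mul, rho_z M, one_mul, hc]
      · rw [map_mul, hfz, h]; rfl
  choose k hk1 hk2 using hex
  have huniq : ∀ a b : BB ρ, ρ (a : C) = ρ (b : C) → f a = f b → a = b := by
    intro a b h1 h2
    obtain ⟨e, he⟩ := eq_of_rho_eq M h1
    rcases zmod2_cases e with rfl | rfl
    · rw [zp_zero, one_mul] at he
      exact Subtype.ext he
    · exfalso
      rw [zp_one] at he
      have h3 : a = ⟨z, mz⟩ * b := Subtype.ext he
      rw [h3, map_mul, hfz] at h2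
      have h4 : (-1 : ℤˣ) = 1 := mul_eq_right.1 h2
      revert h4; decide
  refine ⟨MonoidHom.mk' (fun σ => ((k σ : BB ρ) : C)) ?_, fun σ => hk1 σ⟩
  intro a b
  have : k (a * b) = k a * k b := by
    apply huniq
    · rw [hk1]
      show _ = ρ ((k a : C) * (k b : C))
      rw [map_mul, hk1, hk1]
      apply SP.ext
      · rfl
      · funext i
        rw [mul_s]; simp
    · rw [hk2, map_mul, hk2, hk2, mul_one]
  exact congrArg Subtype.val this

end Cfsg.Agent.J3Type.Kappa
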