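import Mathlib
import Cfsg.Agent.J2Type.CStruct
import Cfsg.Agent.J2Type.COdd
import Cfsg.Agent.J3Type.Kappa
import Cfsg.Agent.J3Type.PresDef

/-!
# The elements `z y s c f g u h` of the centraliser of an involution

From the signed permutation model and the complement `κ : A₅ → C` we get elements satisfying `CEl`.
-/

set_option autoImplicit false
set_option linter.unusedSimpArgs false

namespace Cfsg.Agent.J3Type.CElts

open Cfsg.Agent.J2Type.Model Cfsg.Agent.J2Type.CStruct Cfsg.Agent.J2Type.SPFacts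
  Cfsg.Agent.J3Type.PresDef

/-- `(0 1 2)` -/
def ac : alternatingGroup (Fin 5) := ⟨τ3, by rw [Equiv.Perm.mem_alternatingGroup]; decide +kernel⟩
/-- `(0 1)(2 3)` -/
def af : alternatingGroup (Fin 5) := ⟨σ0, by rw [Equiv.Perm.mem_alternatingGroup]; decide +kernel⟩
/-- `(0 2)(1 3)` -/
def ag : alternatingGroup (Fin 5) := ⟨σ1, by rw [Equiv.Perm.mem_alternatingGroup]; decide +kernel⟩
/-- `(0 1)(3 4)` -/
def ah : alternatingGroup (Fin 5) :=
  ⟨Equiv.swap 0 1 * Equiv.swap 3 4, by rw [Equiv.Perm.mem_alternatingGroup]; decide +kernel⟩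

theorem ac3 : ac * ac * ac = 1 := by decide +kernel
theorem af2 : af * af = 1 := by decide +kernel
theorem ag2 : ag * ag = 1 := by decide +kernel
theorem ah2 : ah * ah = 1 := by decide +kernel
theorem acf : ac * af * (ac * af) * (ac * af) = 1 := by decide +kernel
theorem afh : af * ah * (af * ah) * (af * ah) = 1 := by decide +kernel
theorem ach : ac * ah * (ac * ah) = 1 := by decide +kernel
theorem ag_def : ag = ac⁻¹ * af * ac := by decide +kernel
theorem afg : af * ag = ag * af := by decide +kernel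
theorem agc : ac⁻¹ * ag * ac = af * ag := by decide +kernel

variable {C : Type*} [Group C] {Q : Subgroup C} {z : C} {v : Fin 5 → C} {ρ : C →* SP}

section
variable (M : IsModel Q z v ρ) (κ : alternatingGroup (Fin 5) →* C)
  (hκ : ∀ σ, ρ (κ σ) = ⟨σ, 0⟩)
include M hκ

theorem kv (σ : alternatingGroup (Fin 5)) (i : Fin 5) : κ σ * v i = v ((σ : Equiv.Perm (Fin 5)) i) * κ σ := by
  have h := M.conj (κ σ) i
  rw [hκ] at h
  have h2 : κ σ * v i * (κ σ)⁻¹ = v ((σ : Equiv.Perm (Fin 5)) i) := by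
    rw [h]
    show zp z 0 * _ = _
    rw [zp_zero, one_mul]
  exact mul_inv_eq_iff_eq_mul.1 h2

theorem fv0 : κ af * v 0 = v 1 * κ af := kv M κ hκ af 0
theorem fv1 : κ af * v 1 = v 0 * κ af := kv M κ hκ af 1
theorem fv2 : κ af * v 2 = v 3 * κ af := kv M κ hκ af 2
theorem fv3 : κ af * v 3 = v 2 * κ af := kv M κ hκ af 3
theorem fv4 : κ af * v 4 = v 4 * κ af := kv M κ hκ af 4
theorem gv0 : κ ag * v 0 = v 2 * κ ag := kv M κ hκ ag 0
theorem gv1 : κ ag * v 1 = v 3 * κ ag := kv M κ hκ ag 1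
theorem gv2 : κ ag * v 2 = v 0 * κ ag := kv M κ hκ ag 2
theorem gv3 : κ ag * v 3 = v 1 * κ ag := kv M κ hκ ag 3
theorem gv4 : κ ag * v 4 = v 4 * κ ag := kv M κ hκ ag 4
theorem hv3 : κ ah * v 3 = v 4 * κ ah := kv M κ hκ ah 3
theorem hv4 : κ ah * v 4 = v 3 * κ ah := kv M κ hκ ah 4
theorem hv2 : κ ah * v 2 = v 2 * κ ah := kv M κ hκ ah 2
theorem cv3 : κ ac * v 3 = v 3 * κ ac := kv M κ hκ ac 3
theorem cv4 : κ ac * v 4 = v 4 * κ ac := kv M κ hκ ac 4

end

section
variable (M : IsModel Q z v ρ)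
include M
/-- `v 3 v 2 v 1 v 0 v 4 = 1` -/
theorem prod2 : v 3 * (v 2 * (v 1 * (v 0 * v 4))) = 1 := by
  have h := prod_perm M.z_sq M.z_comm v M.v_anti M.v_prod
    (Equiv.swap 0 3 * Equiv.swap 1 2 : Equiv.Perm (Fin 5))
  rw [if_pos (by decide +kernel), zp_zero] at h
  have e0 : (Equiv.swap 0 3 * Equiv.swap 1 2 : Equiv.Perm (Fin 5)) 0 = 3 := by decide +kernel
  have e1 : (Equiv.swap 0 3 * Equiv.swap 1 2 : Equiv.Perm (Fin 5)) 1 = 2 := by decide +kernel
  have e2 : (Equiv.swap 0 3 * Equiv.swap 1 2 : Equiv.Perm (Fin 5)) 2 = 1 := by decide +kernel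
  have e3 : (Equiv.swap 0 3 * Equiv.swap 1 2 : Equiv.Perm (Fin 5)) 3 = 0 := by decide +kernel
  have e4 : (Equiv.swap 0 3 * Equiv.swap 1 2 : Equiv.Perm (Fin 5)) 4 = 4 := by decide +kernel
  rw [e0, e1, e2, e3, e4] at h
  rw [← h]; group

theorem v0123 : v 0 * (v 1 * (v 2 * v 3)) = v 4 := by
  have h := M.v_prod
  have h2 : (v 0 * (v 1 * (v 2 * v 3))) * v 4 = 1 := by rw [← h]; group
  rw [mul_eq_one_iff_eq_inv.1 h2]
  exact inv_eq_of_mul_eq_one_left (M.v_sq 4)
end

/-- **The elements of the centraliser.** -/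
theorem cel_of_kappa (M : IsModel Q z v ρ) (κ : alternatingGroup (Fin 5) →* C)
    (hκ : ∀ σ, ρ (κ σ) = ⟨σ, 0⟩) :
    CEl z (z * v 4) (z * v 3) (κ ac) (κ af) (κ ag) (v 3 * v 2 * κ af) (κ ah) := by
  have zc := M.z_comm
  have zz := M.z_sq
  have zzx : ∀ x, z * (z * x) = x := fun x => by rw [← mul_assoc, zz, one_mul]
  have zl : ∀ c x, c * (z * x) = z * (c * x) := fun c x => by rw [← mul_assoc, zc, mul_assoc]
  have vv : ∀ i, v i * v i = 1 := M.v_sq
  have vvx : ∀ i x, v i * (v i * x) = x := fun i x => by rw [← mul_assoc, vv, one_mul]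
  have ff : κ af * κ af = 1 := by rw [← map_mul, af2, map_one]
  have gg : κ ag * κ ag = 1 := by rw [← map_mul, ag2, map_one]
  have hh : κ ah * κ ah = 1 := by rw [← map_mul, ah2, map_one]
  have fv2 := fv2 M κ hκ
  have fv3 := fv3 M κ hκ
  have fv2x : ∀ x, κ af * (v 2 * x) = v 3 * (κ af * x) := fun x => by rw [← mul_assoc, fv2, mul_assoc]
  have fv3x : ∀ x, κ af * (v 3 * x) = v 2 * (κ af * x) := fun x => by rw [← mul_assoc, fv3, mul_assoc]
  have gv3 := gv3 M κ hκ
  have gv2 := gv2 M κ hκ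
  have gv3x : ∀ x, κ ag * (v 3 * x) = v 1 * (κ ag * x) := fun x => by rw [← mul_assoc, gv3, mul_assoc]
  have gv2x : ∀ x, κ ag * (v 2 * x) = v 0 * (κ ag * x) := fun x => by rw [← mul_assoc, gv2, mul_assoc]
  have hv3 := hv3 M κ hκ
  have hv2 := hv2 M κ hκ
  have hv4 := hv4 M κ hκ
  have hv3x : ∀ x, κ ah * (v 3 * x) = v 4 * (κ ah * x) := fun x => by rw [← mul_assoc, hv3, mul_assoc]
  have hv2x : ∀ x, κ ah * (v 2 * x) = v 2 * (κ ah * x) := fun x => by rw [← mul_assoc, hv2, mul_assoc]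
  refine
    { z2 := zz
      s2 := ?_
      f2 := ff
      h2 := hh
      c3 := by rw [← map_mul, ← map_mul, ac3, map_one]
      cf := by rw [← map_mul, ← map_mul, ← map_mul, acf, map_one]
      fh := by rw [← map_mul, ← map_mul, ← map_mul, afh, map_one]
      ch := by rw [← map_mul, ← map_mul, ach, map_one]
      g_def := by rw [ag_def, map_mul, map_mul, map_inv]
      u_def := ?_
      y_def := ?_
      sy := ?_
      sc := ?_
      sfhf := ?_
      zs := ?_
      zf := (zc _).symm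
      zc := (zc _).symm
      zh := (zc _).symm
      prod := ?_ }
  · simp only [mul_assoc, zl, zzx, zc, vvx, vv]
  · simp only [mul_assoc, zl, zzx, zc, vvx, vv, fv3x, fv3]
  · have : κ ah * (z * v 3) * κ ah = z * (v 4 * (κ ah * κ ah)) := by
      simp only [mul_assoc, zl, zzx, zc, vvx, vv, hv3x, hv3]
    rw [this, hh, mul_one]
  · have h34 := M.v_anti 4 3 (by decide)
    calc z * v 3 * (z * v 4) * (z * v 3 * (z * v 4)) = (z * (z * (z * z))) * (v 3 * v 4 * (v 3 * v 4)) := by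
          simp only [mul_assoc, zl, zzx, zc]
      _ = v 3 * (v 4 * v 3) * v 4 := by rw [zz, mul_one, zz, one_mul]; group
      _ = v 3 * (z * (v 3 * v 4)) * v 4 := by rw [h34]
      _ = z := by simp only [mul_assoc, zl, zzx, zc, vvx, vv, mul_one]
  · have := cv3 M κ hκ
    calc z * v 3 * κ ac = z * (v 3 * κ ac) := by group
      _ = z * (κ ac * v 3) := by rw [this]
      _ = _ := by rw [← mul_assoc, ← zc]; group
  · simp only [mul_assoc, zl, zzx, zc, vvx, vv, hv3x, hv3, hv2x, hv2, fv3x, fv3, fv2x, fv2]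
  · simp only [mul_assoc, zl, zzx, zc]
  · have e1 : κ af * (z * v 3) * κ af = z * v 2 := by
      calc κ af * (z * v 3) * κ af = z * (v 2 * (κ af * κ af)) := by
            simp only [mul_assoc, zl, fv3x, fv3]
        _ = _ := by rw [ff, mul_one]
    have e2 : κ ag * (z * v 3) * κ ag = z * v 1 := by
      calc κ ag * (z * v 3) * κ ag = z * (v 1 * (κ ag * κ ag)) := by
            simp only [mul_assoc, zl, gv3x, gv3]
        _ = _ := by rw [gg, mul_one]
    have e3 : κ ag * κ af * (z * v 3) * κ af * κ ag = z * v 0 := by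
      calc κ ag * κ af * (z * v 3) * κ af * κ ag = κ ag * (κ af * (z * v 3) * κ af) * κ ag := by group
        _ = κ ag * (z * v 2) * κ ag := by rw [e1]
        _ = z * (v 0 * (κ ag * κ ag)) := by simp only [mul_assoc, zl, gv2x, gv2]
        _ = _ := by rw [gg, mul_one]
    rw [e1, e2, e3]
    calc z * v 3 * (z * v 2) * (z * v 1) * (z * v 0) * (z * v 4)
        = z * (z * (z * (z * (z * (v 3 * (v 2 * (v 1 * (v 0 * v 4)))))))) := by
          simp only [mul_assoc, zl]
      _ = z * (v 3 * (v 2 * (v 1 * (v 0 * v 4)))) := by rw [zzx, zzx]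
      _ = z := by rw [prod2 M, mul_one]

end Cfsg.Agent.J3Type.CElts
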