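import Mathlib
import Cfsg.Agent.J3Type.CElts

/-!
# Local facts on the centraliser of an involution

`LocC`: facts on the elements `z y s c f g u h` inside `C = C_G(z)`; `Loc`: the same facts stated in
`G`.
-/

set_option autoImplicit false
set_option linter.unusedSimpArgs false

namespace Cfsg.Agent.J3Type.Loc

open Cfsg.Agent.J2Type.Model Cfsg.Agent.J2Type.CStruct Cfsg.Agent.J2Type.SPFacts
  Cfsg.Agent.J2Type.COdd Cfsg.Agent.J3Type.PresDef Cfsg.Agent.J3Type.CElts

/-- facts inside `C` (`z` central) -/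
structure LocC {C : Type*} [Group C] (z y s c f g u h : C) : Prop extends CEl z y s c f g u h where
  z_ne : z ≠ 1
  z_cen : ∀ x, x * z = z * x
  fg : f * g = g * f
  fy : f * y = y * f
  gy : g * y = y * g
  cy : c * y = y * c
  gc : c⁻¹ * g * c = f * g
  fu : f * u * (f * u) = z
  gu : g * u * (g * u) = y
  inv_cases : ∀ r, r * y = y * r → r * r = 1 → r * f = f * r ∨ r * u = u * r
  cent_f : ∀ x, x * f = f * x → ∃ w t, (w = 1 ∨ w = z ∨ w = y ∨ w = z * y) ∧
    (t = 1 ∨ t = f ∨ t = g ∨ t = f * g) ∧ x = w * t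
  cent_u : ∀ x, x * u = u * x → x * x = 1
  cent_c : ∀ x, x * y = y * x → x * c = c * x → ∃ i w, (i = 1 ∨ i = c ∨ i = c * c) ∧
    (w = 1 ∨ w = z ∨ w = y ∨ w = z * y) ∧ x = i * w
  conj_c : ∀ x, x * y = y * x → x * x * x = 1 → x ≠ 1 → ∃ b, b * y = y * b ∧
    (b⁻¹ * x * b = c ∨ b⁻¹ * x * b = c⁻¹)
  inv_class : ∀ r, r * r = 1 → r ≠ 1 → r = z ∨ (∃ l, l⁻¹ * r * l = y) ∨ (∀ x, x * r = r * x → x * x = 1)
  card_f : Nat.card {x : C // x * f = f * x} = 16
  trans_f : ∀ t, t * t = 1 → Nat.card {x : C // x * t = t * x} = 16 → ∃ k, k⁻¹ * t * k = f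

/-- the same facts in `G`, `C = C_G(z)` -/
structure LocG {G : Type*} [Group G] (z y s c f g u h : G) : Prop extends CEl z y s c f g u h where
  z_ne : z ≠ 1
  zy : y * z = z * y
  zg : g * z = z * g
  zu : u * z = z * u
  fg : f * g = g * f
  fy : f * y = y * f
  gy : g * y = y * g
  cy : c * y = y * c
  gc : c⁻¹ * g * c = f * g
  fu : f * u * (f * u) = z
  gu : g * u * (g * u) = y
  inv_cases : ∀ r, r * z = z * r → r * y = y * r → r * r = 1 → r * f = f * r ∨ r * u = u * r
  cent_f : ∀ x, x * z = z * x → x * f = f * x → ∃ w t, (w = 1 ∨ w = z ∨ w = y ∨ w = z * y) ∧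
    (t = 1 ∨ t = f ∨ t = g ∨ t = f * g) ∧ x = w * t
  cent_u : ∀ x, x * z = z * x → x * u = u * x → x * x = 1
  cent_c : ∀ x, x * z = z * x → x * y = y * x → x * c = c * x → ∃ i w, (i = 1 ∨ i = c ∨ i = c * c) ∧
    (w = 1 ∨ w = z ∨ w = y ∨ w = z * y) ∧ x = i * w
  conj_c : ∀ x, x * z = z * x → x * y = y * x → x * x * x = 1 → x ≠ 1 → ∃ b, b * z = z * b ∧ b * y = y * b ∧
    (b⁻¹ * x * b = c ∨ b⁻¹ * x * b = c⁻¹)
  inv_class : ∀ r, r * z = z * r → r * r = 1 → r ≠ 1 → r = z ∨ (∃ l, l * z = z * l ∧ l⁻¹ * r * l = y) ∨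
    (∀ x, x * z = z * x → x * r = r * x → x * x = 1)
  card_f : Nat.card (Subgroup.centralizer ({z} : Set G) ⊓ Subgroup.centralizer ({f} : Set G) :
    Subgroup G) = 16
  trans_f : ∀ t, t * t = 1 → t * z = z * t →
    Nat.card (Subgroup.centralizer ({z} : Set G) ⊓ Subgroup.centralizer ({t} : Set G) :
      Subgroup G) = 16 → ∃ k, k * z = z * k ∧ k⁻¹ * t * k = f

/-! ### finite checks on signed permutations -/

/-- image of `v 3` -/
def p3 : SP := ⟨1, fun j => if j = 3 then 0 else 1⟩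
/-- image of `v 4` -/
def p4 : SP := ⟨1, fun j => if j = 4 then 0 else 1⟩
/-- image of `g` -/
def pg : SP := ⟨σ1, fun _ => 0⟩

theorem inv_aux : ∀ σ : Equiv.Perm (Fin 5), Equiv.Perm.sign σ = 1 → σ 4 = 4 → σ * σ = 1 → σ ≠ 1 →
    ∀ s : Fin 5 → ZMod 2, ∑ i, s i = 0 → s 4 = 0 → (∀ i, s i + s (σ i) = 0) →
    (⟨σ, s⟩ : SP) ∈ B ∨ p3⁻¹ * (⟨σ, s⟩ : SP) * p3 ∈ B := by
  decide +kernel

theorem B_list : ∀ p ∈ B, p = 1 ∨ p = g0 ∨ p = pg ∨ p = g0 * pg ∨ p = p4 ∨ p = p4 * g0 ∨
    p = p4 * pg ∨ p = p4 * (g0 * pg) := by decide +kernel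

theorem T3_list : ∀ p ∈ T3, p.s 4 = 0 → p = 1 ∨ p = g3 ∨ p = g3 * g3 ∨ p = p4 ∨ p = g3 * p4 ∨
    p = g3 * g3 * p4 := by decide +kernel

theorem four_card :
    ((Finset.univ : Finset (Equiv.Perm (Fin 5))).filter
      (fun σ => Equiv.Perm.sign σ = 1 ∧ σ 4 = 4)).card = 12 := by decide +kernel

theorem sign_card :
    ((Finset.univ : Finset (Fin 5 → ZMod 2)).filter (fun s => ∑ i, s i = 0 ∧ s 4 = 0)).card = 8 := by
  decide +kernel

/-- the stabiliser of the point 4 with sign -/
def T96 : Finset SP :=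
  (((Finset.univ : Finset (Equiv.Perm (Fin 5))).filter (fun σ => Equiv.Perm.sign σ = 1 ∧ σ 4 = 4)) ×ˢ
    ((Finset.univ : Finset (Fin 5 → ZMod 2)).filter (fun s => ∑ i, s i = 0 ∧ s 4 = 0))).image
      (fun p => ⟨p.1, p.2⟩)

theorem card_T96 : T96.card = 96 := by
  unfold T96
  rw [Finset.card_image_of_injective, Finset.card_product, four_card, sign_card]
  intro a b h
  exact Prod.ext (congrArg SP.σ h) (congrArg SP.s h)

theorem mem_T96 (p : SP) : p ∈ T96 ↔ (Equiv.Perm.sign p.σ = 1 ∧ ∑ i, p.s i = 0) ∧ p.σ 4 = 4 ∧ p.s 4 = 0 := by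
  unfold T96
  rw [Finset.mem_image]
  constructor
  · rintro ⟨q, hq, rfl⟩
    rw [Finset.mem_product, Finset.mem_filter, Finset.mem_filter] at hq
    exact ⟨⟨hq.1.2.1, hq.2.2.1⟩, hq.1.2.2, hq.2.2.2⟩
  · rintro ⟨⟨h1, h2⟩, h3, h4⟩
    refine ⟨(p.σ, p.s), ?_, rfl⟩
    rw [Finset.mem_product, Finset.mem_filter, Finset.mem_filter]
    exact ⟨⟨Finset.mem_univ _, h1, h3⟩, ⟨Finset.mem_univ _, h2, h4⟩⟩

variable {C : Type*} [Group C] {Q : Subgroup C} {z : C} {v : Fin 5 → C} {ρ : C →* SP}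

/-- commuting with `v 4` -/
theorem comm_v4_iff (M : IsModel Q z v ρ) (x : C) :
    x * (z * v 4) = (z * v 4) * x ↔ (ρ x).σ 4 = 4 ∧ (ρ x).s 4 = 0 := by
  have h1 := comm_zp_mul M 1 (v 4) x
  rw [zp_one] at h1
  rw [eq_comm, h1, eq_comm]
  constructor
  · intro h
    have h2 : x * v 4 * x⁻¹ = v 4 := by rw [h]; group
    rw [M.conj] at h2
    have h3 := M.v_inj ((ρ x).s 4) 0 ((ρ x).σ 4) 4 (by rw [h2, zp_zero, one_mul])
    exact ⟨h3.2, h3.1⟩
  · rintro ⟨h2, h3⟩
    have h4 := M.conj x 4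
    rw [h2, h3, zp_zero, one_mul] at h4
    exact mul_inv_eq_iff_eq_mul.1 h4

/-- **The local facts from the model.** -/
theorem locC_of_kappa [Finite C] (M : IsModel Q z v ρ) (κ : alternatingGroup (Fin 5) →* C)
    (hκ : ∀ σ, ρ (κ σ) = ⟨σ, 0⟩) :
    LocC z (z * v 4) (z * v 3) (κ ac) (κ af) (κ ag) (v 3 * v 2 * κ af) (κ ah) := by
  have zc := M.z_comm
  have zz := M.z_sq
  have zzx : ∀ x, z * (z * x) = x := fun x => by rw [← mul_assoc, zz, one_mul]
  have zl : ∀ c x, c * (z * x) = z * (c * x) := fun c x => by rw [← mul_assoc, zc, mul_assoc]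
  have vv : ∀ i, v i * v i = 1 := M.v_sq
  have vvx : ∀ i x, v i * (v i * x) = x := fun i x => by rw [← mul_assoc, vv, one_mul]
  have ff : κ af * κ af = 1 := by rw [← map_mul, af2, map_one]
  have gg : κ ag * κ ag = 1 := by rw [← map_mul, ag2, map_one]
  have fg : κ af * κ ag = κ ag * κ af := by rw [← map_mul, afg, map_mul]
  have fv0 := fv0 M κ hκ
  have fv1 := fv1 M κ hκ
  have fv2 := fv2 M κ hκ
  have fv3 := fv3 M κ hκ
  have fv4 := fv4 M κ hκ
  have fv0x : ∀ x, κ af * (v 0 * x) = v 1 * (κ af * x) := fun x => by rw [← mul_assoc, fv0, mul_assoc]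
  have fv1x : ∀ x, κ af * (v 1 * x) = v 0 * (κ af * x) := fun x => by rw [← mul_assoc, fv1, mul_assoc]
  have fv2x : ∀ x, κ af * (v 2 * x) = v 3 * (κ af * x) := fun x => by rw [← mul_assoc, fv2, mul_assoc]
  have fv3x : ∀ x, κ af * (v 3 * x) = v 2 * (κ af * x) := fun x => by rw [← mul_assoc, fv3, mul_assoc]
  have gv3 := gv3 M κ hκ
  have gv2 := gv2 M κ hκ
  have gv4 := gv4 M κ hκ
  have cv4 := cv4 M κ hκ
  have gv3x : ∀ x, κ ag * (v 3 * x) = v 1 * (κ ag * x) := fun x => by rw [← mul_assoc, gv3, mul_assoc]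
  have gv2x : ∀ x, κ ag * (v 2 * x) = v 0 * (κ ag * x) := fun x => by rw [← mul_assoc, gv2, mul_assoc]
  have hf0 : ρ (κ af) = g0 := hκ af
  have hg0 : ρ (κ ag) = pg := hκ ag
  have hc0 : ρ (κ ac) = g3 := hκ ac
  have hfQ : κ af ∉ Q := by
    rw [M.mem_Q, hf0]; exact g0_σ_ne
  have hu_eq : v 3 * v 2 * κ af = v 3 * κ af * (v 3)⁻¹ := by
    rw [inv_eq_of_mul_eq_one_left (vv 3), mul_assoc (v 3) (κ af), fv3, ← mul_assoc]
  have huu : v 3 * v 2 * κ af * (v 3 * v 2 * κ af) = 1 := by
    rw [hu_eq]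
    calc v 3 * κ af * (v 3)⁻¹ * (v 3 * κ af * (v 3)⁻¹) = v 3 * (κ af * κ af) * (v 3)⁻¹ := by group
      _ = 1 := by rw [ff]; group
  have huQ : v 3 * v 2 * κ af ∉ Q := by
    intro h
    apply hfQ
    have h2 : κ af = (v 3 * v 2)⁻¹ * (v 3 * v 2 * κ af) := by group
    rw [h2]
    exact Q.mul_mem (Q.inv_mem (Q.mul_mem (M.v_mem 3) (M.v_mem 2))) h
  -- elements of the list over `B`
  have hy0 : ρ (z * v 4) = p4 := by rw [map_mul, rho_z M, one_mul, rho_v M]; rfl
  -- splitting off the sign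
  have hsplit : ∀ (x w t : C), (w = 1 ∨ w = z * v 4) → ρ x = ρ (w * t) →
      ∃ w', (w' = 1 ∨ w' = z ∨ w' = z * v 4 ∨ w' = z * (z * v 4)) ∧ x = w' * t := by
    intro x w t hw hx
    obtain ⟨a, ha⟩ := eq_of_rho_eq M hx
    rcases zmod2_cases a with rfl | rfl
    · refine ⟨w, ?_, by rw [ha, zp_zero, one_mul]⟩
      rcases hw with h | h
      · left; exact h
      · right; right; left; exact h
    · refine ⟨z * w, ?_, by rw [ha, zp_one, mul_assoc]⟩
      rcases hw with h | h
      · right; left; rw [h, mul_one]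
      · right; right; right; rw [h]
  refine
    { toCEl := cel_of_kappa M κ hκ
      z_ne := M.z_ne
      z_cen := zc
      fg := fg
      fy := ?_
      gy := ?_
      cy := ?_
      gc := by rw [← map_inv, ← map_mul, ← map_mul, agc, map_mul]
      fu := ?_
      gu := ?_
      inv_cases := ?_
      cent_f := ?_
      cent_u := fun x hx => sq_cent_outer M huu huQ hx
      cent_c := ?_
      conj_c := ?_
      inv_class := ?_
      card_f := card_cent_outer M ff hfQ
      trans_f := ?_ }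
  · rw [zl, fv4, mul_assoc]
  · rw [zl, gv4, mul_assoc]
  · rw [zl, cv4, mul_assoc]
  · calc κ af * (v 3 * v 2 * κ af) * (κ af * (v 3 * v 2 * κ af))
        = v 2 * v 3 * (κ af * κ af) * (v 2 * v 3 * (κ af * κ af)) := by
          simp only [mul_assoc, fv3x, fv2x]
      _ = (v 2 * v 3) * (v 2 * v 3) := by rw [ff, mul_one]
      _ = z := vv_sq M (by decide)
  · calc κ ag * (v 3 * v 2 * κ af) * (κ ag * (v 3 * v 2 * κ af))
        = v 1 * (v 0 * ((κ ag * κ af) * (κ ag * (v 3 * (v 2 * κ af))))) := by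
          simp only [mul_assoc, gv3x, gv2x]
      _ = v 1 * (v 0 * ((κ af * κ ag) * (κ ag * (v 3 * (v 2 * κ af))))) := by rw [fg]
      _ = v 1 * (v 0 * (κ af * ((κ ag * κ ag) * (v 3 * (v 2 * κ af))))) := by simp only [mul_assoc]
      _ = v 1 * (v 0 * (κ af * (v 3 * (v 2 * κ af)))) := by rw [gg, one_mul]
      _ = v 1 * (v 0 * (v 2 * (v 3 * (κ af * κ af)))) := by simp only [fv3x, fv2x]
      _ = (v 1 * v 0) * (v 2 * v 3) := by rw [ff, mul_one]; group
      _ = (z * (v 0 * v 1)) * (v 2 * v 3) := by rw [M.v_anti 1 0 (by decide)]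
      _ = z * (v 0 * (v 1 * (v 2 * v 3))) := by simp only [mul_assoc]
      _ = z * v 4 := by rw [v0123 M]
  · intro r hr hrr
    rw [comm_v4_iff M] at hr
    have hE := (M.range (ρ r)).1 ⟨r, rfl⟩
    have hsq : ρ r * ρ r = 1 := rho_sq_of_sq hrr
    by_cases hσ : (ρ r).σ = 1
    · left
      have hrQ := (M.mem_Q r).2 hσ
      by_cases hr1 : r = 1
      · rw [hr1, one_mul, mul_one]
      · rcases invol_Q M hrQ hrr hr1 with h | ⟨a, i, h⟩
        · rw [h, zc]
        · have hi : i = 4 := by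
            have h2 := rho_v M i
            have h3 := hr.2
            rw [h, map_mul, rho_zp M, one_mul, h2] at h3
            by_contra hne
            have h4 : (if (4 : Fin 5) = i then (0 : ZMod 2) else 1) = 0 := h3
            rw [if_neg (fun e => hne e.symm)] at h4
            exact one_ne_zero h4
          rw [h, hi, (comm_zp_mul M a (v 4) (κ af)).2 fv4.symm]
    have h1 := inv_aux (ρ r).σ hE.1 hr.1 (congrArg SP.σ hsq) hσ (ρ r).s hE.2 hr.2 (by
      intro i
      have := congrFun (congrArg SP.s hsq) i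
      rw [mul_s] at this
      exact this)
    rcases h1 with h1 | h1
    · left
      exact (comm_x0_iff M hf0 ff r).2 h1
    · right
      have h2 : ρ ((v 3)⁻¹ * r * v 3) ∈ B := by
        rw [map_mul, map_mul, map_inv, rho_v M]; exact h1
      have h3 := (comm_x0_iff M hf0 ff _).2 h2
      rw [hu_eq]
      calc r * (v 3 * κ af * (v 3)⁻¹) = v 3 * (((v 3)⁻¹ * r * v 3) * κ af) * (v 3)⁻¹ := by group
        _ = v 3 * (κ af * ((v 3)⁻¹ * r * v 3)) * (v 3)⁻¹ := by rw [h3]
        _ = _ := by group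
  · intro x hx
    have hB := (comm_x0_iff M hf0 ff x).1 hx
    rcases B_list _ hB with h | h | h | h | h | h | h | h
    · obtain ⟨w', hw', hx'⟩ := hsplit x 1 1 (Or.inl rfl) (by rw [h, mul_one, map_one])
      exact ⟨w', 1, hw', Or.inl rfl, hx'⟩
    · obtain ⟨w', hw', hx'⟩ := hsplit x 1 (κ af) (Or.inl rfl) (by rw [h, one_mul, hf0])
      exact ⟨w', _, hw', Or.inr (Or.inl rfl), hx'⟩
    · obtain ⟨w', hw', hx'⟩ := hsplit x 1 (κ ag) (Or.inl rfl) (by rw [h, one_mul, hg0])
      exact ⟨w', _, hw', Or.inr (Or.inr (Or.inl rfl)), hx'⟩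
    · obtain ⟨w', hw', hx'⟩ := hsplit x 1 (κ af * κ ag) (Or.inl rfl) (by rw [h, one_mul, map_mul, hf0, hg0])
      exact ⟨w', _, hw', Or.inr (Or.inr (Or.inr rfl)), hx'⟩
    · obtain ⟨w', hw', hx'⟩ := hsplit x (z * v 4) 1 (Or.inr rfl) (by rw [h, mul_one, hy0])
      exact ⟨w', 1, hw', Or.inl rfl, hx'⟩
    · obtain ⟨w', hw', hx'⟩ := hsplit x (z * v 4) (κ af) (Or.inr rfl) (by rw [h, map_mul, hy0, hf0])
      exact ⟨w', _, hw', Or.inr (Or.inl rfl), hx'⟩
    · obtain ⟨w', hw', hx'⟩ := hsplit x (z * v 4) (κ ag) (Or.inr rfl) (by rw [h, map_mul, hy0, hg0])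
      exact ⟨w', _, hw', Or.inr (Or.inr (Or.inl rfl)), hx'⟩
    · obtain ⟨w', hw', hx'⟩ := hsplit x (z * v 4) (κ af * κ ag) (Or.inr rfl)
        (by rw [h, map_mul ρ (z * v 4), map_mul ρ (κ af), hy0, hf0, hg0])
      exact ⟨w', _, hw', Or.inr (Or.inr (Or.inr rfl)), hx'⟩
  · intro x hxy hxc
    rw [comm_v4_iff M] at hxy
    have hE := (M.range (ρ x)).1 ⟨x, rfl⟩
    have hT := cent_g3 (ρ x) hE.1 hE.2 (by rw [← hc0, ← map_mul, hxc, map_mul])
    -- bring `w` to the right
    have hr : ∀ i w, (w = 1 ∨ w = z * v 4) → ρ x = ρ (i * w) →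
        ∃ w', (w' = 1 ∨ w' = z ∨ w' = z * v 4 ∨ w' = z * (z * v 4)) ∧ x = i * w' := by
      intro i w hw hx
      obtain ⟨a, ha⟩ := eq_of_rho_eq M hx
      rcases zmod2_cases a with rfl | rfl
      · refine ⟨w, ?_, by rw [ha, zp_zero, one_mul]⟩
        rcases hw with h | h
        · left; exact h
        · right; right; left; exact h
      · refine ⟨z * w, ?_, by rw [ha, zp_one, zl]⟩
        rcases hw with h | h
        · right; left; rw [h, mul_one]
        · right; right; right; rw [h]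
    rcases T3_list _ hT hxy.2 with h | h | h | h | h | h
    · obtain ⟨w', hw', hx'⟩ := hr 1 1 (Or.inl rfl) (by rw [h, mul_one, map_one])
      exact ⟨1, w', Or.inl rfl, hw', hx'⟩
    · obtain ⟨w', hw', hx'⟩ := hr (κ ac) 1 (Or.inl rfl) (by rw [h, mul_one, hc0])
      exact ⟨_, w', Or.inr (Or.inl rfl), hw', hx'⟩
    · obtain ⟨w', hw', hx'⟩ := hr (κ ac * κ ac) 1 (Or.inl rfl) (by rw [h, mul_one, map_mul, hc0])
      exact ⟨_, w', Or.inr (Or.inr rfl), hw', hx'⟩
    · obtain ⟨w', hw', hx'⟩ := hr 1 (z * v 4) (Or.inr rfl) (by rw [h, one_mul, hy0])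
      exact ⟨1, w', Or.inl rfl, hw', hx'⟩
    · obtain ⟨w', hw', hx'⟩ := hr (κ ac) (z * v 4) (Or.inr rfl) (by rw [h, map_mul, hc0, hy0])
      exact ⟨_, w', Or.inr (Or.inl rfl), hw', hx'⟩
    · obtain ⟨w', hw', hx'⟩ := hr (κ ac * κ ac) (z * v 4) (Or.inr rfl) (by rw [h, map_mul, map_mul, hc0, hy0])
      exact ⟨_, w', Or.inr (Or.inr rfl), hw', hx'⟩
  · intro x hxy hx3 hx1
    -- the centraliser of `y` in `C` has order 192
    have hcard : Nat.card (Subgroup.centralizer ({z * v 4} : Set C)) = 192 := by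
      have h1 := card_fiber M T96 (fun g hg => ((mem_T96 g).1 hg).1)
      rw [card_T96] at h1
      rw [show (192 : ℕ) = 2 * 96 by norm_num, ← h1]
      refine Nat.card_congr (Equiv.subtypeEquivRight ?_)
      intro x
      rw [mem_T96, Subgroup.mem_centralizer_singleton_iff, comm_v4_iff M]
      exact ⟨fun h => ⟨(M.range (ρ x)).1 ⟨x, rfl⟩, h⟩, fun h => h.2⟩
    have hf3 : Fact (Nat.Prime 3) := ⟨by norm_num⟩
    have hc1 : κ ac ≠ 1 := by
      intro h
      have h2 := congrArg ρ h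
      rw [map_one, hc0] at h2
      revert h2; decide +kernel
    have hc3 : κ ac * κ ac * κ ac = 1 := by rw [← map_mul, ← map_mul, ac3, map_one]
    have ord : ∀ a : Subgroup.centralizer ({z * v 4} : Set C), a * a * a = 1 → a ≠ 1 → orderOf a = 3 := by
      intro a ha ha1
      apply orderOf_eq_prime _ ha1
      rw [pow_succ, pow_two]; exact ha
    have hcy : κ ac * (z * v 4) = (z * v 4) * κ ac := by rw [zl, cv4, mul_assoc]
    let x' : Subgroup.centralizer ({z * v 4} : Set C) := ⟨x, Subgroup.mem_centralizer_singleton_iff.2 hxy⟩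
    let c' : Subgroup.centralizer ({z * v 4} : Set C) := ⟨κ ac, Subgroup.mem_centralizer_singleton_iff.2 hcy⟩
    obtain ⟨k, n, hkn⟩ := exists_conj_pow (C := Subgroup.centralizer ({z * v 4} : Set C)) (p := 3)
      (by rw [hcard]) (by rw [hcard]; decide) (x := x') (y := c')
      (ord x' (Subtype.ext hx3) (fun h => hx1 (congrArg Subtype.val h)))
      (ord c' (Subtype.ext hc3) (fun h => hc1 (congrArg Subtype.val h)))
    have hkn' : (k : C) * x * (k : C)⁻¹ = κ ac ^ n := by
      have := congrArg Subtype.val hkn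
      simpa using this
    refine ⟨(k : C)⁻¹, ?_, ?_⟩
    · have hk := Subgroup.mem_centralizer_singleton_iff.1 k.2
      calc (k : C)⁻¹ * (z * v 4) = (k : C)⁻¹ * ((z * v 4) * k) * (k : C)⁻¹ := by group
        _ = (k : C)⁻¹ * ((k : C) * (z * v 4)) * (k : C)⁻¹ := by rw [hk]
        _ = _ := by group
    · rw [inv_inv, hkn']
      have hmod : κ ac ^ n = κ ac ^ (n % 3) := by
        have hc3' : κ ac ^ 3 = 1 := by rw [pow_succ, pow_two]; exact hc3
        conv_lhs => rw [← Nat.div_add_mod n 3, pow_add, pow_mul, hc3', one_pow, one_mul]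
      have hlt : n % 3 < 3 := Nat.mod_lt _ (by norm_num)
      have hne : n % 3 ≠ 0 := by
        intro h0
        rw [hmod, h0, pow_zero] at hkn'
        apply hx1
        calc x = (k : C)⁻¹ * ((k : C) * x * (k : C)⁻¹) * k := by group
          _ = 1 := by rw [hkn']; group
      have h12 : n % 3 = 1 ∨ n % 3 = 2 := by omega
      rcases h12 with h | h
      · left; rw [hmod, h, pow_one]
      · right; rw [hmod, h, pow_two]
        exact eq_inv_of_mul_eq_one_left (by rw [← hc3])
  · intro r hrr hr1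
    by_cases hrQ : r ∈ Q
    · rcases invol_Q M hrQ hrr hr1 with h | ⟨a, i, h⟩
      · left; exact h
      · right; left
        obtain ⟨k, hk⟩ := trans_v M a 1 i 4
        refine ⟨k⁻¹, ?_⟩
        rw [inv_inv, h, hk, zp_one]
    · right; right
      intro x hx
      exact sq_cent_outer M hrr hrQ hx
  · intro t htt hcard
    have htQ : t ∉ Q := by
      intro htQ
      -- an element of order 3 commuting with `t`
      have hex : ∃ e : C, e * t = t * e ∧ e ^ 3 = 1 ∧ e ≠ 1 := by
        have hc3 : κ ac ^ 3 = 1 := by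
          rw [pow_succ, pow_two, ← map_mul, ← map_mul, ac3, map_one]
        have hc1 : κ ac ≠ 1 := by
          intro h
          have h2 := congrArg ρ h
          rw [map_one, hc0] at h2
          revert h2; decide +kernel
        by_cases ht1 : t = 1
        · exact ⟨κ ac, by rw [ht1, mul_one, one_mul], hc3, hc1⟩
        · rcases invol_Q M htQ htt ht1 with h | ⟨a, i, h⟩
          · exact ⟨κ ac, by rw [h, zc], hc3, hc1⟩
          · obtain ⟨k, hk⟩ := trans_v M 1 a 4 i
            refine ⟨k * κ ac * k⁻¹, ?_, ?_, ?_⟩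
            · have h5 : κ ac * (z * v 4) = (z * v 4) * κ ac := by rw [zl, cv4, mul_assoc]
              rw [h, ← hk, zp_one]
              exact (conj_comm_iff k (z * v 4) (κ ac)).2 h5
            · rw [conj_pow, hc3]; group
            · intro h6
              apply hc1
              calc κ ac = k⁻¹ * (k * κ ac * k⁻¹) * k := by group
                _ = 1 := by rw [h6]; group
      obtain ⟨e, het, he3, he1⟩ := hex
      have hsub : Nat.card (Subgroup.centralizer ({t} : Set C)) = 16 := by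
        rw [← hcard]
        refine Nat.card_congr (Equiv.subtypeEquivRight ?_)
        intro x
        rw [Subgroup.mem_centralizer_singleton_iff]
      have hf3 : Fact (Nat.Prime 3) := ⟨by norm_num⟩
      let e' : Subgroup.centralizer ({t} : Set C) := ⟨e, Subgroup.mem_centralizer_singleton_iff.2 het⟩
      have ho : orderOf e' = 3 :=
        orderOf_eq_prime (Subtype.ext (by rw [Subgroup.coe_pow]; exact he3))
          (fun h => he1 (congrArg Subtype.val h))
      have h7 := orderOf_dvd_natCard e'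
      rw [ho, hsub] at h7
      revert h7; decide
    obtain ⟨k, hk⟩ := outer_conj M htt htQ ff hfQ
    exact ⟨k⁻¹, by rw [inv_inv]; exact hk⟩

/-- transport of `CEl` along an injective homomorphism -/
theorem cel_map {C G : Type*} [Group C] [Group G] (φ : C →* G) {z y s c f g u h : C}
    (H : CEl z y s c f g u h) : CEl (φ z) (φ y) (φ s) (φ c) (φ f) (φ g) (φ u) (φ h) where
  z2 := by rw [← map_mul, H.z2, map_one]
  s2 := by rw [← map_mul, H.s2, map_one]
  f2 := by rw [← map_mul, H.f2, map_one]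
  h2 := by rw [← map_mul, H.h2, map_one]
  c3 := by rw [← map_mul, ← map_mul, H.c3, map_one]
  cf := by simp only [← map_mul]; rw [H.cf, map_one]
  fh := by simp only [← map_mul]; rw [H.fh, map_one]
  ch := by simp only [← map_mul]; rw [H.ch, map_one]
  g_def := by simp only [← map_mul, ← map_inv]; rw [← H.g_def]
  u_def := by simp only [← map_mul, ← map_inv]; rw [← H.u_def]
  y_def := by simp only [← map_mul, ← map_inv]; rw [← H.y_def]
  sy := by simp only [← map_mul, ← map_inv]; rw [H.sy]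
  sc := by simp only [← map_mul, ← map_inv]; rw [H.sc]
  sfhf := by simp only [← map_mul, ← map_inv]; rw [H.sfhf]
  zs := by simp only [← map_mul, ← map_inv]; rw [H.zs]
  zf := by simp only [← map_mul, ← map_inv]; rw [H.zf]
  zc := by simp only [← map_mul, ← map_inv]; rw [H.zc]
  zh := by simp only [← map_mul, ← map_inv]; rw [H.zh]
  prod := by simp only [← map_mul, ← map_inv]; rw [H.prod]

/-- **The local facts in `G`.** -/
theorem locG_of_locC {G : Type*} [Group G] (z₀ : G) {z y s c f g u h : Subgroup.centralizer ({z₀} : Set G)}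
    (hz : (z : G) = z₀) (H : LocC z y s c f g u h) :
    LocG z₀ (y : G) (s : G) (c : G) (f : G) (g : G) (u : G) (h : G) := by
  have hcel : CEl z₀ (y : G) (s : G) (c : G) (f : G) (g : G) (u : G) (h : G) := by
    have := cel_map (Subgroup.centralizer ({z₀} : Set G)).subtype H.toCEl
    have e : (Subgroup.centralizer ({z₀} : Set G)).subtype z = z₀ := hz
    rw [e] at this
    exact this
  have memC : ∀ x : G, x * z₀ = z₀ * x → x ∈ Subgroup.centralizer ({z₀} : Set G) := fun x hx => by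
    rw [Subgroup.mem_centralizer_singleton_iff]; exact hx
  have ofC : ∀ x : Subgroup.centralizer ({z₀} : Set G), (x : G) * z₀ = z₀ * (x : G) := fun x =>
    Subgroup.mem_centralizer_singleton_iff.1 x.2
  have cardT : ∀ t : Subgroup.centralizer ({z₀} : Set G),
      Nat.card (Subgroup.centralizer ({z₀} : Set G) ⊓ Subgroup.centralizer ({(t : G)} : Set G) :
        Subgroup G) = Nat.card {x : Subgroup.centralizer ({z₀} : Set G) // x * t = t * x} := by
    intro t
    refine Nat.card_congr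
      { toFun := fun x => ⟨⟨(x : G), x.2.1⟩, Subtype.ext
          ((Subgroup.mem_centralizer_singleton_iff (g := (t : G))).1 x.2.2)⟩
        invFun := fun x => ⟨(x.1 : G), x.1.2, Subgroup.mem_centralizer_singleton_iff.2
          (congrArg Subtype.val x.2)⟩
        left_inv := fun x => rfl
        right_inv := fun x => rfl }
  have V4 : ∀ w : Subgroup.centralizer ({z₀} : Set G), (w = 1 ∨ w = z ∨ w = y ∨ w = z * y) →
      ((w : G) = 1 ∨ (w : G) = z₀ ∨ (w : G) = y ∨ (w : G) = z₀ * y) := by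
    rintro w (h1 | h1 | h1 | h1)
    · left; rw [h1]; rfl
    · right; left; rw [h1]; exact hz
    · right; right; left; rw [h1]
    · right; right; right; rw [h1]
      exact congrArg (fun t : G => t * (y : G)) hz
  refine
    { toCEl := hcel
      z_ne := ?_
      zy := ofC y
      zg := ofC g
      zu := ofC u
      fg := congrArg Subtype.val H.fg
      fy := congrArg Subtype.val H.fy
      gy := congrArg Subtype.val H.gy
      cy := congrArg Subtype.val H.cy
      gc := congrArg Subtype.val H.gc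
      fu := ?_
      gu := congrArg Subtype.val H.gu
      inv_cases := ?_
      cent_f := ?_
      cent_u := ?_
      cent_c := ?_
      conj_c := ?_
      inv_class := ?_
      card_f := ?_
      trans_f := ?_ }
  · intro h1
    apply H.z_ne
    apply Subtype.ext
    rw [hz, h1]; rfl
  · have := congrArg Subtype.val H.fu
    rw [hz] at this; exact this
  · intro r hrz hry hrr
    rcases H.inv_cases ⟨r, memC r hrz⟩ (Subtype.ext hry) (Subtype.ext hrr) with h1 | h1
    · left; exact congrArg Subtype.val h1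
    · right; exact congrArg Subtype.val h1
  · intro x hxz hxf
    obtain ⟨w, t, hw, ht, hx⟩ := H.cent_f ⟨x, memC x hxz⟩ (Subtype.ext hxf)
    refine ⟨w, t, V4 w hw, ?_, congrArg Subtype.val hx⟩
    rcases ht with h1 | h1 | h1 | h1
    · left; rw [h1]; rfl
    · right; left; rw [h1]
    · right; right; left; rw [h1]
    · right; right; right; rw [h1]; rfl
  · intro x hxz hxu
    exact congrArg Subtype.val (H.cent_u ⟨x, memC x hxz⟩ (Subtype.ext hxu))
  · intro x hxz hxy hxc
    obtain ⟨i, w, hi, hw, hx⟩ := H.cent_c ⟨x, memC x hxz⟩ (Subtype.ext hxy) (Subtype.ext hxc)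
    refine ⟨i, w, ?_, V4 w hw, congrArg Subtype.val hx⟩
    rcases hi with h1 | h1 | h1
    · left; rw [h1]; rfl
    · right; left; rw [h1]
    · right; right; rw [h1]; rfl
  · intro x hxz hxy hx3 hx1
    obtain ⟨b, hb, hb2⟩ := H.conj_c ⟨x, memC x hxz⟩ (Subtype.ext hxy) (Subtype.ext hx3)
      (fun h1 => hx1 (congrArg Subtype.val h1))
    refine ⟨b, ofC b, congrArg Subtype.val hb, ?_⟩
    rcases hb2 with h1 | h1
    · left; exact congrArg Subtype.val h1
    · right; exact congrArg Subtype.val h1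
  · intro r hrz hrr hr1
    rcases H.inv_class ⟨r, memC r hrz⟩ (Subtype.ext hrr) (fun h1 => hr1 (congrArg Subtype.val h1)) with
      h1 | ⟨l, h1⟩ | h1
    · left; rw [← hz]; exact congrArg Subtype.val h1
    · right; left
      exact ⟨l, ofC l, congrArg Subtype.val h1⟩
    · right; right
      intro x hxz hxr
      exact congrArg Subtype.val (h1 ⟨x, memC x hxz⟩ (Subtype.ext hxr))
  · rw [← H.card_f]
    exact cardT f
  · intro t htt htz hcard
    obtain ⟨k, hk⟩ := H.trans_f ⟨t, memC t htz⟩ (Subtype.ext htt) (by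
      rw [← hcard]; exact (cardT ⟨t, memC t htz⟩).symm)
    exact ⟨k, ofC k, congrArg Subtype.val hk⟩

/-- **Existence of the local elements** in a group with an involution `z₀` of type J2/J3 whose centraliser
has an outer involution `x`. -/
theorem exists_locG {G : Type*} [Group G] [Finite G] (z₀ : G)
    {Q : Subgroup (Subgroup.centralizer ({z₀} : Set G))} {z : Subgroup.centralizer ({z₀} : Set G)}
    {v : Fin 5 → Subgroup.centralizer ({z₀} : Set G)} {ρ : Subgroup.centralizer ({z₀} : Set G) →* SP}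
    (M : IsModel Q z v ρ) (hz : (z : G) = z₀) (x : Subgroup.centralizer ({z₀} : Set G)) (hx : x ∉ Q)
    (hx2 : x * x = 1) : ∃ y s c f g u h : G, LocG z₀ y s c f g u h := by
  obtain ⟨κ, hκ⟩ := Cfsg.Agent.J3Type.Kappa.exists_kappa M x hx hx2
  exact ⟨_, _, _, _, _, _, _, locG_of_locC z₀ hz (locC_of_kappa M κ hκ)⟩

end Cfsg.Agent.J3Type.Loc
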