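import Mathlib
import Cfsg.Agent.J3Type.Loc

/-!
# Existence of the element `d`

`d` has order 3, commutes with `c` and `f`, `s d s = (c d)⁻¹` and `d⁻¹ z d = y`.
-/

set_option autoImplicit false

namespace Cfsg.Agent.J3Type.ExistsD

open Cfsg.Agent.J3Type.PresDef Cfsg.Agent.J3Type.Loc

variable {G : Type*} [Group G] {z y s c f g u h : G}

/-- membership in `V = {1, z, y, zy}` -/
def InV (z y w : G) : Prop := w = 1 ∨ w = z ∨ w = y ∨ w = z * y

theorem y2 (L : LocG z y s c f g u h) : y * y = 1 := by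
  rw [L.y_def]
  calc h * s * h * (h * s * h) = h * s * (h * h) * s * h := by group
    _ = h * (s * s) * h := by rw [L.h2]; group
    _ = 1 := by rw [L.s2, mul_one, L.h2]

theorem g2 (L : LocG z y s c f g u h) : g * g = 1 := by
  rw [L.g_def]
  calc c⁻¹ * f * c * (c⁻¹ * f * c) = c⁻¹ * (f * f) * c := by group
    _ = 1 := by rw [L.f2]; group

/-- `s y s = z y` -/
theorem sys (L : LocG z y s c f g u h) : s * y * s = z * y := by
  have h1 := L.sy
  have h2 := y2 L
  calc s * y * s = (s * y * (s * y)) * y⁻¹ := by group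
    _ = z * y⁻¹ := by rw [h1]
    _ = z * y := by rw [inv_eq_of_mul_eq_one_left h2]

theorem szs (L : LocG z y s c f g u h) : s * z * s = z := by
  rw [← L.zs, mul_assoc, L.s2, mul_one]

theorem y_ne (L : LocG z y s c f g u h) : y ≠ z := by
  intro h1
  have h2 := sys L
  rw [h1, szs L, L.z2] at h2
  exact L.z_ne h2

theorem y_ne1 (L : LocG z y s c f g u h) : y ≠ 1 := by
  intro h1
  have h2 := sys L
  rw [h1, mul_one, L.s2, mul_one] at h2
  exact L.z_ne h2.symm

theorem fg_ne (L : LocG z y s c f g u h) : f ≠ g := by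
  intro h1
  have h2 := L.fu
  rw [h1, L.gu] at h2
  exact y_ne L h2

theorem f_ne1 (L : LocG z y s c f g u h) : f ≠ 1 := by
  intro h1
  have h2 := L.g_def
  rw [h1] at h2
  apply fg_ne L
  rw [h1, h2]; group

/-- `c` does not commute with `f` -/
theorem cf_ne (L : LocG z y s c f g u h) : c * f ≠ f * c := by
  intro h1
  apply fg_ne L
  rw [L.g_def]
  calc f = c⁻¹ * (c * f) := by group
    _ = c⁻¹ * (f * c) := by rw [h1]
    _ = _ := by group

/-- `f ∉ V` -/
theorem f_notV (L : LocG z y s c f g u h) : ¬ InV z y f := by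
  intro h1
  apply cf_ne L
  have hz := L.zc
  have hy := L.cy
  rcases h1 with h1 | h1 | h1 | h1
  · rw [h1, mul_one, one_mul]
  · rw [h1, hz]
  · rw [h1, hy]
  · rw [h1, ← mul_assoc, ← hz, mul_assoc, hy, mul_assoc]

/-- `c` commutes with `V` -/
theorem c_V (L : LocG z y s c f g u h) {w : G} (hw : InV z y w) : c * w = w * c := by
  have hz := L.zc
  have hy := L.cy
  rcases hw with h1 | h1 | h1 | h1
  · rw [h1, mul_one, one_mul]
  · rw [h1, hz]
  · rw [h1, hy]
  · rw [h1, ← mul_assoc, ← hz, mul_assoc, hy, mul_assoc]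

theorem f_V (L : LocG z y s c f g u h) {w : G} (hw : InV z y w) : f * w = w * f := by
  have hz := L.zf
  have hy := L.fy
  rcases hw with h1 | h1 | h1 | h1
  · rw [h1, mul_one, one_mul]
  · rw [h1, hz]
  · rw [h1, hy]
  · rw [h1, ← mul_assoc, ← hz, mul_assoc, hy, mul_assoc]

theorem V_z (L : LocG z y s c f g u h) {w : G} (hw : InV z y w) : w * z = z * w := by
  have hy := L.zy
  rcases hw with h1 | h1 | h1 | h1
  · rw [h1, mul_one, one_mul]
  · rw [h1]
  · rw [h1, hy]
  · rw [h1, mul_assoc, hy]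

theorem V_y (L : LocG z y s c f g u h) {w : G} (hw : InV z y w) : w * y = y * w := by
  have hy := L.zy
  rcases hw with h1 | h1 | h1 | h1
  · rw [h1, mul_one, one_mul]
  · rw [h1, hy]
  · rw [h1]
  · rw [h1, ← mul_assoc, hy]

theorem V_sq (L : LocG z y s c f g u h) {w : G} (hw : InV z y w) : w * w = 1 := by
  have hy := L.zy
  rcases hw with h1 | h1 | h1 | h1
  · rw [h1, mul_one]
  · rw [h1, L.z2]
  · rw [h1, y2 L]
  · rw [h1]
    calc z * y * (z * y) = z * (y * z) * y := by group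
      _ = z * (z * y) * y := by rw [hy]
      _ = (z * z) * (y * y) := by group
      _ = 1 := by rw [L.z2, y2 L, mul_one]

/-- `x` acts on `V` as the 3-cycle `z → y → zy → z` (right conjugation) -/
structure Cyc (z y x : G) : Prop where
  hz : x⁻¹ * z * x = y
  hy : x⁻¹ * y * x = z * y

theorem Cyc.hzy {z y x : G} (H : Cyc z y x) (hc : y * z = z * y) (hy : y * y = 1) : x⁻¹ * (z * y) * x = z := by
  calc x⁻¹ * (z * y) * x = (x⁻¹ * z * x) * (x⁻¹ * y * x) := by group
    _ = y * (z * y) := by rw [H.hz, H.hy]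
    _ = (y * z) * y := by group
    _ = z * (y * y) := by rw [hc]; group
    _ = z := by rw [hy, mul_one]

/-- `V` is normalised -/
theorem Cyc.inV {z y x : G} (H : Cyc z y x) (hc : y * z = z * y) (hy : y * y = 1) {w : G} (hw : InV z y w) :
    InV z y (x⁻¹ * w * x) := by
  rcases hw with h1 | h1 | h1 | h1
  · left; rw [h1]; group
  · right; right; left; rw [h1, H.hz]
  · right; right; right; rw [h1, H.hy]
  · right; left; rw [h1, H.hzy hc hy]

/-- `(x²)⁻¹` acts on `V` like `x` -/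
theorem Cyc.sq_inv {z y x : G} (H : Cyc z y x) (hc : y * z = z * y) (hy : y * y = 1) :
    Cyc z y (x * x)⁻¹ := by
  have h1 := H.hz
  have h2 := H.hy
  have h3 := H.hzy hc hy
  constructor
  · calc ((x * x)⁻¹)⁻¹ * z * (x * x)⁻¹ = x * (x * z * x⁻¹) * x⁻¹ := by
          rw [inv_inv, mul_inv_rev]; simp only [mul_assoc]
      _ = x * (x * (x⁻¹ * (z * y) * x) * x⁻¹) * x⁻¹ := by rw [h3]
      _ = x * (z * y) * x⁻¹ := by group
      _ = x * (x⁻¹ * y * x) * x⁻¹ := by rw [h2]
      _ = y := by group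
  · calc ((x * x)⁻¹)⁻¹ * y * (x * x)⁻¹ = x * (x * y * x⁻¹) * x⁻¹ := by
          rw [inv_inv, mul_inv_rev]; simp only [mul_assoc]
      _ = x * (x * (x⁻¹ * z * x) * x⁻¹) * x⁻¹ := by rw [h1]
      _ = x * z * x⁻¹ := by group
      _ = x * (x⁻¹ * (z * y) * x) * x⁻¹ := by rw [h3]
      _ = z * y := by group

/-- **Step 1**: an element acting on `V` as a 3-cycle. -/
theorem exists_cyc (L : LocG z y s c f g u h) (k : G) (hk : k⁻¹ * z * k = y) : ∃ m, Cyc z y m := by
  -- `z' = k z k⁻¹` is in `C`, an involution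
  have hy2 := y2 L
  have hzy := L.zy
  have hz'z : (k * z * k⁻¹) * z = z * (k * z * k⁻¹) := by
    calc (k * z * k⁻¹) * z = k * (z * (k⁻¹ * z * k)) * k⁻¹ := by group
      _ = k * ((k⁻¹ * z * k) * z) * k⁻¹ := by rw [hk, hzy]
      _ = _ := by group
  have hz'2 : (k * z * k⁻¹) * (k * z * k⁻¹) = 1 := by
    calc (k * z * k⁻¹) * (k * z * k⁻¹) = k * (z * z) * k⁻¹ := by group
      _ = 1 := by rw [L.z2]; group
  have hz'1 : k * z * k⁻¹ ≠ 1 := by
    intro h1; apply L.z_ne
    calc z = k⁻¹ * (k * z * k⁻¹) * k := by group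
      _ = 1 := by rw [h1]; group
  -- an element swapping `z` and `y`
  have hswap : ∃ τ : G, τ⁻¹ * z * τ = y ∧ τ⁻¹ * y * τ = z := by
    rcases L.inv_class _ hz'z hz'2 hz'1 with h1 | ⟨l, hl, hly⟩ | h1
    · exfalso; apply y_ne L
      rw [← hk]
      calc k⁻¹ * z * k = k⁻¹ * (k * z * k⁻¹) * k := by rw [h1]
        _ = z := by group
    · refine ⟨l⁻¹ * k, ?_, ?_⟩
      · calc (l⁻¹ * k)⁻¹ * z * (l⁻¹ * k) = k⁻¹ * (l * z) * l⁻¹ * k := by group
          _ = k⁻¹ * (z * l) * l⁻¹ * k := by rw [hl]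
          _ = k⁻¹ * z * k := by group
          _ = y := hk
      · calc (l⁻¹ * k)⁻¹ * y * (l⁻¹ * k) = k⁻¹ * (l * y * l⁻¹) * k := by group
          _ = k⁻¹ * (l * (l⁻¹ * (k * z * k⁻¹) * l) * l⁻¹) * k := by rw [hly]
          _ = z := by group
    · exfalso
      -- `k c k⁻¹` has order 3
      have h2 := h1 (k * c * k⁻¹) (by
        calc (k * c * k⁻¹) * z = k * (c * (k⁻¹ * z * k)) * k⁻¹ := by group
          _ = k * ((k⁻¹ * z * k) * c) * k⁻¹ := by rw [hk, L.cy]
          _ = _ := by group) (by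
        calc (k * c * k⁻¹) * (k * z * k⁻¹) = k * (c * z) * k⁻¹ := by group
          _ = k * (z * c) * k⁻¹ := by rw [L.zc]
          _ = _ := by group)
      have h3 : c * c = 1 := by
        calc c * c = k⁻¹ * ((k * c * k⁻¹) * (k * c * k⁻¹)) * k := by group
          _ = 1 := by rw [h2]; group
      have h4 : c = 1 := by
        have := L.c3
        rw [h3, one_mul] at this; exact this
      apply cf_ne L
      rw [h4, one_mul, mul_one]
  obtain ⟨τ, h1, h2⟩ := hswap
  have hs := sys L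
  have hsz := szs L
  have hsi : s⁻¹ = s := inv_eq_of_mul_eq_one_left L.s2
  refine ⟨s * τ, ?_, ?_⟩
  · calc (s * τ)⁻¹ * z * (s * τ) = τ⁻¹ * (s⁻¹ * z * s) * τ := by group
      _ = τ⁻¹ * z * τ := by rw [hsi, hsz]
      _ = y := h1
  · calc (s * τ)⁻¹ * y * (s * τ) = τ⁻¹ * (s⁻¹ * y * s) * τ := by group
      _ = τ⁻¹ * (z * y) * τ := by rw [hsi, hs]
      _ = (τ⁻¹ * z * τ) * (τ⁻¹ * y * τ) := by group
      _ = y * z := by rw [h1, h2]
      _ = z * y := hzy

/-- **Step 2**: such an element commuting with `c`. -/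
theorem exists_cyc_comm (L : LocG z y s c f g u h) (m : G) (hm : Cyc z y m) :
    ∃ δ, Cyc z y δ ∧ c * δ = δ * c := by
  have hy2 := y2 L
  have hzy := L.zy
  -- `m⁻¹ c m` commutes with `V`
  have hcv : ∀ w, InV z y w → (m⁻¹ * c * m) * (m⁻¹ * w * m) = (m⁻¹ * w * m) * (m⁻¹ * c * m) := by
    intro w hw
    calc (m⁻¹ * c * m) * (m⁻¹ * w * m) = m⁻¹ * (c * w) * m := by group
      _ = m⁻¹ * (w * c) * m := by rw [c_V L hw]
      _ = _ := by group
  have h1 : (m⁻¹ * c * m) * z = z * (m⁻¹ * c * m) := by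
    have := hcv (z * y) (Or.inr (Or.inr (Or.inr rfl)))
    rwa [hm.hzy hzy hy2] at this
  have h2 : (m⁻¹ * c * m) * y = y * (m⁻¹ * c * m) := by
    have := hcv z (Or.inr (Or.inl rfl))
    rwa [hm.hz] at this
  have h3 : (m⁻¹ * c * m) * (m⁻¹ * c * m) * (m⁻¹ * c * m) = 1 := by
    calc (m⁻¹ * c * m) * (m⁻¹ * c * m) * (m⁻¹ * c * m) = m⁻¹ * (c * c * c) * m := by group
      _ = 1 := by rw [L.c3]; group
  have hc1 : c ≠ 1 := by
    intro h4; apply cf_ne L; rw [h4, one_mul, mul_one]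
  have h4 : m⁻¹ * c * m ≠ 1 := by
    intro h5; apply hc1
    calc c = m * (m⁻¹ * c * m) * m⁻¹ := by group
      _ = 1 := by rw [h5]; group
  obtain ⟨b, hbz, hby, hb⟩ := L.conj_c _ h1 h2 h3 h4
  -- n = m b normalises ⟨c⟩
  have hbzi : b⁻¹ * z * b = z := by
    calc b⁻¹ * z * b = b⁻¹ * (z * b) := by group
      _ = b⁻¹ * (b * z) := by rw [hbz]
      _ = z := by group
  have hbyi : b⁻¹ * y * b = y := by
    calc b⁻¹ * y * b = b⁻¹ * (y * b) := by group
      _ = b⁻¹ * (b * y) := by rw [hby]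
      _ = y := by group
  have hn : Cyc z y (m * b) := by
    constructor
    · calc (m * b)⁻¹ * z * (m * b) = b⁻¹ * (m⁻¹ * z * m) * b := by group
        _ = y := by rw [hm.hz, hbyi]
    · calc (m * b)⁻¹ * y * (m * b) = b⁻¹ * (m⁻¹ * y * m) * b := by group
        _ = b⁻¹ * (z * y) * b := by rw [hm.hy]
        _ = (b⁻¹ * z * b) * (b⁻¹ * y * b) := by group
        _ = z * y := by rw [hbzi, hbyi]
  refine ⟨((m * b) * (m * b))⁻¹, hn.sq_inv hzy hy2, ?_⟩
  have h5 : (m * b)⁻¹ * c * (m * b) = c ∨ (m * b)⁻¹ * c * (m * b) = c⁻¹ := by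
    have e : (m * b)⁻¹ * c * (m * b) = b⁻¹ * (m⁻¹ * c * m) * b := by group
    rw [e]; exact hb
  set n := m * b with hn'
  have h6 : n⁻¹ * (n⁻¹ * c * n) * n = c := by
    rcases h5 with h5 | h5
    · rw [h5, h5]
    · rw [h5]
      calc n⁻¹ * c⁻¹ * n = (n⁻¹ * c * n)⁻¹ := by group
        _ = c := by rw [h5, inv_inv]
  calc c * (n * n)⁻¹ = (n * n)⁻¹ * ((n * n) * c * (n * n)⁻¹) := by group
    _ = (n * n)⁻¹ * ((n * n) * (n⁻¹ * (n⁻¹ * c * n) * n) * (n * n)⁻¹) := by rw [h6]
    _ = (n * n)⁻¹ * c := by group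

/-- elements of `C_G(z)` commuting with `f` commute with each other -/
theorem comm_f (L : LocG z y s c f g u h) {a b : G} (ha : a * z = z * a) (haf : a * f = f * a)
    (hb : b * z = z * b) (hbf : b * f = f * b) : a * b = b * a := by
  -- everything is in V × ⟨f, g⟩
  obtain ⟨w, t, hw, ht, rfl⟩ := L.cent_f a ha haf
  obtain ⟨w', t', hw', ht', rfl⟩ := L.cent_f b hb hbf
  have hww : w * w' = w' * w := by
    rcases hw with h1 | h1 | h1 | h1
    · rw [h1, one_mul, mul_one]
    · rw [h1, V_z L hw']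
    · rw [h1, V_y L hw']
    · rw [h1, mul_assoc, ← V_y L hw', ← mul_assoc, ← V_z L hw', mul_assoc]
  have gV : ∀ w, InV z y w → g * w = w * g := by
    intro w hw
    rcases hw with h1 | h1 | h1 | h1
    · rw [h1, one_mul, mul_one]
    · rw [h1, L.zg]
    · rw [h1, L.gy]
    · rw [h1, ← mul_assoc, L.zg, mul_assoc, L.gy, mul_assoc]
  have tV : ∀ t, (t = 1 ∨ t = f ∨ t = g ∨ t = f * g) → ∀ w, InV z y w → t * w = w * t := by
    intro t ht w hw
    rcases ht with h1 | h1 | h1 | h1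
    · rw [h1, one_mul, mul_one]
    · rw [h1, f_V L hw]
    · rw [h1, gV w hw]
    · rw [h1, mul_assoc, gV w hw, ← mul_assoc, f_V L hw, mul_assoc]
  have htt : t * t' = t' * t := by
    have hfg := L.fg
    rcases ht with h1 | h1 | h1 | h1 <;> rcases ht' with h2 | h2 | h2 | h2 <;> rw [h1, h2]
    · rw [one_mul, mul_one]
    · rw [one_mul, mul_one]
    · rw [one_mul, mul_one]
    · rw [one_mul, mul_one]
    · exact hfg
    · rw [mul_assoc, ← hfg]
    · rw [one_mul, mul_one]
    · exact hfg.symm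
    · rw [hfg, mul_assoc, hfg]
    · rw [one_mul, mul_one]
    · rw [mul_assoc, ← hfg]
    · rw [hfg, mul_assoc, hfg]
  calc w * t * (w' * t') = w * (t * w') * t' := by group
    _ = w * (w' * t) * t' := by rw [tV t ht w' hw']
    _ = (w * w') * (t * t') := by group
    _ = (w' * w) * (t' * t) := by rw [hww, htt]
    _ = w' * (w * t') * t := by group
    _ = w' * (t' * w) * t := by rw [tV t' ht' w hw]
    _ = _ := by group

/-- elements of `C_G(z)` commuting with `u` commute with each other -/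
theorem comm_u (L : LocG z y s c f g u h) {a b : G} (ha : a * z = z * a) (hau : a * u = u * a)
    (hb : b * z = z * b) (hbu : b * u = u * b) : a * b = b * a := by
  have h1 := L.cent_u a ha hau
  have h2 := L.cent_u b hb hbu
  have h3 := L.cent_u (a * b) (by rw [mul_assoc, hb, ← mul_assoc, ha, mul_assoc])
    (by rw [mul_assoc, hbu, ← mul_assoc, hau, mul_assoc])
  have e1 : a⁻¹ = a := inv_eq_of_mul_eq_one_left h1
  have e2 : b⁻¹ = b := inv_eq_of_mul_eq_one_left h2
  have e3 : (a * b)⁻¹ = a * b := inv_eq_of_mul_eq_one_left h3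
  rw [mul_inv_rev, e1, e2] at e3
  exact e3.symm

/-- **Step 3**: moreover `f ^ δ` commutes with `f`. -/
theorem exists_cyc_f (L : LocG z y s c f g u h) (δ : G) (hδ : Cyc z y δ) (hc : c * δ = δ * c) :
    ∃ δ, Cyc z y δ ∧ c * δ = δ * c ∧ (δ⁻¹ * f * δ) * f = f * (δ⁻¹ * f * δ) := by
  have hy2 := y2 L
  have hzy := L.zy
  have hf2 := L.f2
  -- conjugates of elements commuting with `V`
  have key : ∀ a : G, a * z = z * a → a * y = y * a → a * a = 1 →
      (δ⁻¹ * a * δ) * z = z * (δ⁻¹ * a * δ) ∧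
      (δ⁻¹ * a * δ) * y = y * (δ⁻¹ * a * δ) ∧ (δ⁻¹ * a * δ) * (δ⁻¹ * a * δ) = 1 := by
    intro a haz hay haa
    have h1 : ∀ w, a * w = w * a → (δ⁻¹ * a * δ) * (δ⁻¹ * w * δ) = (δ⁻¹ * w * δ) * (δ⁻¹ * a * δ) := by
      intro w hw
      calc (δ⁻¹ * a * δ) * (δ⁻¹ * w * δ) = δ⁻¹ * (a * w) * δ := by group
        _ = δ⁻¹ * (w * a) * δ := by rw [hw]
        _ = _ := by group
    refine ⟨?_, ?_, ?_⟩
    · have := h1 (z * y) (by rw [← mul_assoc, haz, mul_assoc, hay, mul_assoc])
      rwa [hδ.hzy hzy hy2] at this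
    · have := h1 z haz
      rwa [hδ.hz] at this
    · calc (δ⁻¹ * a * δ) * (δ⁻¹ * a * δ) = δ⁻¹ * (a * a) * δ := by group
        _ = 1 := by rw [haa]; group
  obtain ⟨k1, k2, k3⟩ := key f L.zf.symm L.fy hf2
  rcases L.inv_cases _ k1 k2 k3 with h1 | h1
  · exact ⟨δ, hδ, hc, h1⟩
  · obtain ⟨l1, l2, l3⟩ := key _ k1 k2 k3
    rcases L.inv_cases _ l1 l2 l3 with h2 | h2
    · -- `f` commutes with `f ^ (δ²)`: use `(δ²)⁻¹`
      have hc2 : c * (δ * δ)⁻¹ = (δ * δ)⁻¹ * c := by
        have h2 : c * (δ * δ) = (δ * δ) * c := by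
          rw [← mul_assoc, hc, mul_assoc, hc, ← mul_assoc]
        calc c * (δ * δ)⁻¹ = (δ * δ)⁻¹ * ((δ * δ) * c) * (δ * δ)⁻¹ := by group
          _ = (δ * δ)⁻¹ * (c * (δ * δ)) * (δ * δ)⁻¹ := by rw [h2]
          _ = _ := by group
      refine ⟨(δ * δ)⁻¹, hδ.sq_inv hzy hy2, hc2, ?_⟩
      have e1 : ((δ * δ)⁻¹)⁻¹ * f * (δ * δ)⁻¹ = δ * (δ * f * δ⁻¹) * δ⁻¹ := by
        rw [inv_inv, mul_inv_rev]; simp only [mul_assoc]
      rw [e1]
      calc δ * (δ * f * δ⁻¹) * δ⁻¹ * f
          = δ * (δ * (f * (δ⁻¹ * (δ⁻¹ * f * δ) * δ)) * δ⁻¹) * δ⁻¹ := by group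
        _ = δ * (δ * ((δ⁻¹ * (δ⁻¹ * f * δ) * δ) * f) * δ⁻¹) * δ⁻¹ := by rw [h2]
        _ = _ := by group
    · -- both commute with `u`
      have h3 := comm_u L k1 h1 l1 h2
      refine ⟨δ, hδ, hc, ?_⟩
      set a := δ⁻¹ * f * δ with ha
      calc a * f = δ * ((δ⁻¹ * a * δ) * a) * δ⁻¹ := by rw [ha]; group
        _ = δ * (a * (δ⁻¹ * a * δ)) * δ⁻¹ := by rw [h3]
        _ = f * a := by rw [ha]; group

/-- **Step 4**: an element commuting with `c` and `f`. -/
theorem exists_cyc_cf (L : LocG z y s c f g u h) (δ : G) (hδ : Cyc z y δ) (hc : c * δ = δ * c)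
    (hf : (δ⁻¹ * f * δ) * f = f * (δ⁻¹ * f * δ)) :
    ∃ d, Cyc z y d ∧ c * d = d * c ∧ f * d = d * f := by
  have hy2 := y2 L
  have hzy := L.zy
  have hfz : (δ⁻¹ * f * δ) * z = z * (δ⁻¹ * f * δ) := by
    have h1 : f * (z * y) = (z * y) * f := by
      rw [← mul_assoc, ← L.zf, mul_assoc, L.fy, mul_assoc]
    calc (δ⁻¹ * f * δ) * z = (δ⁻¹ * f * δ) * (δ⁻¹ * (z * y) * δ) := by rw [hδ.hzy hzy hy2]
      _ = δ⁻¹ * (f * (z * y)) * δ := by group
      _ = δ⁻¹ * ((z * y) * f) * δ := by rw [h1]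
      _ = (δ⁻¹ * (z * y) * δ) * (δ⁻¹ * f * δ) := by group
      _ = _ := by rw [hδ.hzy hzy hy2]
  obtain ⟨w, t, hw, ht, hwt⟩ := L.cent_f _ hfz hf
  -- `t ≠ 1`, so `t = c^(-i) f c^i`
  have hδinv : ∀ w, InV z y w → ∃ w', InV z y w' ∧ w = δ⁻¹ * w' * δ := by
    intro w hw
    rcases hw with h1 | h1 | h1 | h1
    · exact ⟨1, Or.inl rfl, by rw [h1]; group⟩
    · exact ⟨z * y, Or.inr (Or.inr (Or.inr rfl)), by rw [h1, hδ.hzy hzy hy2]⟩
    · exact ⟨z, Or.inr (Or.inl rfl), by rw [h1, hδ.hz]⟩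
    · exact ⟨y, Or.inr (Or.inr (Or.inl rfl)), by rw [h1, hδ.hy]⟩
  have hc3 : c⁻¹ = c * c := inv_eq_of_mul_eq_one_left L.c3
  have hgc := L.gc
  have hfc : c⁻¹ * f * c = g := L.g_def.symm
  have hfgc : c⁻¹ * (f * g) * c = f := by
    have hg2 := g2 L
    calc c⁻¹ * (f * g) * c = (c⁻¹ * f * c) * (c⁻¹ * g * c) := by group
      _ = g * (f * g) := by rw [hfc, hgc]
      _ = (g * f) * g := by group
      _ = (f * g) * g := by rw [L.fg]
      _ = f := by rw [mul_assoc, hg2, mul_one]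
  have hti : ∃ i, (i = 1 ∨ i = c ∨ i = c * c) ∧ (i⁻¹ * t * i = f) := by
    rcases ht with h1 | h1 | h1 | h1
    · exfalso
      rw [h1, mul_one] at hwt
      obtain ⟨w', hw', hw''⟩ := hδinv w hw
      apply f_notV L
      have : f = w' := by
        calc f = δ * (δ⁻¹ * f * δ) * δ⁻¹ := by group
          _ = δ * (δ⁻¹ * w' * δ) * δ⁻¹ := by rw [hwt, hw'']
          _ = w' := by group
      rw [this]; exact hw'
    · exact ⟨1, Or.inl rfl, by rw [h1]; group⟩
    · refine ⟨c * c, Or.inr (Or.inr rfl), ?_⟩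
      rw [h1]
      calc (c * c)⁻¹ * g * (c * c) = c⁻¹ * (c⁻¹ * g * c) * c := by group
        _ = f := by rw [hgc, hfgc]
    · exact ⟨c, Or.inr (Or.inl rfl), by rw [h1, hfgc]⟩
  obtain ⟨i, hi, hit⟩ := hti
  have hiV : ∀ w, InV z y w → i⁻¹ * w * i = w := by
    intro w hw
    have h1 : c * w = w * c := c_V L hw
    rcases hi with h2 | h2 | h2
    · rw [h2]; group
    · rw [h2]
      calc c⁻¹ * w * c = c⁻¹ * (w * c) := by group
        _ = c⁻¹ * (c * w) := by rw [h1]
        _ = w := by group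
    · rw [h2]
      calc (c * c)⁻¹ * w * (c * c) = c⁻¹ * c⁻¹ * (w * c) * c := by group
        _ = c⁻¹ * c⁻¹ * (c * w) * c := by rw [h1]
        _ = c⁻¹ * (w * c) := by group
        _ = c⁻¹ * (c * w) := by rw [h1]
        _ = w := by group
  have hci : c * i = i * c := by
    rcases hi with h2 | h2 | h2 <;> rw [h2]
    · rw [mul_one, one_mul]
    · rw [mul_assoc]
  -- the corrected element
  have hd : Cyc z y (δ * i) := by
    constructor
    · calc (δ * i)⁻¹ * z * (δ * i) = i⁻¹ * (δ⁻¹ * z * δ) * i := by group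
        _ = y := by rw [hδ.hz, hiV y (Or.inr (Or.inr (Or.inl rfl)))]
    · calc (δ * i)⁻¹ * y * (δ * i) = i⁻¹ * (δ⁻¹ * y * δ) * i := by group
        _ = z * y := by rw [hδ.hy, hiV _ (Or.inr (Or.inr (Or.inr rfl)))]
  have hcd : c * (δ * i) = (δ * i) * c := by
    rw [← mul_assoc, hc, mul_assoc, hci, ← mul_assoc]
  refine ⟨δ * i, hd, hcd, ?_⟩
  set d := δ * i with hdd
  have hfd : d⁻¹ * f * d = w * f := by
    calc d⁻¹ * f * d = i⁻¹ * (δ⁻¹ * f * δ) * i := by rw [hdd]; group
      _ = i⁻¹ * (w * t) * i := by rw [hwt]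
      _ = (i⁻¹ * w * i) * (i⁻¹ * t * i) := by group
      _ = w * f := by rw [hiV w hw, hit]
  have hdc : d⁻¹ * c * d = c := by
    calc d⁻¹ * c * d = d⁻¹ * (c * d) := by group
      _ = d⁻¹ * (d * c) := by rw [hcd]
      _ = c := by group
  have hcw : c⁻¹ * w * c = w := by
    calc c⁻¹ * w * c = c⁻¹ * (w * c) := by group
      _ = c⁻¹ * (c * w) := by rw [c_V L hw]
      _ = w := by group
  have hconj : ∀ a, d⁻¹ * (c⁻¹ * a * c) * d = c⁻¹ * (d⁻¹ * a * d) * c := by
    intro a
    calc d⁻¹ * (c⁻¹ * a * c) * d = (c * d)⁻¹ * a * (c * d) := by group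
      _ = (d * c)⁻¹ * a * (d * c) := by rw [hcd]
      _ = _ := by group
  have hgd : d⁻¹ * g * d = w * g := by
    rw [← hfc, hconj, hfd]
    calc c⁻¹ * (w * f) * c = (c⁻¹ * w * c) * (c⁻¹ * f * c) := by group
      _ = w * (c⁻¹ * f * c) := by rw [hcw]
  have hfgd1 : d⁻¹ * (f * g) * d = w * (f * g) := by
    rw [← hgc, hconj, hgd]
    calc c⁻¹ * (w * g) * c = (c⁻¹ * w * c) * (c⁻¹ * g * c) := by group
      _ = w * (c⁻¹ * g * c) := by rw [hcw]
  have hfgd2 : d⁻¹ * (f * g) * d = (w * f) * (w * g) := by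
    calc d⁻¹ * (f * g) * d = (d⁻¹ * f * d) * (d⁻¹ * g * d) := by group
      _ = _ := by rw [hfd, hgd]
  have hw1 : w = 1 := by
    have h1 : w * (f * g) = (w * f) * (w * g) := hfgd1.symm.trans hfgd2
    have h2 : (w * f) * (w * g) = f * g := by
      calc (w * f) * (w * g) = w * (f * w) * g := by group
        _ = w * (w * f) * g := by rw [f_V L hw]
        _ = (w * w) * (f * g) := by group
        _ = f * g := by rw [V_sq L hw, one_mul]
    rw [h2] at h1
    exact mul_eq_right.1 h1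
  rw [hw1, one_mul] at hfd
  calc f * d = d * (d⁻¹ * f * d) := by group
    _ = d * f := by rw [hfd]

/-- such an element has order 3 -/
theorem cube (L : LocG z y s c f g u h) (d : G) (hd : Cyc z y d) (hc : c * d = d * c)
    (hf : f * d = d * f) : d * d * d = 1 := by
  have hy2 := y2 L
  have hzy := L.zy
  have h1 := hd.hz
  have h2 := hd.hy
  have h3 := hd.hzy hzy hy2
  have hz : (d * d * d) * z = z * (d * d * d) := by
    have : (d * d * d)⁻¹ * z * (d * d * d) = z := by
      calc (d * d * d)⁻¹ * z * (d * d * d) = d⁻¹ * (d⁻¹ * (d⁻¹ * z * d) * d) * d := by group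
        _ = z := by rw [h1, h2, h3]
    calc (d * d * d) * z = (d * d * d) * ((d * d * d)⁻¹ * z * (d * d * d)) := by rw [this]
      _ = _ := by group
  have hy : (d * d * d) * y = y * (d * d * d) := by
    have : (d * d * d)⁻¹ * y * (d * d * d) = y := by
      calc (d * d * d)⁻¹ * y * (d * d * d) = d⁻¹ * (d⁻¹ * (d⁻¹ * y * d) * d) * d := by group
        _ = y := by rw [h2, h3, h1]
    calc (d * d * d) * y = (d * d * d) * ((d * d * d)⁻¹ * y * (d * d * d)) := by rw [this]
      _ = _ := by group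
  have com3 : ∀ a, a * d = d * a → (d * d * d) * a = a * (d * d * d) := by
    intro a ha
    calc (d * d * d) * a = d * d * (d * a) := by group
      _ = d * d * (a * d) := by rw [ha]
      _ = d * (d * a) * d := by group
      _ = d * (a * d) * d := by rw [ha]
      _ = (d * a) * d * d := by group
      _ = (a * d) * d * d := by rw [ha]
      _ = _ := by group
  obtain ⟨i, w, hi, hw, hiw⟩ := L.cent_c _ hz hy (com3 c hc)
  have hf3 := com3 f hf
  have hwf := f_V L hw
  -- i commutes with f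
  have hif : i * f = f * i := by
    rw [hiw] at hf3
    have h4 : i * f * w = f * i * w := by
      calc i * f * w = i * (f * w) := by group
        _ = i * (w * f) := by rw [hwf]
        _ = (i * w) * f := by group
        _ = f * (i * w) := hf3
        _ = _ := by group
    exact mul_right_cancel h4
  have hi1 : i = 1 := by
    rcases hi with h5 | h5 | h5
    · exact h5
    · rw [h5] at hif; exact absurd hif (cf_ne L)
    · exfalso
      apply cf_ne L
      rw [h5] at hif
      have h6 : c⁻¹ = c * c := (inv_eq_of_mul_eq_one_left L.c3)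
      rw [← h6] at hif
      calc c * f = c * (f * c⁻¹) * c := by group
        _ = c * (c⁻¹ * f) * c := by rw [hif]
        _ = _ := by group
  rw [hi1, one_mul] at hiw
  -- w commutes with d
  have hwd : w * d = d * w := by
    rw [← hiw]; group
  have hw1 : w = 1 := by
    have h7 : d⁻¹ * w * d = w := by
      calc d⁻¹ * w * d = d⁻¹ * (w * d) := by group
        _ = d⁻¹ * (d * w) := by rw [hwd]
        _ = w := by group
    rcases hw with h8 | h8 | h8 | h8
    · exact h8
    · exfalso; rw [h8, h1] at h7; exact y_ne L h7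
    · exfalso; rw [h8, h2] at h7; exact L.z_ne (mul_eq_right.1 h7)
    · exfalso; rw [h8, h3] at h7
      exact y_ne1 L (mul_eq_left.1 h7.symm)
  rw [hiw, hw1]

/-- the relation `s d s = (c d)⁻¹` -/
theorem finish (L : LocG z y s c f g u h) (d : G) (hd : Cyc z y d) (hc : c * d = d * c)
    (hf : f * d = d * f) (i : G) (hi : i = 1 ∨ i = c ∨ i = c * c) (hT : s * d * s * d = i) :
    s * d * s = (c * d)⁻¹ := by
  have hy2 := y2 L
  have hzy := L.zy
  have hs2 := L.s2
  have h1 := hd.hz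
  have h2 := hd.hy
  have h3 := hd.hzy hzy hy2
  have hsds : s * d * s = i * d⁻¹ := by
    rw [← hT]; group
  -- `u` commutes with `s d s`
  have hu : u * (i * d⁻¹) = (i * d⁻¹) * u := by
    rw [← hsds, L.u_def]
    calc s * f * s * (s * d * s) = s * f * (s * s) * d * s := by group
      _ = s * (f * d) * s := by rw [hs2]; group
      _ = s * (d * f) * s := by rw [hf]
      _ = s * d * (s * s) * f * s := by rw [hs2]; group
      _ = _ := by group
  rcases hi with h4 | h4 | h4
  · exfalso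
    rw [h4, one_mul] at hu
    have hud : d⁻¹ * u * d = u := by
      calc d⁻¹ * u * d = (d⁻¹ * u) * d := by group
        _ = (u * d⁻¹) * d := by rw [hu]
        _ = u := by group
    have hfd : d⁻¹ * f * d = f := by
      calc d⁻¹ * f * d = d⁻¹ * (f * d) := by group
        _ = d⁻¹ * (d * f) := by rw [hf]
        _ = f := by group
    have : d⁻¹ * z * d = z := by
      calc d⁻¹ * z * d = d⁻¹ * (f * u * (f * u)) * d := by rw [L.fu]
        _ = (d⁻¹ * f * d) * (d⁻¹ * u * d) * ((d⁻¹ * f * d) * (d⁻¹ * u * d)) := by group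
        _ = z := by rw [hud, hfd, L.fu]
    rw [h1] at this
    exact y_ne L this
  · exfalso
    rw [h4] at hu
    have hue : (c * d⁻¹)⁻¹ * u * (c * d⁻¹) = u := by
      calc (c * d⁻¹)⁻¹ * u * (c * d⁻¹) = (c * d⁻¹)⁻¹ * (u * (c * d⁻¹)) := by group
        _ = (c * d⁻¹)⁻¹ * ((c * d⁻¹) * u) := by rw [hu]
        _ = u := by group
    have hgd : d * g * d⁻¹ = g := by
      rw [L.g_def]
      have e1 : d * c⁻¹ = c⁻¹ * d := by
        calc d * c⁻¹ = c⁻¹ * (c * d) * c⁻¹ := by group
          _ = c⁻¹ * (d * c) * c⁻¹ := by rw [hc]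
          _ = _ := by group
      calc d * (c⁻¹ * f * c) * d⁻¹ = (d * c⁻¹) * f * c * d⁻¹ := by group
        _ = (c⁻¹ * d) * f * c * d⁻¹ := by rw [e1]
        _ = c⁻¹ * (d * f) * c * d⁻¹ := by group
        _ = c⁻¹ * (f * d) * c * d⁻¹ := by rw [hf]
        _ = c⁻¹ * f * (d * c) * d⁻¹ := by group
        _ = c⁻¹ * f * (c * d) * d⁻¹ := by rw [hc]
        _ = _ := by group
    have hfe : (c * d⁻¹)⁻¹ * f * (c * d⁻¹) = g := by
      calc (c * d⁻¹)⁻¹ * f * (c * d⁻¹) = d * (c⁻¹ * f * c) * d⁻¹ := by group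
        _ = g := by rw [← L.g_def, hgd]
    have hze : (c * d⁻¹)⁻¹ * z * (c * d⁻¹) = z * y := by
      have hzc : c⁻¹ * z * c = z := by
        calc c⁻¹ * z * c = c⁻¹ * (z * c) := by group
          _ = c⁻¹ * (c * z) := by rw [L.zc]
          _ = z := by group
      calc (c * d⁻¹)⁻¹ * z * (c * d⁻¹) = d * (c⁻¹ * z * c) * d⁻¹ := by group
        _ = d * (d⁻¹ * (z * y) * d) * d⁻¹ := by rw [hzc, h3]
        _ = z * y := by group
    have : (c * d⁻¹)⁻¹ * z * (c * d⁻¹) = y := by
      calc (c * d⁻¹)⁻¹ * z * (c * d⁻¹) = (c * d⁻¹)⁻¹ * (f * u * (f * u)) * (c * d⁻¹) := by rw [L.fu]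
        _ = ((c * d⁻¹)⁻¹ * f * (c * d⁻¹)) * ((c * d⁻¹)⁻¹ * u * (c * d⁻¹)) *
            (((c * d⁻¹)⁻¹ * f * (c * d⁻¹)) * ((c * d⁻¹)⁻¹ * u * (c * d⁻¹))) := by group
        _ = y := by rw [hue, hfe, L.gu]
    rw [hze] at this
    exact L.z_ne (mul_eq_right.1 this)
  · rw [hsds, h4]
    have hc3 : c * c = c⁻¹ := (inv_eq_of_mul_eq_one_left L.c3).symm
    rw [hc3, mul_inv_rev]
    calc c⁻¹ * d⁻¹ = (d * c)⁻¹ := by group
      _ = (c * d)⁻¹ := by rw [hc]
      _ = d⁻¹ * c⁻¹ := by group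

/-- **Existence of `d`.** -/
theorem exists_d (L : LocG z y s c f g u h) (k : G) (hk : k⁻¹ * z * k = y) :
    ∃ d : G, d * d * d = 1 ∧ c * d = d * c ∧ f * d = d * f ∧ s * d * s = (c * d)⁻¹ ∧
      d⁻¹ * z * d = y := by
  have hy2 := y2 L
  have hzy := L.zy
  have hs2 := L.s2
  have hsi : s⁻¹ = s := inv_eq_of_mul_eq_one_left hs2
  obtain ⟨m, hm⟩ := exists_cyc L k hk
  obtain ⟨δ, hδ, hδc⟩ := exists_cyc_comm L m hm
  obtain ⟨δ', hδ', hδc', hδf'⟩ := exists_cyc_f L δ hδ hδc
  obtain ⟨d, hd, hdc, hdf⟩ := exists_cyc_cf L δ' hδ' hδc' hδf'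
  have hd3 := cube L d hd hdc hdf
  have h1 := hd.hz
  have h2 := hd.hy
  have h3 := hd.hzy hzy hy2
  have hsys := sys L
  have hszs := szs L
  have hszys : s * (z * y) * s = y := by
    calc s * (z * y) * s = (s * z * s) * (s * y * s) := by
          calc s * (z * y) * s = s * z * (s⁻¹ * s) * y * s := by group
            _ = _ := by rw [hsi]; group
      _ = z * (z * y) := by rw [hszs, hsys]
      _ = y := by rw [← mul_assoc, L.z2, one_mul]
  -- `T = s d s d` centralises `V` and `c`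
  set T := s * d * s * d with hT
  have hTz : T * z = z * T := by
    have : T⁻¹ * z * T = z := by
      calc T⁻¹ * z * T = d⁻¹ * (s⁻¹ * (d⁻¹ * (s⁻¹ * z * s) * d) * s) * d := by rw [hT]; group
        _ = z := by rw [hsi, hszs, h1, hsys, h3]
    calc T * z = T * (T⁻¹ * z * T) := by rw [this]
      _ = z * T := by group
  have hTy : T * y = y * T := by
    have : T⁻¹ * y * T = y := by
      calc T⁻¹ * y * T = d⁻¹ * (s⁻¹ * (d⁻¹ * (s⁻¹ * y * s) * d) * s) * d := by rw [hT]; group
        _ = y := by rw [hsi, hsys, h3, hszs, h1]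
    calc T * y = T * (T⁻¹ * y * T) := by rw [this]
      _ = y * T := by group
  have hTc : T * c = c * T := by
    have e1 : s * c = c * s := L.sc
    calc T * c = s * d * s * (d * c) := by rw [hT]; group
      _ = s * d * s * (c * d) := by rw [hdc]
      _ = s * d * (s * c) * d := by group
      _ = s * d * (c * s) * d := by rw [e1]
      _ = s * (d * c) * s * d := by group
      _ = s * (c * d) * s * d := by rw [hdc]
      _ = (s * c) * d * s * d := by group
      _ = (c * s) * d * s * d := by rw [e1]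
      _ = _ := by rw [hT]; group
  obtain ⟨i, w, hi, hw, hiw⟩ := L.cent_c T hTz hTy hTc
  have hsi' : s * i = i * s := by
    have e1 : s * c = c * s := L.sc
    rcases hi with h4 | h4 | h4 <;> rw [h4]
    · rw [one_mul, mul_one]
    · exact e1
    · rw [← mul_assoc, e1, mul_assoc, e1, ← mul_assoc]
  have hdi : d * i = i * d := by
    rcases hi with h4 | h4 | h4 <;> rw [h4]
    · rw [one_mul, mul_one]
    · exact hdc.symm
    · rw [← mul_assoc, ← hdc, mul_assoc, ← hdc, ← mul_assoc]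
  have hVi : ∀ w, InV z y w → w * i = i * w := by
    intro w hw
    have e1 := c_V L hw
    rcases hi with h4 | h4 | h4 <;> rw [h4]
    · rw [one_mul, mul_one]
    · exact e1.symm
    · rw [← mul_assoc, ← e1, mul_assoc, ← e1, ← mul_assoc]
  have hww : s * w * s = d * w * d⁻¹ := by
    have e1 : s * T * s = d * T * d⁻¹ := by
      rw [hT]
      calc s * (s * d * s * d) * s = (s * s) * d * s * d * s := by group
        _ = d * s * d * s := by rw [hs2]; group
        _ = _ := by group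
    rw [hiw] at e1
    have e2 : s * (i * w) * s = i * (s * w * s) := by
      calc s * (i * w) * s = (s * i) * w * s := by group
        _ = (i * s) * w * s := by rw [hsi']
        _ = _ := by group
    have e3 : d * (i * w) * d⁻¹ = i * (d * w * d⁻¹) := by
      calc d * (i * w) * d⁻¹ = (d * i) * w * d⁻¹ := by group
        _ = (i * d) * w * d⁻¹ := by rw [hdi]
        _ = _ := by group
    rw [e2, e3] at e1
    exact mul_left_cancel e1
  have hdz : d * z * d⁻¹ = z * y := by
    calc d * z * d⁻¹ = d * (d⁻¹ * (z * y) * d) * d⁻¹ := by rw [h3]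
      _ = z * y := by group
  have hdy : d * y * d⁻¹ = z := by
    calc d * y * d⁻¹ = d * (d⁻¹ * z * d) * d⁻¹ := by rw [h1]
      _ = z := by group
  have hcase : w = 1 ∨ w = z * y := by
    rcases hw with h4 | h4 | h4 | h4
    · left; exact h4
    · exfalso
      rw [h4, hszs, hdz] at hww
      exact y_ne1 L (mul_eq_left.1 hww.symm)
    · exfalso
      rw [h4, hsys, hdy] at hww
      exact y_ne1 L (mul_eq_left.1 hww)
    · right; exact h4
  rcases hcase with h4 | h4
  · rw [h4, mul_one] at hiw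
    exact ⟨d, hd3, hdc, hdf, finish L d hd hdc hdf i hi hiw, h1⟩
  · -- replace `d` by `y d y`
    have hyi : y⁻¹ = y := inv_eq_of_mul_eq_one_left hy2
    have hcy := L.cy
    have hfy := L.fy
    have hd' : Cyc z y (y * d * y) := by
      have hyz : y * z * y = z := by rw [hzy, mul_assoc, hy2, mul_one]
      have hyyy : y * y * y = y := by rw [hy2, one_mul]
      have hyzy : y * (z * y) * y = z * y := by rw [← mul_assoc, hzy, mul_assoc, mul_assoc, hy2, mul_one]
      constructor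
      · calc (y * d * y)⁻¹ * z * (y * d * y) = y⁻¹ * (d⁻¹ * (y⁻¹ * z * y) * d) * y := by group
          _ = y := by rw [hyi, hyz, h1, hyyy]
      · calc (y * d * y)⁻¹ * y * (y * d * y) = y⁻¹ * (d⁻¹ * (y⁻¹ * y * y) * d) * y := by group
          _ = z * y := by rw [hyi, hyyy, h2, hyzy]
    have hc' : c * (y * d * y) = (y * d * y) * c := by
      calc c * (y * d * y) = (c * y) * d * y := by group
        _ = (y * c) * d * y := by rw [hcy]
        _ = y * (c * d) * y := by group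
        _ = y * (d * c) * y := by rw [hdc]
        _ = y * d * (c * y) := by group
        _ = y * d * (y * c) := by rw [hcy]
        _ = _ := by group
    have hf' : f * (y * d * y) = (y * d * y) * f := by
      calc f * (y * d * y) = (f * y) * d * y := by group
        _ = (y * f) * d * y := by rw [hfy]
        _ = y * (f * d) * y := by group
        _ = y * (d * f) * y := by rw [hdf]
        _ = y * d * (f * y) := by group
        _ = y * d * (y * f) := by rw [hfy]
        _ = _ := by group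
    have hT' : s * (y * d * y) * s * (y * d * y) = i := by
      calc s * (y * d * y) * s * (y * d * y)
          = (s * y * s⁻¹) * (s * d * s⁻¹) * (s * y * s⁻¹) * (s * s) * (y * d * y) := by group
        _ = (s * y * s) * (s * d * s) * (s * y * s) * (y * d * y) := by rw [hsi, hs2, mul_one]
        _ = (z * y) * (T * d⁻¹) * (z * y) * (y * d * y) := by
            rw [hsys]
            have : T * d⁻¹ = s * d * s := by rw [hT]; group
            rw [this]
        _ = (z * y) * T * (d⁻¹ * (z * (y * y)) * d) * y := by group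
        _ = (z * y) * (i * w) * y * y := by rw [hy2, mul_one, h1, hiw]
        _ = ((z * y) * i) * w := by rw [mul_assoc _ y y, hy2, mul_one]; group
        _ = i * ((z * y) * (z * y)) := by
            rw [hVi (z * y) (Or.inr (Or.inr (Or.inr rfl))), h4]; group
        _ = i := by rw [V_sq L (Or.inr (Or.inr (Or.inr rfl))), mul_one]
    exact ⟨y * d * y, cube L _ hd' hc' hf', hc', hf', finish L _ hd' hc' hf' i hi hT', hd'.hz⟩

end Cfsg.Agent.J3Type.ExistsD
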