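import Mathlib
import Cfsg.Agent.J3Type.Loc

/-!
# More local facts: classes of involutions of `C_G(z)` and generation of `C_G(z)`
-/

set_option autoImplicit false

namespace Cfsg.Agent.J3Type.LocPlus

open Cfsg.Agent.J2Type.Model Cfsg.Agent.J2Type.CStruct Cfsg.Agent.J2Type.SPFacts
  Cfsg.Agent.J3Type.PresDef Cfsg.Agent.J3Type.CElts Cfsg.Agent.J3Type.Loc

/-- words in `ac, af, ah` -/
def wds : List (List (Fin 3)) := [[], [0], [1], [2], [0, 0], [0, 1], [0, 2], [1, 0], [1, 2], [2, 0], [2, 1], [0, 0, 1], [0, 1, 0], [0, 1, 2], [0, 2, 1], [1, 0, 0], [1, 0, 1], [1, 0, 2], [1, 2, 0], [1, 2, 1], [2, 0, 1], [2, 1, 0], [0, 0, 1, 0], [0, 0, 1, 2], [0, 1, 0, 0], [0, 1, 0, 2], [0, 1, 2, 0], [0, 1, 2, 1], [0, 2, 1, 0], [1, 0, 1, 2], [1, 0, 2, 1], [1, 2, 0, 1], [1, 2, 1, 0], [2, 0, 1, 0], [2, 0, 1, 2], [2, 1, 0, 0], [2, 1, 0, 1], [2, 1, 0, 2], [0, 0, 1, 0, 2], [0, 1, 0, 2, 1], [0, 1, 2, 0, 1], [0, 1, 2, 1, 0], [0, 2, 1, 0, 1],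 [0, 2, 1, 0, 2], [1, 0, 1, 2, 1], [1, 0, 2, 1, 0], [1, 2, 0, 1, 0], [1, 2, 1, 0, 1], [2, 0, 1, 0, 2], [2, 0, 1, 2, 0], [0, 0, 1, 0, 2, 1], [0, 1, 0, 2, 1, 0], [0, 1, 2, 0, 1, 0], [0, 1, 2, 1, 0, 1], [1, 0, 1, 2, 1, 0], [1, 0, 2, 1, 0, 1], [1, 0, 2, 1, 0, 2], [2, 0, 1, 2, 0, 1], [0, 0, 1, 0, 2, 1, 0], [0, 1, 0, 2, 1, 0, 1]]

/-- the three generators -/
def gen3 (i : Fin 3) : alternatingGroup (Fin 5) := if i = 0 then ac else if i = 1 then af else ah

theorem exists_word : ∀ σ : alternatingGroup (Fin 5), ∃ w ∈ wds, (w.map gen3).prod = σ := by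
  decide +kernel

theorem closure_A5 : Subgroup.closure ({ac, af, ah} : Set (alternatingGroup (Fin 5))) = ⊤ := by
  rw [eq_top_iff]
  intro σ _
  obtain ⟨w, -, hw⟩ := exists_word σ
  rw [← hw]
  apply Subgroup.list_prod_mem
  intro x hx
  obtain ⟨i, -, rfl⟩ := List.mem_map.mp hx
  apply Subgroup.subset_closure
  unfold gen3
  split_ifs
  · exact Or.inl rfl
  · exact Or.inr (Or.inl rfl)
  · exact Or.inr (Or.inr rfl)

variable {C : Type*} [Group C] {Q : Subgroup C} {z : C} {v : Fin 5 → C} {ρ : C →* SP}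

/-- `C` is generated by `c, f, h, s`. -/
theorem closure_C (M : IsModel Q z v ρ) (κ : alternatingGroup (Fin 5) →* C)
    (hκ : ∀ σ, ρ (κ σ) = ⟨σ, 0⟩) :
    Subgroup.closure ({κ ac, κ af, κ ah, z * v 3} : Set C) = ⊤ := by
  set K := Subgroup.closure ({κ ac, κ af, κ ah, z * v 3} : Set C) with hK
  have hm : ∀ a ∈ ({κ ac, κ af, κ ah, z * v 3} : Set C), a ∈ K := fun a ha => Subgroup.subset_closure ha
  have hkap : ∀ σ, κ σ ∈ K := by
    intro σ
    have h1 : σ ∈ Subgroup.closure ({ac, af, ah} : Set (alternatingGroup (Fin 5))) := by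
      rw [closure_A5]; exact Subgroup.mem_top _
    have h2 : Subgroup.closure ({ac, af, ah} : Set (alternatingGroup (Fin 5))) ≤ K.comap κ := by
      rw [Subgroup.closure_le]
      rintro x (rfl | rfl | rfl)
      · exact hm _ (Or.inl rfl)
      · exact hm _ (Or.inr (Or.inl rfl))
      · exact hm _ (Or.inr (Or.inr (Or.inl rfl)))
    exact h2 h1
  have hs : z * v 3 ∈ K := hm _ (Or.inr (Or.inr (Or.inr rfl)))
  -- all `z v_i`
  have htr : ∀ i : Fin 5, ∃ σ : alternatingGroup (Fin 5), (σ : Equiv.Perm (Fin 5)) 3 = i := by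
    decide +kernel
  have hzv : ∀ i, z * v i ∈ K := by
    intro i
    obtain ⟨σ, hσ⟩ := htr i
    have h1 := kv M κ hκ σ 3
    have h2 : κ σ * (z * v 3) * (κ σ)⁻¹ = z * v i := by
      calc κ σ * (z * v 3) * (κ σ)⁻¹ = (κ σ * z) * v 3 * (κ σ)⁻¹ := by group
        _ = (z * κ σ) * v 3 * (κ σ)⁻¹ := by rw [M.z_comm]
        _ = z * (κ σ * v 3) * (κ σ)⁻¹ := by group
        _ = z * (v i * κ σ) * (κ σ)⁻¹ := by rw [h1, hσ]
        _ = z * v i := by group
    rw [← h2]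
    exact K.mul_mem (K.mul_mem (hkap σ) hs) (K.inv_mem (hkap σ))
  have hz : z ∈ K := by
    have h1 := vv_sq M (i := 0) (j := 1) (by decide)
    have h2 : (z * v 0) * (z * v 1) = v 0 * v 1 := by
      calc (z * v 0) * (z * v 1) = z * (v 0 * z) * v 1 := by group
        _ = z * (z * v 0) * v 1 := by rw [M.z_comm]
        _ = (z * z) * (v 0 * v 1) := by group
        _ = v 0 * v 1 := by rw [M.z_sq, one_mul]
    rw [← h1, ← h2]
    have h3 := K.mul_mem (hzv 0) (hzv 1)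
    exact K.mul_mem h3 h3
  have hv : ∀ i, v i ∈ K := by
    intro i
    have h1 := K.mul_mem hz (hzv i)
    rwa [← mul_assoc, M.z_sq, one_mul] at h1
  have hzp : ∀ a, zp z a ∈ K := by
    intro a
    rcases zmod2_cases a with rfl | rfl
    · rw [zp_zero]; exact K.one_mem
    · rw [zp_one]; exact hz
  rw [eq_top_iff]
  intro x _
  have hx := (M.range (ρ x)).1 ⟨x, rfl⟩
  let σ : alternatingGroup (Fin 5) := ⟨(ρ x).σ, Equiv.Perm.mem_alternatingGroup.2 hx.1⟩
  have h1 : (ρ (x * κ σ⁻¹)).σ = 1 := by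
    rw [map_mul, hκ]
    show (ρ x).σ * ((σ⁻¹ : alternatingGroup (Fin 5)) : Equiv.Perm (Fin 5)) = 1
    show (ρ x).σ * ((ρ x).σ)⁻¹ = 1
    exact mul_inv_cancel _
  have h2 : x * κ σ⁻¹ ∈ K := by
    rcases M.cover _ ((M.mem_Q _).2 h1) with ⟨a, h⟩ | ⟨a, i, h⟩ | ⟨a, i, j, _, h⟩
    · rw [h]; exact hzp a
    · rw [h]; exact K.mul_mem (hzp a) (hv i)
    · rw [h]; exact K.mul_mem (hzp a) (K.mul_mem (hv i) (hv j))
  have h3 := K.mul_mem h2 (hkap σ)
  rwa [mul_assoc, ← map_mul, inv_mul_cancel, map_one, mul_one] at h3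

/-- the three classes of involutions of `C` -/
theorem classes_C (M : IsModel Q z v ρ) (κ : alternatingGroup (Fin 5) →* C)
    (hκ : ∀ σ, ρ (κ σ) = ⟨σ, 0⟩) (t : C) (ht : t * t = 1) (ht1 : t ≠ 1) :
    t = z ∨ (∃ k, k⁻¹ * t * k = z * v 4) ∨ (∃ k, k⁻¹ * t * k = κ af) := by
  by_cases hQ : t ∈ Q
  · rcases invol_Q M hQ ht ht1 with h | ⟨a, i, h⟩
    · exact Or.inl h
    · right; left
      obtain ⟨c, hc⟩ := trans_v M a 1 i 4
      refine ⟨c⁻¹, ?_⟩
      rw [inv_inv, h, hc, zp_one]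
  · right; right
    have hf2 : κ af * κ af = 1 := by rw [← map_mul, af2, map_one]
    have hfQ : κ af ∉ Q := by
      rw [M.mem_Q, hκ]
      show (af : Equiv.Perm (Fin 5)) ≠ 1
      decide +kernel
    obtain ⟨k, hk⟩ := outer_conj M ht hQ hf2 hfQ
    exact ⟨k⁻¹, by rw [inv_inv, hk]⟩

/-- **Existence of the local elements**, with the classes of involutions of `C_G(z)` and its generation. -/
theorem exists_locG_plus {G : Type*} [Group G] [Finite G] (z₀ : G)
    {Q : Subgroup (Subgroup.centralizer ({z₀} : Set G))} {z : Subgroup.centralizer ({z₀} : Set G)}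
    {v : Fin 5 → Subgroup.centralizer ({z₀} : Set G)} {ρ : Subgroup.centralizer ({z₀} : Set G) →* SP}
    (M : IsModel Q z v ρ) (hz : (z : G) = z₀) (x : Subgroup.centralizer ({z₀} : Set G)) (hx : x ∉ Q)
    (hx2 : x * x = 1) : ∃ y s c f g u h : G, LocG z₀ y s c f g u h ∧
      (∀ t : G, t * z₀ = z₀ * t → t * t = 1 → t ≠ 1 → t = z₀ ∨ (∃ k, k * z₀ = z₀ * k ∧ k⁻¹ * t * k = y) ∨
        (∃ k, k * z₀ = z₀ * k ∧ k⁻¹ * t * k = f)) ∧
      Subgroup.centralizer ({z₀} : Set G) ≤ Subgroup.closure ({c, f, h, s} : Set G) := by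
  obtain ⟨κ, hκ⟩ := Cfsg.Agent.J3Type.Kappa.exists_kappa M x hx hx2
  refine ⟨_, _, _, _, _, _, _, locG_of_locC z₀ hz (locC_of_kappa M κ hκ), ?_, ?_⟩
  · intro t htz htt ht1
    have htC : t ∈ Subgroup.centralizer ({z₀} : Set G) := Subgroup.mem_centralizer_singleton_iff.mpr htz
    rcases classes_C M κ hκ ⟨t, htC⟩ (Subtype.ext htt) (fun h => ht1 (congrArg Subtype.val h)) with
      h | ⟨k, hk⟩ | ⟨k, hk⟩
    · left
      have := congrArg Subtype.val h
      exact this.trans hz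
    · right; left
      exact ⟨k, Subgroup.mem_centralizer_singleton_iff.mp k.2, congrArg Subtype.val hk⟩
    · right; right
      exact ⟨k, Subgroup.mem_centralizer_singleton_iff.mp k.2, congrArg Subtype.val hk⟩
  · intro t ht
    have h1 : (⟨t, ht⟩ : Subgroup.centralizer ({z₀} : Set G)) ∈
        Subgroup.closure ({κ ac, κ af, κ ah, z * v 3} : Set (Subgroup.centralizer ({z₀} : Set G))) := by
      rw [closure_C M κ hκ]; exact Subgroup.mem_top _
    have h2 : Subgroup.closure ({κ ac, κ af, κ ah, z * v 3} : Set (Subgroup.centralizer ({z₀} : Set G))) ≤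
        (Subgroup.closure ({((κ ac : Subgroup.centralizer ({z₀} : Set G)) : G),
          ((κ af : Subgroup.centralizer ({z₀} : Set G)) : G),
          ((κ ah : Subgroup.centralizer ({z₀} : Set G)) : G),
          ((z * v 3 : Subgroup.centralizer ({z₀} : Set G)) : G)} : Set G)).comap
          (Subgroup.centralizer ({z₀} : Set G)).subtype := by
      rw [Subgroup.closure_le]
      rintro a (rfl | rfl | rfl | rfl)
      · exact Subgroup.subset_closure (Or.inl rfl)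
      · exact Subgroup.subset_closure (Or.inr (Or.inl rfl))
      · exact Subgroup.subset_closure (Or.inr (Or.inr (Or.inl rfl)))
      · exact Subgroup.subset_closure (Or.inr (Or.inr (Or.inr rfl)))
    exact h2 h1

end Cfsg.Agent.J3Type.LocPlus
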