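import Mathlib
import Cfsg.Agent.J3Type.LocPlus
import Cfsg.Agent.J3Type.ExistsD
import Cfsg.Agent.J3Type.ClosingApply

/-!
# From `⟨c, f, h, s, d, w⟩ ≅ J₃` to `G ≅ J₃`
-/

set_option autoImplicit false

namespace Cfsg.Agent.J3Type.Finish

open Cfsg.Agent.J3Type.PresDef Cfsg.Agent.J3Type.Loc Cfsg.Spor

variable {G : Type*} [Group G] {z y s c f g u h d w : G}

theorem c_ne (L : LocG z y s c f g u h) : c ≠ 1 := by
  intro h1
  have h2 := L.g_def
  rw [h1] at h2
  have h3 : g = f := by rw [h2]; group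
  exact Cfsg.Agent.J3Type.ExistsD.fg_ne L h3.symm

theorem c_sq_ne (L : LocG z y s c f g u h) : c * c ≠ 1 := by
  intro h1
  have h2 := L.c3
  rw [h1, one_mul] at h2
  exact c_ne L h2

/-- outer involutions are conjugate in `C(z)` to `f` -/
theorem hout (L : LocG z y s c f g u h)
    (hcl : ∀ t : G, t * z = z * t → t * t = 1 → t ≠ 1 → t = z ∨ (∃ k, k * z = z * k ∧ k⁻¹ * t * k = y) ∨
      (∃ k, k * z = z * k ∧ k⁻¹ * t * k = f)) :
    ∀ t : G, t * z = z * t → t * t = 1 → (∀ x, x * z = z * x → x * t = t * x → x * x = 1) →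
        ∃ k : G, k * z = z * k ∧ k⁻¹ * t * k = f := by
  intro t htz htt hall
  have hcz : c * z = z * c := L.zc.symm
  by_cases ht1 : t = 1
  · exfalso
    apply c_sq_ne L
    exact hall c hcz (by rw [ht1]; group)
  rcases hcl t htz htt ht1 with h1 | ⟨k, hk, h1⟩ | h1
  · exfalso
    apply c_sq_ne L
    exact hall c hcz (by rw [h1]; exact hcz)
  · exfalso
    apply c_sq_ne L
    have h2 : t = k * y * k⁻¹ := by rw [← h1]; group
    have h3 : (k * c * k⁻¹) * (k * c * k⁻¹) = 1 := by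
      apply hall
      · have hk' : z * k⁻¹ = k⁻¹ * z := by
          calc z * k⁻¹ = k⁻¹ * (k * z) * k⁻¹ := by group
            _ = k⁻¹ * (z * k) * k⁻¹ := by rw [hk]
            _ = k⁻¹ * z := by group
        calc k * c * k⁻¹ * z = k * c * (k⁻¹ * z) := by group
          _ = k * c * (z * k⁻¹) := by rw [hk']
          _ = k * (c * z) * k⁻¹ := by group
          _ = k * (z * c) * k⁻¹ := by rw [hcz]
          _ = (k * z) * (c * k⁻¹) := by group
          _ = (z * k) * (c * k⁻¹) := by rw [hk]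
          _ = z * (k * c * k⁻¹) := by group
      · rw [h2]
        calc k * c * k⁻¹ * (k * y * k⁻¹) = k * (c * y) * k⁻¹ := by group
          _ = k * (y * c) * k⁻¹ := by rw [L.cy]
          _ = k * y * k⁻¹ * (k * c * k⁻¹) := by group
    calc c * c = k⁻¹ * ((k * c * k⁻¹) * (k * c * k⁻¹)) * k := by group
      _ = 1 := by rw [h3]; group
  · exact h1

/-- the involutions of `C(z)` are conjugate to `z` in every subgroup containing `C(z)`, `d` and `w` -/
theorem hcls (hcl : ∀ t : G, t * z = z * t → t * t = 1 → t ≠ 1 → t = z ∨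
      (∃ k, k * z = z * k ∧ k⁻¹ * t * k = y) ∨ (∃ k, k * z = z * k ∧ k⁻¹ * t * k = f))
    (zd : d⁻¹ * z * d = y) (w2 : w * w = 1) (zw : w * z * w = f) (H : Subgroup G)
    (hCH : Subgroup.centralizer ({z} : Set G) ≤ H) (hd : d ∈ H) (hw : w ∈ H) :
    ∀ r : G, r * z = z * r → r * r = 1 → r ≠ 1 → ∃ g ∈ H, g * z * g⁻¹ = r := by
  intro r h1 h2 h3
  have hwi : w⁻¹ = w := inv_eq_of_mul_eq_one_left w2
  rcases hcl r h1 h2 h3 with h | ⟨k, hk, h⟩ | ⟨k, hk, h⟩
  · exact ⟨1, H.one_mem, by rw [h]; group⟩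
  · have hkH : k ∈ H := hCH (Subgroup.mem_centralizer_singleton_iff.mpr hk)
    refine ⟨k * d⁻¹, H.mul_mem hkH (H.inv_mem hd), ?_⟩
    calc k * d⁻¹ * z * (k * d⁻¹)⁻¹ = k * (d⁻¹ * z * d) * k⁻¹ := by group
      _ = k * (k⁻¹ * r * k) * k⁻¹ := by rw [zd, h]
      _ = r := by group
  · have hkH : k ∈ H := hCH (Subgroup.mem_centralizer_singleton_iff.mpr hk)
    refine ⟨k * w, H.mul_mem hkH hw, ?_⟩
    calc k * w * z * (k * w)⁻¹ = k * (w * z * w⁻¹) * k⁻¹ := by group
      _ = k * (w * z * w) * k⁻¹ := by rw [hwi]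
      _ = k * (k⁻¹ * r * k) * k⁻¹ := by rw [zw, h]
      _ = r := by group

/-- **Finish**: if the subgroup generated by the amalgam is `J₃` then so is `G`. -/
theorem finish [Finite G] (L : LocG z y s c f g u h)
    (hcl : ∀ t : G, t * z = z * t → t * t = 1 → t ≠ 1 → t = z ∨
      (∃ k, k * z = z * k ∧ k⁻¹ * t * k = y) ∨ (∃ k, k * z = z * k ∧ k⁻¹ * t * k = f))
    (hgen : Subgroup.centralizer ({z} : Set G) ≤ Subgroup.closure ({c, f, h, s} : Set G))
    (zd : d⁻¹ * z * d = y) (w2 : w * w = 1) (zw : w * z * w = f)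
    (hone : ∀ x y : G, orderOf x = 2 → orderOf y = 2 → IsConj x y)
    (hcard : Nat.card (Subgroup.centralizer ({z} : Set G)) = 1920)
    (hJ : IsoJ3 (Subgroup.closure ({c, f, h, s, d, w} : Set G))) : IsoJ3 G := by
  set H := Subgroup.closure ({c, f, h, s, d, w} : Set G) with hH
  have hm : ∀ a ∈ ({c, f, h, s, d, w} : Set G), a ∈ H := fun a ha => Subgroup.subset_closure ha
  have hCH : Subgroup.centralizer ({z} : Set G) ≤ H := by
    refine hgen.trans ?_
    rw [Subgroup.closure_le]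
    rintro a (rfl | rfl | rfl | rfl)
    · exact hm _ (Or.inl rfl)
    · exact hm _ (Or.inr (Or.inl rfl))
    · exact hm _ (Or.inr (Or.inr (Or.inl rfl)))
    · exact hm _ (Or.inr (Or.inr (Or.inr (Or.inl rfl))))
  have hd : d ∈ H := hm _ (Or.inr (Or.inr (Or.inr (Or.inr (Or.inl rfl)))))
  have hw : w ∈ H := hm _ (Or.inr (Or.inr (Or.inr (Or.inr (Or.inr rfl)))))
  exact Cfsg.Agent.J3Type.ClosingApply.isoJ3 z L.z_ne L.z2 hone hcard H hCH
    (hcls hcl zd w2 zw H hCH hd hw) hJ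

end Cfsg.Agent.J3Type.Finish
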