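import Cfsg.Agent.J3Type.InvW
import Cfsg.Agent.J3Type.Loc

/-!
# Existence of the involution `w` from the local facts `LocG`
-/

set_option autoImplicit false

namespace Cfsg.Agent.J3Type.InvWLoc

open Cfsg.Agent.J2Type.Model Cfsg.Agent.J2Type.CStruct Cfsg.Agent.J2Type.SPFacts Cfsg.Agent.J3Type.PresDef Cfsg.Agent.J3Type.CElts
  Cfsg.Agent.J3Type.Loc Cfsg.Agent.J3Type.InvW

/-- **Existence of the local elements**, together with the fact that every involution of `C(z)` whose
centraliser in `C(z)` has exponent two is conjugate to `f` in `C(z)`. -/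
theorem exists_locG' {G : Type*} [Group G] [Finite G] (z₀ : G)
    {Q : Subgroup (Subgroup.centralizer ({z₀} : Set G))} {z : Subgroup.centralizer ({z₀} : Set G)}
    {v : Fin 5 → Subgroup.centralizer ({z₀} : Set G)} {ρ : Subgroup.centralizer ({z₀} : Set G) →* SP}
    (M : IsModel Q z v ρ) (hz : (z : G) = z₀) (x : Subgroup.centralizer ({z₀} : Set G)) (hx : x ∉ Q)
    (hx2 : x * x = 1) : ∃ y s c f g u h : G, LocG z₀ y s c f g u h ∧
      ∀ t : G, t * z₀ = z₀ * t → t * t = 1 → (∀ x, x * z₀ = z₀ * x → x * t = t * x → x * x = 1) →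
        ∃ k : G, k * z₀ = z₀ * k ∧ k⁻¹ * t * k = f := by
  obtain ⟨κ, hκ⟩ := Cfsg.Agent.J3Type.Kappa.exists_kappa M x hx hx2
  have L := locG_of_locC z₀ hz (locC_of_kappa M κ hκ)
  refine ⟨_, _, _, _, _, _, _, L, ?_⟩
  intro t htz htt ht
  have ff : κ af * κ af = 1 := by rw [← map_mul, af2, map_one]
  have hf0 : ρ (κ af) = g0 := hκ af
  have hfQ : κ af ∉ Q := by
    rw [M.mem_Q, hf0]; exact g0_σ_ne
  let t' : Subgroup.centralizer ({z₀} : Set G) := ⟨t, Subgroup.mem_centralizer_singleton_iff.2 htz⟩
  have htt' : t' * t' = 1 := Subtype.ext htt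
  have hc1 : ((κ ac : Subgroup.centralizer ({z₀} : Set G)) : G) ≠ 1 := by
    intro h1
    have h2 := congrArg ρ (Subtype.ext h1 : κ ac = 1)
    rw [map_one, hκ] at h2
    revert h2; decide +kernel
  have hcc : ¬ ((κ ac : Subgroup.centralizer ({z₀} : Set G)) : G) * (κ ac : Subgroup.centralizer ({z₀} : Set G)) = 1 := by
    intro h1
    apply hc1
    have := L.c3
    rw [h1, one_mul] at this
    exact this
  have htQ : t' ∉ Q := by
    intro htQ
    by_cases h1 : t' = 1
    · have e : t = 1 := congrArg Subtype.val h1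
      exact hcc (ht _ L.zc.symm (by rw [e, one_mul, mul_one]))
    · rcases invol_Q M htQ htt' h1 with h2 | ⟨a, i, h2⟩
      · have e : t = z₀ := (congrArg Subtype.val h2).trans hz
        exact hcc (ht _ L.zc.symm (by rw [e]; exact L.zc.symm))
      · obtain ⟨k, hk⟩ := trans_v M a 1 i 4
        rw [← h2, zp_one] at hk
        have e : (k : G) * t * (k : G)⁻¹ = ((z * v 4 : Subgroup.centralizer ({z₀} : Set G)) : G) :=
          congrArg Subtype.val hk
        have hkz : (k : G) * z₀ = z₀ * (k : G) := Subgroup.mem_centralizer_singleton_iff.1 k.2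
        set c := ((κ ac : Subgroup.centralizer ({z₀} : Set G)) : G) with hcdef
        set y := ((z * v 4 : Subgroup.centralizer ({z₀} : Set G)) : G) with hydef
        have hcy : c * y = y * c := L.cy
        have h3 : cj (k : G)⁻¹ t = y := by
          rw [cj_def, inv_inv]; exact e
        have h4 : cj (k : G) y = t := by
          have := cj_inv_eq h3
          rwa [inv_inv] at this
        have h5 : cj (k : G) z₀ = z₀ := cj_fix.mpr hkz.symm
        have h6 : cj (k : G) c * z₀ = z₀ * cj (k : G) c := by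
          have := cj_comm (n := (k : G)) L.zc
          rw [h5] at this
          exact this.symm
        have h7 : cj (k : G) c * t = t * cj (k : G) c := by
          have := cj_comm (n := (k : G)) hcy
          rwa [h4] at this
        have h8 := ht _ h6 h7
        rw [← cj_mul] at h8
        apply hcc
        have := congrArg (cj (k : G)⁻¹) h8
        rwa [cj_inv_cj, cj_one] at this
  obtain ⟨k, hk⟩ := outer_conj M htt' htQ ff hfQ
  refine ⟨(k : G)⁻¹, ?_, ?_⟩
  · have hk' : Commute (k : G) z₀ := Subgroup.mem_centralizer_singleton_iff.1 k.2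
    exact hk'.inv_left
  · rw [inv_inv]
    exact congrArg Subtype.val hk

/-- **Existence of the involution `w`** from the local facts. -/
theorem exists_w_loc {G : Type*} [Group G] {z y s c f g u h d : G} (L : LocG z y s c f g u h)
    (hout : ∀ t : G, t * z = z * t → t * t = 1 → (∀ x, x * z = z * x → x * t = t * x → x * x = 1) →
        ∃ k : G, k * z = z * k ∧ k⁻¹ * t * k = f)
    (d3 : d * d * d = 1) (cd : c * d = d * c) (fd : f * d = d * f) (ds : s * d * s = (c * d)⁻¹)
    (zd : d⁻¹ * z * d = y) (hfus : ∃ k : G, k⁻¹ * f * k = z) :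
    ∃ w : G, w * w = 1 ∧ w * c * w = d ∧ w * z * w = f ∧ w * u * (w * u) * (w * u) = 1 := by
  obtain ⟨k, hk⟩ := hfus
  have hk' : cj k f = z := hk
  have hf : f ≠ 1 := by
    rintro rfl
    rw [cj_one] at hk'
    exact L.z_ne hk'.symm
  have S : Setup z y s c f g u h d :=
    { H := L.toCEl
      D := ⟨d3, cd, fd, ds, zd⟩
      hz := L.z_ne
      hf := hf
      hE := fun x hx1 hx2 => L.cent_f x hx1 hx2 }
  have H := L.toCEl
  have h1 : cj k z * cj k z = 1 := by rw [← cj_mul, H.z2, cj_one]
  have h2 : cj k z * z = z * cj k z := by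
    have := cj_comm (n := k) H.zf
    rwa [hk'] at this
  obtain ⟨m, hm1, hm2⟩ := hout _ h2 h1 (by
    intro x hx1 hx2
    -- `x = cj k x'`
    have e1 : cj k⁻¹ x * f = f * cj k⁻¹ x := by
      apply comm_of_cj (n := k)
      rw [cj_cj_inv, hk']; exact hx1
    have e2 : cj k⁻¹ x * z = z * cj k⁻¹ x := by
      apply comm_of_cj (n := k)
      rw [cj_cj_inv]; exact hx2
    have e3 := S.E_sq e2 e1
    rw [← cj_mul] at e3
    have := congrArg (cj k) e3
    rwa [cj_cj_inv, cj_one] at this)
  have hmz : cj m z = z := cj_fix'.mpr hm1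
  have hmf : cj m (cj k z) = f := hm2
  exact S.exists_w_of_swap (w₀ := k * m) (by rw [mul_cj, hmf]) (by rw [mul_cj, hk', hmz])

end Cfsg.Agent.J3Type.InvWLoc
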