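import Cfsg.Agent.J3Type.Iso
import Cfsg.Agent.J3Type.Finish
import Cfsg.Agent.J3Type.InvWLoc
import Cfsg.Agent.J3Type.Extra

/-!
# Groups of type J3 are isomorphic to `J3` (helper940)
-/

set_option autoImplicit false

namespace Cfsg.Agent.J3Type.Chain

open Cfsg.Agent.J2Type.Model Cfsg.Agent.J2Type.CStruct Cfsg.Agent.J3Type.PresDef Cfsg.Agent.J3Type.OneClass
  Cfsg.Agent.J3Type.Loc

/-- a field with four elements -/
theorem exists_F4 : ∃ (F : Type) (_ : Field F) (_ : Fintype F) (ω : F), Fintype.card F = 4 ∧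
    ω ^ 2 + ω + 1 = 0 := by
  have hfin : Finite (GaloisField 2 2) := inferInstance
  have hF : Fintype (GaloisField 2 2) := Fintype.ofFinite _
  have hcard : Fintype.card (GaloisField 2 2) = 4 := by
    rw [← Nat.card_eq_fintype_card, GaloisField.card 2 2 (by norm_num)]; norm_num
  have hex : ∃ ω : GaloisField 2 2, ω ≠ 0 ∧ ω ≠ 1 := by
    classical
    by_contra hcon
    push Not at hcon
    have h1 : (Finset.univ : Finset (GaloisField 2 2)) ⊆ {0, 1} := by
      intro x _
      by_cases h : x = 0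
      · simp [h]
      · simp [hcon x h]
    have h2 := Finset.card_le_card h1
    rw [Finset.card_univ, hcard] at h2
    have h3 : ({0, 1} : Finset (GaloisField 2 2)).card ≤ 2 := Finset.card_le_two
    omega
  obtain ⟨ω, h0, h1⟩ := hex
  refine ⟨GaloisField 2 2, inferInstance, hF, ω, hcard, ?_⟩
  have h2 : ω ^ 4 = ω := by rw [← hcard]; exact FiniteField.pow_card ω
  have h3 : ω * (ω - 1) * (ω ^ 2 + ω + 1) = 0 := by
    have : ω * (ω - 1) * (ω ^ 2 + ω + 1) = ω ^ 4 - ω := by ring
    rw [this, h2, sub_self]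
  rcases mul_eq_zero.mp h3 with h4 | h4
  · rcases mul_eq_zero.mp h4 with h5 | h5
    · exact absurd h5 h0
    · exact absurd (sub_eq_zero.mp h5) h1
  · exact h4

theorem orderOf_two {G : Type*} [Group G] {a : G} (h1 : a * a = 1) (h2 : a ≠ 1) : orderOf a = 2 :=
  orderOf_eq_prime (by rw [pow_two, h1]) h2

/-- **A finite group with one class of involutions, with centraliser of type `2^{1+4}_- : A₅`, is `J3`.** -/
theorem isoJ3 {G : Type*} [Group G] [Finite G] (t : G) (hM : HasModel t)
    (hone : ∀ x y : G, orderOf x = 2 → orderOf y = 2 → IsConj x y) : Cfsg.Spor.IsoJ3 G := by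
  have hMall : ∀ t' : G, orderOf t' = 2 → HasModel t' := by
    intro t' ht'
    obtain ⟨g, hg⟩ := isConj_iff.mp (hone t t' hM.1 ht')
    exact hM.conj g hg
  obtain ⟨ht, hcard, Q, v, ρ, M⟩ := hM
  have hconj : ∀ a : G, a * a = 1 → a ≠ 1 → ∃ k : G, k * t * k⁻¹ = a := by
    intro a h1 h2
    exact isConj_iff.mp (hone t a ht (orderOf_two h1 h2))
  -- an involution outside `Q`
  have hv0 : ((v 0 : Subgroup.centralizer ({t} : Set G)) : G) ≠ 1 := by
    intro h
    have h1 : v 0 = 1 := Subtype.ext h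
    have h2 := M.v_anti 0 1 (by decide)
    rw [h1, one_mul, mul_one] at h2
    exact M.z_ne (by
      calc zc t = zc t * v 1 * (v 1)⁻¹ := by group
        _ = 1 := by rw [← h2]; group)
  obtain ⟨o, ho2, hoQ⟩ := exists_outer M 0 (hconj _ (congrArg Subtype.val (M.v_sq 0)) hv0)
  obtain ⟨y, s, c, f, g, u, h, L, hcl, hgen⟩ := LocPlus.exists_locG_plus t M rfl o hoQ ho2
  have hz1 := L.z_ne
  have hs1 : s ≠ 1 := by
    intro h1
    have h2 := L.sy
    have h3 := L.y_def
    rw [h1] at h2 h3
    rw [one_mul] at h2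
    rw [mul_one, L.h2] at h3
    rw [h3] at h2
    exact hz1 (by rw [← h2]; group)
  have hy1 : y ≠ 1 := by
    intro h1
    have h2 := L.sy
    rw [h1, mul_one, L.s2] at h2
    exact hz1 h2.symm
  have hf1 : f ≠ 1 := by
    intro h1
    have h2 := L.fu
    rw [h1, one_mul, L.toCEl.u2] at h2
    exact hz1 h2.symm
  -- the element `d`
  obtain ⟨k, hk⟩ := hconj y L.toCEl.y2 hy1
  obtain ⟨d, d3, cd, fd, ds, zd⟩ := ExistsD.exists_d L k⁻¹ (by rw [inv_inv]; exact hk)
  -- the element `w`
  obtain ⟨k', hk'⟩ := hconj f L.f2 hf1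
  obtain ⟨w, w2, cw, zw, wu⟩ := InvWLoc.exists_w_loc L (Finish.hout L hcl) d3 cd fd ds zd
    ⟨k', by rw [← hk']; group⟩
  have A : Amal t y s c f g u h d w (c * d⁻¹) (h * (c * d⁻¹) * h) :=
    { toCEl := L.toCEl, d3 := d3, cd := cd, fd := fd, ds := ds, zd := zd, w2 := w2, cw := cw, zw := zw,
      wu := wu, x_def := rfl, v_def := rfl }
  -- the extra relation
  have hdisj := Extra.extra A hz1 hMall
  set K := Subgroup.closure ({t, y, f, g, u, w, c, d} : Set G) with hK
  have hKm : ∀ a ∈ ({t, y, f, g, u, w, c, d} : Set G), a ∈ K := fun a ha => Subgroup.subset_closure ha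
  have hKcard := (Pres.card_N_le A).2
  rw [← hK] at hKcard
  have hrel := Pres.rel_of_disj A (K := K) (hKm _ (by simp)) (hKm _ (by simp)) (hKm _ (by simp))
    (hKm _ (by simp)) (hKm _ (by simp)) (hKm _ (by simp)) (hKm _ (by simp)) (hKm _ (by simp)) (by
      rintro ⟨hh, hs⟩
      have hle : Subgroup.centralizer ({t} : Set G) ≤ K := by
        refine hgen.trans ?_
        rw [Subgroup.closure_le]
        rintro a (rfl | rfl | rfl | rfl)
        · exact hKm _ (by simp)
        · exact hKm _ (by simp)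
        · exact hh
        · exact hs
      have h1 := Subgroup.card_dvd_of_le hle
      rw [hcard] at h1
      have h2 : Nat.card K = 1920 := by
        obtain ⟨m, hm⟩ := h1
        have hpos : 0 < Nat.card K := Nat.card_pos
        have : m = 1 := by
          rcases Nat.lt_or_ge m 2 with h | h
          · interval_cases m
            · omega
            · rfl
          · omega
        rw [hm, this]
      have h3 : Subgroup.centralizer ({t} : Set G) = K :=
        Subgroup.eq_of_le_of_card_ge hle (by rw [h2, hcard])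
      have h4 : w ∈ Subgroup.centralizer ({t} : Set G) := by rw [h3]; exact hKm _ (by simp)
      have h5 : w * t = t * w := Subgroup.mem_centralizer_singleton_iff.mp h4
      have h6 : t = f := by rw [← zw, h5, mul_assoc, w2, mul_one]
      have h7 := L.fu
      rw [← h6] at h7
      apply hz1
      calc t = t * u * (t * u) := h7.symm
        _ = t * u * (u * t) := by rw [L.zu]
        _ = t * (u * u) * t := by group
        _ = 1 := by rw [L.toCEl.u2, mul_one, L.z2]) hdisj
  obtain ⟨F, hF1, hF2, ω, hF4, hω⟩ := exists_F4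
  have hJ : Cfsg.Spor.IsoJ3 (Subgroup.closure ({c, f, h, s, d, w} : Set G)) :=
    ⟨F, hF1, hF2, ω, hF4, hω, Iso.iso_of_amal A hs1 hrel hF4 hω⟩
  exact Finish.finish L hcl hgen zd w2 zw hone hcard hJ

end Cfsg.Agent.J3Type.Chain
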