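import Mathlib
import Cfsg.Agent.J3Type.CharSearch

/-!
# The finite list of possible values

The possible values of an irreducible character of degree prime to the coefficient `a₄` at the roots of the
involution, and the search over triples of them.
-/

set_option autoImplicit false

namespace Cfsg.Agent.J3Type.CharBox

open Cfsg.Agent.J3Type.CharSearch

/-- entries: code of `(v4, v6, v8, v12, w, r)`, square of `v2`, residue of the degree modulo 128 -/
def tab : List (ℕ × ℕ × ℕ) := [(90908091011, 9, 109),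
  (90908101014, 144, 44),
  (90908101208, 4, 18),
  (90909080912, 4, 66),
  (90909090915, 289, 1),
  (90909091109, 49, 103),
  (90909101112, 484, 38),
  (90910081010, 144, 60),
  (90910091013, 729, 123),
  (90910091207, 289, 97),
  (91108101008, 324, 98),
  (91109090909, 529, 55),
  (100609101112, 4, 110),
  (100808090811, 121, 5),
  (100808100814, 16, 68),
  (100808101008, 36, 42),
  (100808111011, 81, 105),
  (100809090909, 1, 127),
  (100809100912, 196, 62),
  (100809101106, 16, 36),
  (100809111109, 361, 99),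
  (100810080810, 16, 84),
  (100810090813, 361, 19),
  (100810091007, 81, 121),
  (100810101010, 576, 56),
  (100810101204, 196, 30),
  (100811080908, 196, 78),
  (100811090911, 841, 13),
  (100811091105, 361, 115),
  (100811101108, 1156, 50),
  (101008090805, 25, 59),
  (101008091211, 25, 85),
  (101008100808, 100, 122),
  (101008101214, 400, 20),
  (101008110811, 625, 57),
  (101008111005, 225, 31),
  (101009081112, 100, 42),
  (101009090709, 225, 79),
  (101009090903, 25, 53),
  (101009091115, 625, 105),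
  (101009091309, 225, 79),
  (101009100712, 900, 14),
  (101009100906, 400, 116),
  (101009101312, 900, 14),
  (101009110909, 1225, 51),
  (101010081210, 400, 36),
  (101010090807, 625, 73),
  (101010101004, 900, 110),
  (101208091011, 441, 37),
  (101209091109, 961, 31),
  (110908091011, 9, 109),
  (110908101014, 144, 44),
  (110908101208, 4, 18),
  (110909080912, 4, 66),
  (110909090915, 289, 1),
  (110909091109, 49, 103),
  (110909101112, 484, 38),
  (110910081010, 144, 60),
  (110910091013, 729, 123),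
  (110910091207, 289, 97),
  (111108101008, 324, 98),
  (111109090909, 529, 55)]

/-- the integers from `-n` to `n` -/
def rng (n : ℕ) : List ℤ := List.map (fun k : ℕ => (k : ℤ) - (n : ℤ)) (List.range (2 * n + 1))

theorem abs_lt_of {v n : ℤ} (hn : 0 < n) (h : v * v < n * n) : -n < v ∧ v < n := by
  constructor <;> nlinarith

theorem mem_rng {n : ℕ} {v : ℤ} (h1 : -(n : ℤ) ≤ v) (h2 : v ≤ n) : v ∈ rng n := by
  unfold rng
  rw [List.mem_map]
  refine ⟨(v + n).toNat, ?_, ?_⟩
  · rw [List.mem_range]; omega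
  · omega

/-- the conditions on the values -/
structure Val (v2 v4 v6 v8 v12 w r : ℤ) : Prop where
  a4 : 3 * v2 = 120 + 5 * v4 + 30 * v8 + 40 * v12 + 24 * w
  c1 : (4 : ℤ) ∣ v2 - v4
  c2 : (2 : ℤ) ∣ v6 - v12
  c3 : (3 : ℤ) ∣ v2 - v6
  c7 : (2 : ℤ) ∣ r - w
  bessel : v2 * v2 + 20 * (v4 * v4) + 80 * (v6 * v6) + 240 * (v8 * v8) + 160 * (v12 * v12)
    + 96 * (w * w) + 480 * (r * r) < 1920

/-- the code of the values -/
def code (v4 v6 v8 v12 w r : ℤ) : ℤ :=
  (v4 + 10) + 100 * (v6 + 10) + 10000 * (v8 + 10) + 1000000 * (v12 + 10) + 100000000 * (w + 10)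
    + 10000000000 * (r + 10)

/-- the residue of the degree -/
def res (v2 v4 v8 : ℤ) : ℤ := (-(35 * v2 + 44 * v4 + 48 * v8)) % 128

/-- inner test -/
def inner (v2 v4 v8 v12 w : ℤ) : Bool :=
  (rng 4).all fun v6 => (rng 1).all fun r =>
    (!(decide ((v6 - v12) % 2 = 0) && (decide ((v2 - v6) % 3 = 0) && (decide ((r - w) % 2 = 0) &&
      decide (v2 * v2 + 20 * (v4 * v4) + 80 * (v6 * v6) + 240 * (v8 * v8) + 160 * (v12 * v12)
    + 96 * (w * w) + 480 * (r * r) < 1920))))) ||
      tab.any fun e => decide ((e.1 : ℤ) = code v4 v6 v8 v12 w r) &&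
        (decide ((e.2.1 : ℤ) = v2 * v2) && decide ((e.2.2 : ℤ) = res v2 v4 v8))

/-- outer test -/
def outer : Bool :=
  (rng 9).all fun v4 => (rng 2).all fun v8 => (rng 3).all fun v12 => (rng 4).all fun w =>
    !(decide ((120 + 5 * v4 + 30 * v8 + 40 * v12 + 24 * w) % 3 = 0) &&
      (decide (((120 + 5 * v4 + 30 * v8 + 40 * v12 + 24 * w) / 3 - v4) % 4 = 0) &&
        decide (((120 + 5 * v4 + 30 * v8 + 40 * v12 + 24 * w) / 3) *
          ((120 + 5 * v4 + 30 * v8 + 40 * v12 + 24 * w) / 3) + 20 * (v4 * v4) + 240 * (v8 * v8)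
            + 160 * (v12 * v12) + 96 * (w * w) < 1920))) ||
      inner ((120 + 5 * v4 + 30 * v8 + 40 * v12 + 24 * w) / 3) v4 v8 v12 w

theorem outer_eq : outer = true := by decide +kernel

theorem mem_tab {v2 v4 v6 v8 v12 w r : ℤ} (h : Val v2 v4 v6 v8 v12 w r) :
    ∃ e ∈ tab, (e.1 : ℤ) = code v4 v6 v8 v12 w r ∧ (e.2.1 : ℤ) = v2 * v2 ∧
      (e.2.2 : ℤ) = res v2 v4 v8 := by
  obtain ⟨a4, c1, c2, c3, c7, bs⟩ := h
  have p2 := mul_self_nonneg v2
  have p4 := mul_self_nonneg v4
  have p6 := mul_self_nonneg v6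
  have p8 := mul_self_nonneg v8
  have p12 := mul_self_nonneg v12
  have pw := mul_self_nonneg w
  have pr := mul_self_nonneg r
  have b4 : v4 * v4 < 10 * 10 := by omega
  have b6 : v6 * v6 < 5 * 5 := by omega
  have b8 : v8 * v8 < 3 * 3 := by omega
  have b12 : v12 * v12 < 4 * 4 := by omega
  have bw : w * w < 5 * 5 := by omega
  have br : r * r < 2 * 2 := by omega
  have a4' := abs_lt_of (by norm_num) b4
  have a6' := abs_lt_of (by norm_num) b6
  have a8' := abs_lt_of (by norm_num) b8
  have a12' := abs_lt_of (by norm_num) b12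
  have aw' := abs_lt_of (by norm_num) bw
  have ar' := abs_lt_of (by norm_num) br
  have h0 := outer_eq
  unfold outer at h0
  rw [List.all_eq_true] at h0
  have h1 := h0 v4 (mem_rng (by omega) (by omega))
  rw [List.all_eq_true] at h1
  have h2 := h1 v8 (mem_rng (by omega) (by omega))
  rw [List.all_eq_true] at h2
  have h3 := h2 v12 (mem_rng (by omega) (by omega))
  rw [List.all_eq_true] at h3
  have h4 := h3 w (mem_rng (by omega) (by omega))
  have e2 : (120 + 5 * v4 + 30 * v8 + 40 * v12 + 24 * w) / 3 = v2 := by omega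
  rw [e2] at h4
  have e3 : (decide ((120 + 5 * v4 + 30 * v8 + 40 * v12 + 24 * w) % 3 = 0)) = true := by
    rw [decide_eq_true_eq]; omega
  have e4 : (decide ((v2 - v4) % 4 = 0)) = true := by
    rw [decide_eq_true_eq]; omega
  have e5 : (decide (v2 * v2 + 20 * (v4 * v4) + 240 * (v8 * v8)
            + 160 * (v12 * v12) + 96 * (w * w) < 1920)) = true := by
    rw [decide_eq_true_eq]; omega
  rw [e3, e4, e5] at h4
  simp only [Bool.and_self, Bool.not_true, Bool.false_or] at h4
  unfold inner at h4
  rw [List.all_eq_true] at h4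
  have h5 := h4 v6 (mem_rng (by omega) (by omega))
  rw [List.all_eq_true] at h5
  have h6 := h5 r (mem_rng (by omega) (by omega))
  have e6 : (decide ((v6 - v12) % 2 = 0)) = true := by
    rw [decide_eq_true_eq]; omega
  have e7 : (decide ((v2 - v6) % 3 = 0)) = true := by
    rw [decide_eq_true_eq]; omega
  have e8 : (decide ((r - w) % 2 = 0)) = true := by
    rw [decide_eq_true_eq]; omega
  have e9 : (decide (v2 * v2 + 20 * (v4 * v4) + 80 * (v6 * v6) + 240 * (v8 * v8) + 160 * (v12 * v12)
    + 96 * (w * w) + 480 * (r * r) < 1920)) = true := by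
    rw [decide_eq_true_eq]; exact bs
  rw [e6, e7, e8, e9] at h6
  simp only [Bool.and_self, Bool.not_true, Bool.false_or, List.any_eq_true, Bool.and_eq_true,
    decide_eq_true_eq] at h6
  exact h6

end Cfsg.Agent.J3Type.CharBox
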