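import Mathlib
import Cfsg.Agent.J3Type.CharSearch
import Cfsg.Agent.J3Type.CharBox

/-!
# The search over triples: definitions
-/

set_option autoImplicit false

namespace Cfsg.Agent.J3Type.CharTriDef

open Cfsg.Agent.J3Type.CharSearch Cfsg.Agent.J3Type.CharBox

/-- the first positive number congruent to `r` modulo 128 -/
def pos (r : ℕ) : ℕ := Bool.rec r 128 (Nat.beq r 0)

/-- the test for one ordered triple of entries -/
def test (a b c ra rb : ℕ) : Bool :=
  and (goXP 29184000 15200 2000 a b c rb 60 (pos ra))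
    (goXN 29184000 15200 2000 a c b (Nat.mod (Nat.sub 128 rb) 128) 60 (pos (Nat.mod (Nat.sub 128 ra) 128)))

/-- the test for all triples starting with `e` -/
def chk (e : ℕ × ℕ × ℕ) : Bool :=
  tab.all fun f => tab.all fun g =>
    Bool.rec true (test e.2.1 f.2.1 g.2.1 e.2.2 f.2.2)
      (Nat.beq (Nat.add e.1 (Nat.add f.1 g.1)) 302827293127)

end Cfsg.Agent.J3Type.CharTriDef
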