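import Mathlib
import Cfsg.Agent.J3Type.CharTriDef

/-!
# The search over triples: part 4
-/

set_option autoImplicit false

namespace Cfsg.Agent.J3Type.CharTri4

open Cfsg.Agent.J3Type.CharBox Cfsg.Agent.J3Type.CharTriDef

theorem part1 : ((tab.drop 48).take 4).all chk = true := by decide +kernel

theorem part2 : ((tab.drop 52).take 4).all chk = true := by decide +kernel

theorem part3 : ((tab.drop 56).take 4).all chk = true := by decide +kernel

theorem part4 : ((tab.drop 60).take 4).all chk = true := by decide +kernel

end Cfsg.Agent.J3Type.CharTri4
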