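import Mathlib
import Cfsg.Agent.J3Type.CharTri1
import Cfsg.Agent.J3Type.CharTri2
import Cfsg.Agent.J3Type.CharTri3
import Cfsg.Agent.J3Type.CharTri4

/-!
# The arithmetic conclusion
-/

set_option autoImplicit false

namespace Cfsg.Agent.J3Type.CharInt

open Cfsg.Agent.J3Type.CharSearch Cfsg.Agent.J3Type.CharBox Cfsg.Agent.J3Type.CharTriDef

theorem all_chunk (k : ℕ) (h : ((tab.drop k).take 4).all chk = true) (h' : (tab.drop (k + 4)).all chk = true) :
    (tab.drop k).all chk = true := by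
  rw [← List.take_append_drop 4 (tab.drop k), List.all_append, h, List.drop_drop, h', Bool.and_self]

theorem chk_all : tab.all chk = true := by
  have h64 : (tab.drop 64).all chk = true := by
    have : tab.drop 64 = [] := by decide
    rw [this]; rfl
  have h60 := all_chunk 60 CharTri4.part4 h64
  have h56 := all_chunk 56 CharTri4.part3 h60
  have h52 := all_chunk 52 CharTri4.part2 h56
  have h48 := all_chunk 48 CharTri4.part1 h52
  have h44 := all_chunk 44 CharTri3.part4 h48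
  have h40 := all_chunk 40 CharTri3.part3 h44
  have h36 := all_chunk 36 CharTri3.part2 h40
  have h32 := all_chunk 32 CharTri3.part1 h36
  have h28 := all_chunk 28 CharTri2.part4 h32
  have h24 := all_chunk 24 CharTri2.part3 h28
  have h20 := all_chunk 20 CharTri2.part2 h24
  have h16 := all_chunk 16 CharTri2.part1 h20
  have h12 := all_chunk 12 CharTri1.part4 h16
  have h8 := all_chunk 8 CharTri1.part3 h12
  have h4 := all_chunk 4 CharTri1.part2 h8
  exact all_chunk 0 CharTri1.part1 h4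

theorem rec_true {a b c : Bool} (hc : c = true) (h : Bool.rec (motive := fun _ => Bool) a b c = true) :
    b = true := by
  subst hc
  exact h

theorem and_left {a b : Bool} (h : and a b = true) : a = true := by
  cases a
  · exact absurd (show false = true from h) Bool.false_ne_true
  · rfl

theorem and_right {a b : Bool} (h : and a b = true) : b = true := by
  cases a
  · exact absurd (show false = true from h) Bool.false_ne_true
  · exact h

theorem test_left {a b c ra rb : ℕ} (h : test a b c ra rb = true) :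
    goXP 29184000 15200 2000 a b c rb 60 (pos ra) = true := by
  unfold test at h
  exact and_left h

theorem test_right {a b c ra rb : ℕ} (h : test a b c ra rb = true) :
    goXN 29184000 15200 2000 a c b (Nat.mod (Nat.sub 128 rb) 128) 60
      (pos (Nat.mod (Nat.sub 128 ra) 128)) = true := by
  unfold test at h
  exact and_right h

theorem test_of_mem {e f g : ℕ × ℕ × ℕ} (he : e ∈ tab) (hf : f ∈ tab) (hg : g ∈ tab)
    (h : e.1 + (f.1 + g.1) = 302827293127) : test e.2.1 f.2.1 g.2.1 e.2.2 f.2.2 = true := by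
  have h0 := chk_all
  rw [List.all_eq_true] at h0
  have h1 := h0 e he
  unfold chk at h1
  rw [List.all_eq_true] at h1
  have h2 := h1 f hf
  rw [List.all_eq_true] at h2
  have h3 := h2 g hg
  have h4 : Nat.beq (Nat.add e.1 (Nat.add f.1 g.1)) 302827293127 = true := beq_of_eq h
  exact rec_true h4 h3

/-- the values of a signed character -/
structure Rec where
  v1 : ℤ
  v2 : ℤ
  v4 : ℤ
  v6 : ℤ
  v8 : ℤ
  v12 : ℤ
  w : ℤ
  r : ℤ

/-- the conditions on the values of a signed character -/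
structure Ok (j : ℕ) (s : Rec) : Prop where
  val : Val s.v2 s.v4 s.v6 s.v8 s.v12 s.w s.r
  ne : s.v1 ≠ 0
  dvd : s.v1 ∣ 1920 * (j : ℤ)
  c8 : (128 : ℤ) ∣ s.v1 + 35 * s.v2 + 44 * s.v4 + 48 * s.v8

/-- the conditions on a triple of signed characters -/
structure Trip (j : ℕ) (s t u : Rec) : Prop where
  hs : Ok j s
  ht : Ok j t
  hu : Ok j u
  s1 : s.v1 + t.v1 + u.v1 = 1
  s4 : s.v4 + t.v4 + u.v4 = -3
  s6 : s.v6 + t.v6 + u.v6 = 1
  s8 : s.v8 + t.v8 + u.v8 = -1
  s12 : s.v12 + t.v12 + u.v12 = -3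
  sw : s.w + t.w + u.w = -2
  sr : s.r + t.r + u.r = 0
  sq : s.v1 * s.v1 + t.v1 * t.v1 + u.v1 * u.v1 < 1920 * (j : ℤ)
  eq : (j : ℤ) * (s.v1 * t.v1 * u.v1 - s.v2 * s.v2 * (t.v1 * u.v1) - t.v2 * t.v2 * (s.v1 * u.v1)
    - u.v2 * u.v2 * (s.v1 * t.v1)) = 15200 * (s.v1 * t.v1 * u.v1)

theorem Trip.swap12 {j : ℕ} {s t u : Rec} (h : Trip j s t u) : Trip j t s u := by
  obtain ⟨hs, ht, hu, s1, s4, s6, s8, s12, sw, sr, sq, eq⟩ := h
  refine ⟨ht, hs, hu, by omega, by omega, by omega, by omega, by omega, by omega, by omega,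
    by linarith, ?_⟩
  linear_combination eq

theorem Trip.swap23 {j : ℕ} {s t u : Rec} (h : Trip j s t u) : Trip j s u t := by
  obtain ⟨hs, ht, hu, s1, s4, s6, s8, s12, sw, sr, sq, eq⟩ := h
  refine ⟨hs, hu, ht, by omega, by omega, by omega, by omega, by omega, by omega, by omega,
    by linarith, ?_⟩
  linear_combination eq

theorem pos_spec {r X : ℕ} (hX : 0 < X) (h : X % 128 = r) : 0 < pos r ∧ ∃ m, X = pos r + 128 * m := by
  rcases Nat.eq_zero_or_pos r with h0 | h0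
  · have h1 : pos r = 128 := by rw [h0]; rfl
    rw [h1]
    exact ⟨by norm_num, ⟨X / 128 - 1, by omega⟩⟩
  · have h1 : pos r = r := by
      unfold pos
      rw [beq_of_ne (by omega)]
    rw [h1]
    exact ⟨h0, ⟨X / 128, by omega⟩⟩

theorem nat_dvd {j X : ℕ} {x : ℤ} (hx : x = X ∨ x = -(X : ℤ)) (h : x ∣ 1920 * (j : ℤ)) :
    X ∣ 1920 * j := by
  have h1 : (X : ℤ) ∣ 1920 * (j : ℤ) := by
    rcases hx with rfl | rfl
    · exact h
    · exact (neg_dvd).1 h
  exact_mod_cast h1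

theorem pos_case {j : ℕ} {s t u : Rec} (hj : j % 128 = 51) (h : Trip j s t u) (h1 : 0 < s.v1)
    (h2 : s.v1 ≤ t.v1) (h3 : u.v1 < 0) : j = 26163 := by
  obtain ⟨hs, ht, hu, s1, s4, s6, s8, s12, sw, sr, sq, eq⟩ := h
  obtain ⟨e, he, he1, he2, he3⟩ := mem_tab hs.val
  obtain ⟨f, hf, hf1, hf2, hf3⟩ := mem_tab ht.val
  obtain ⟨g, hg, hg1, hg2, hg3⟩ := mem_tab hu.val
  have hcode : e.1 + (f.1 + g.1) = 302827293127 := by
    unfold code at he1 hf1 hg1
    omega
  have htest := test_of_mem he hf hg hcode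
  have hP := test_left htest
  clear htest
  obtain ⟨X, hX⟩ : ∃ X : ℕ, s.v1 = X := ⟨s.v1.toNat, by omega⟩
  obtain ⟨Y, hY⟩ : ∃ Y : ℕ, t.v1 = Y := ⟨t.v1.toNat, by omega⟩
  obtain ⟨Z, hZ⟩ : ∃ Z : ℕ, u.v1 = -(Z : ℤ) := ⟨(-u.v1).toNat, by omega⟩
  have cs := hs.c8
  have ct := ht.c8
  unfold res at he3 hf3 hg3
  have hXr : X % 128 = e.2.2 := by omega
  have hYr : Y % 128 = f.2.2 := by omega
  obtain ⟨hp, m, hm⟩ := pos_spec (r := e.2.2) (X := X) (by omega) hXr
  refine goXP_sound (K := 29184000) (q := 15200) (by norm_num) (by norm_num) (by omega) 60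
    (pos e.2.2) hp hP m Y Z j hYr ?_
  rw [← hm]
  refine ⟨by omega, by omega, by omega, ?_, hj, ?_, nat_dvd (Or.inl hX) hs.dvd,
    nat_dvd (Or.inl hY) ht.dvd, nat_dvd (Or.inr hZ) hu.dvd⟩
  · have : ((j * (X * Y * (Z + g.2.1)) : ℕ) : ℤ)
      = ((15200 * (X * Y * Z) + j * (Z * (f.2.1 * X + e.2.1 * Y)) : ℕ) : ℤ) := by
      push_cast
      rw [he2, hf2, hg2]
      rw [hX, hY, hZ] at eq
      linear_combination (-1 : ℤ) * eq
    exact_mod_cast this
  · have : ((X * X + (Y * Y + Z * Z) : ℕ) : ℤ) < ((1920 * j : ℕ) : ℤ) := by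
      push_cast
      rw [hX, hY, hZ] at sq
      linarith
    exact_mod_cast this

theorem neg_case {j : ℕ} {s t u : Rec} (hj : j % 128 = 51) (h : Trip j s t u) (h1 : s.v1 < 0)
    (h2 : t.v1 ≤ s.v1) (h3 : 0 < u.v1) : j = 26163 := by
  obtain ⟨hs, ht, hu, s1, s4, s6, s8, s12, sw, sr, sq, eq⟩ := h
  obtain ⟨e, he, he1, he2, he3⟩ := mem_tab hs.val
  obtain ⟨f, hf, hf1, hf2, hf3⟩ := mem_tab ht.val
  obtain ⟨g, hg, hg1, hg2, hg3⟩ := mem_tab hu.val
  have hcode : e.1 + (f.1 + g.1) = 302827293127 := by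
    unfold code at he1 hf1 hg1
    omega
  have htest := test_of_mem he hf hg hcode
  have hN := test_right htest
  clear htest
  obtain ⟨X, hX⟩ : ∃ X : ℕ, s.v1 = -(X : ℤ) := ⟨(-s.v1).toNat, by omega⟩
  obtain ⟨Y, hY⟩ : ∃ Y : ℕ, t.v1 = -(Y : ℤ) := ⟨(-t.v1).toNat, by omega⟩
  obtain ⟨Z, hZ⟩ : ∃ Z : ℕ, u.v1 = Z := ⟨u.v1.toNat, by omega⟩
  have cs := hs.c8
  have ct := ht.c8
  unfold res at he3 hf3 hg3
  have hXr : X % 128 = Nat.mod (Nat.sub 128 e.2.2) 128 := by
    show X % 128 = (128 - e.2.2) % 128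
    omega
  have hYr : Y % 128 = Nat.mod (Nat.sub 128 f.2.2) 128 := by
    show Y % 128 = (128 - f.2.2) % 128
    omega
  obtain ⟨hp, m, hm⟩ := pos_spec (r := Nat.mod (Nat.sub 128 e.2.2) 128) (X := X) (by omega) hXr
  refine goXN_sound (K := 29184000) (q := 15200) (by norm_num) (by norm_num)
    (Nat.mod_lt _ (by norm_num)) 60
    (pos (Nat.mod (Nat.sub 128 e.2.2) 128)) hp hN m Y Z j hYr ?_
  rw [← hm]
  refine ⟨by omega, by omega, by omega, ?_, hj, ?_, nat_dvd (Or.inr hX) hs.dvd,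
    nat_dvd (Or.inr hY) ht.dvd, nat_dvd (Or.inl hZ) hu.dvd⟩
  · have : ((j * (X * Y * Z + Z * (e.2.1 * Y + f.2.1 * X)) : ℕ) : ℤ)
      = ((15200 * (X * Y * Z) + j * (g.2.1 * (X * Y)) : ℕ) : ℤ) := by
      push_cast
      rw [he2, hf2, hg2]
      rw [hX, hY, hZ] at eq
      linear_combination eq
    exact_mod_cast this
  · have : ((X * X + (Y * Y + Z * Z) : ℕ) : ℤ) < ((1920 * j : ℕ) : ℤ) := by
      push_cast
      rw [hX, hY, hZ] at sq
      linarith
    exact_mod_cast this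

theorem pos_case' {j : ℕ} {s t u : Rec} (hj : j % 128 = 51) (h : Trip j s t u) (h1 : 0 < s.v1)
    (h2 : 0 < t.v1) (h3 : u.v1 < 0) : j = 26163 := by
  rcases le_total s.v1 t.v1 with h4 | h4
  · exact pos_case hj h h1 h4 h3
  · exact pos_case hj h.swap12 h2 h4 h3

theorem neg_case' {j : ℕ} {s t u : Rec} (hj : j % 128 = 51) (h : Trip j s t u) (h1 : s.v1 < 0)
    (h2 : t.v1 < 0) (h3 : 0 < u.v1) : j = 26163 := by
  rcases le_total t.v1 s.v1 with h4 | h4
  · exact neg_case hj h h1 h4 h3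
  · exact neg_case hj h.swap12 h2 h4 h3

/-- The arithmetic conclusion. -/
theorem final {j : ℕ} {s t u : Rec} (hj : j % 128 = 51) (h : Trip j s t u) : j = 26163 := by
  have h1 := h.s1
  rcases lt_or_gt_of_ne h.hs.ne with hs | hs <;> rcases lt_or_gt_of_ne h.ht.ne with ht | ht <;>
    rcases lt_or_gt_of_ne h.hu.ne with hu | hu
  · omega
  · exact neg_case' hj h hs ht hu
  · exact neg_case' hj h.swap23 hs hu ht
  · exact pos_case' hj h.swap12.swap23 ht hu hs
  · exact neg_case' hj h.swap12.swap23 ht hu hs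
  · exact pos_case' hj h.swap23 hs hu ht
  · exact pos_case' hj h hs ht hu
  · omega

end Cfsg.Agent.J3Type.CharInt
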