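import Mathlib
import Cfsg.Agent.J3Type.CharInt

/-!
# From the columns of the character table to the order

Pure combinatorics: integral columns with the orthogonality relations, congruences and one class
algebra relation determine the order.
-/

set_option autoImplicit false

namespace Cfsg.Agent.J3Type.CharComb

open Cfsg.Agent.J3Type.CharInt Cfsg.Agent.J3Type.CharBox

/-- the norms of the columns -/
def dd (j : ℕ) : Fin 8 → ℤ := ![1920 * (j : ℤ), 1920, 96, 24, 8, 12, 20, 4]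

/-- the values of the trivial character -/
def ee : Fin 8 → ℤ := ![1, 1, 1, 1, 1, 1, 2, 0]

/-- Bessel's inequality at one coordinate. -/
theorem bessel {ι : Type*} [Fintype ι] [DecidableEq ι] {n : ℕ} (col : Fin n → ι → ℤ) (d : Fin n → ℤ)
    (hd : ∀ a, 0 < d a) (horth : ∀ a b, ∑ χ, col a χ * col b χ = if a = b then d a else 0) (χ₀ : ι) :
    ∑ a, ((col a χ₀ : ℤ) : ℚ) ^ 2 / (d a : ℚ) ≤ 1 := by
  set B : ℚ := ∑ a, ((col a χ₀ : ℤ) : ℚ) ^ 2 / (d a : ℚ) with hB
  set u : ι → ℚ := fun χ => ∑ a, ((col a χ₀ : ℤ) : ℚ) / (d a : ℚ) * ((col a χ : ℤ) : ℚ) with hu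
  have h1 : u χ₀ = B := by
    rw [hu, hB]
    refine Finset.sum_congr rfl fun a _ => ?_
    ring
  have h2 : ∑ χ, u χ ^ 2 = B := by
    have h3 : ∀ χ, u χ ^ 2 = ∑ a, ∑ b, ((col a χ₀ : ℤ) : ℚ) / (d a : ℚ) *
        (((col b χ₀ : ℤ) : ℚ) / (d b : ℚ)) * (((col a χ : ℤ) : ℚ) * ((col b χ : ℤ) : ℚ)) := by
      intro χ
      rw [hu, sq, Finset.sum_mul_sum]
      refine Finset.sum_congr rfl fun a _ => Finset.sum_congr rfl fun b _ => ?_
      ring
    rw [Finset.sum_congr rfl fun χ _ => h3 χ, Finset.sum_comm, hB]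
    refine Finset.sum_congr rfl fun a _ => ?_
    rw [Finset.sum_comm]
    have h4 : ∀ b, ∑ χ, ((col a χ₀ : ℤ) : ℚ) / (d a : ℚ) *
        (((col b χ₀ : ℤ) : ℚ) / (d b : ℚ)) * (((col a χ : ℤ) : ℚ) * ((col b χ : ℤ) : ℚ))
        = if a = b then ((col a χ₀ : ℤ) : ℚ) ^ 2 / (d a : ℚ) else 0 := by
      intro b
      rw [← Finset.mul_sum]
      have h5 : ∑ χ, ((col a χ : ℤ) : ℚ) * ((col b χ : ℤ) : ℚ)
          = ((if a = b then d a else 0 : ℤ) : ℚ) := by
        rw [← horth a b]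
        push_cast
        rfl
      rw [h5]
      by_cases hab : a = b
      · subst hab
        rw [if_pos rfl, if_pos rfl]
        have : (d a : ℚ) ≠ 0 := by
          have := hd a
          positivity
        field_simp
      · rw [if_neg hab, if_neg hab]
        simp
    rw [Finset.sum_congr rfl fun b _ => h4 b]
    simp
  have h3 : u χ₀ ^ 2 ≤ ∑ χ, u χ ^ 2 :=
    Finset.single_le_sum (f := fun χ => u χ ^ 2) (fun χ _ => sq_nonneg _) (Finset.mem_univ χ₀)
  rw [h1, h2] at h3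
  by_contra hcon
  push Not at hcon
  nlinarith

variable {ι : Type*} [Fintype ι] [DecidableEq ι] {j : ℕ} {col : Fin 8 → ι → ℤ}

/-- all hypotheses on the columns -/
structure Cols (j : ℕ) (col : Fin 8 → ι → ℤ) (e : ι) : Prop where
  hj : j % 128 = 51
  horth : ∀ a b, ∑ χ, col a χ * col b χ = if a = b then dd j a else 0
  he : ∀ a, col a e = ee a
  hpos : ∀ χ, 0 < col 0 χ
  hdvd : ∀ χ, col 0 χ ∣ 1920 * (j : ℤ)
  c1 : ∀ χ, (4 : ℤ) ∣ col 1 χ - col 2 χ
  c2 : ∀ χ, (2 : ℤ) ∣ col 3 χ - col 5 χ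
  c3 : ∀ χ, (3 : ℤ) ∣ col 1 χ - col 3 χ
  c4 : ∀ χ, (8 : ℤ) ∣ col 1 χ + col 2 χ - 2 * col 4 χ
  c5 : ∀ χ, (3 : ℤ) ∣ col 2 χ - col 5 χ
  c6 : ∀ χ, (5 : ℤ) ∣ col 1 χ + 2 * col 6 χ
  c7 : ∀ χ, (2 : ℤ) ∣ col 7 χ - col 6 χ
  c8 : ∀ χ, (128 : ℤ) ∣ col 0 χ + 35 * col 1 χ + 44 * col 2 χ + 48 * col 4 χ
  hcl : ∑ χ, ((3 * col 1 χ - 5 * col 2 χ - 30 * col 4 χ - 40 * col 5 χ - 24 * col 6 χ : ℤ) : ℚ) / 120 *
    ((col 1 χ : ℤ) : ℚ) ^ 2 / ((col 0 χ : ℤ) : ℚ) = -15200 / (j : ℚ)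

theorem Cols.dd_pos {e : ι} (h : Cols j col e) : ∀ a, 0 < dd j a := by
  have hj := h.hj
  intro a
  fin_cases a <;> simp [dd]
  omega

theorem Cols.exists_A {e : ι} (h : Cols j col e) (χ : ι) : ∃ A : ℤ, 120 * A =
    3 * col 1 χ - 5 * col 2 χ - 30 * col 4 χ - 40 * col 5 χ - 24 * col 6 χ := by
  have c4 := h.c4 χ
  have c5 := h.c5 χ
  have c6 := h.c6 χ
  have : (120 : ℤ) ∣ 3 * col 1 χ - 5 * col 2 χ - 30 * col 4 χ - 40 * col 5 χ - 24 * col 6 χ := by
    omega
  obtain ⟨A, hA⟩ := this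
  exact ⟨A, hA.symm⟩

theorem Cols.bessel' {e : ι} (h : Cols j col e) (χ : ι) :
    col 1 χ * col 1 χ + 20 * (col 2 χ * col 2 χ) + 80 * (col 3 χ * col 3 χ) + 240 * (col 4 χ * col 4 χ)
      + 160 * (col 5 χ * col 5 χ) + 96 * (col 6 χ * col 6 χ) + 480 * (col 7 χ * col 7 χ) < 1920 := by
  have h1 := bessel col (dd j) h.dd_pos h.horth χ
  rw [Fin.sum_univ_eight] at h1
  have e0 : dd j 0 = 1920 * (j : ℤ) := rfl
  have e1 : dd j 1 = 1920 := rfl
  have e2 : dd j 2 = 96 := rfl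
  have e3 : dd j 3 = 24 := rfl
  have e4 : dd j 4 = 8 := rfl
  have e5 : dd j 5 = 12 := rfl
  have e6 : dd j 6 = 20 := rfl
  have e7 : dd j 7 = 4 := rfl
  rw [e0, e1, e2, e3, e4, e5, e6, e7] at h1
  have h2 : 0 < ((col 0 χ : ℤ) : ℚ) ^ 2 / ((1920 * (j : ℤ) : ℤ) : ℚ) := by
    have h3 := h.hpos χ
    have h4 := h.hj
    have h5 : 0 < (1920 * (j : ℤ) : ℤ) := by omega
    have h6 : (0 : ℚ) < ((col 0 χ : ℤ) : ℚ) := by exact_mod_cast h3
    have h7 : (0 : ℚ) < ((1920 * (j : ℤ) : ℤ) : ℚ) := by exact_mod_cast h5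
    positivity
  have h3 : (((col 1 χ * col 1 χ + 20 * (col 2 χ * col 2 χ) + 80 * (col 3 χ * col 3 χ)
      + 240 * (col 4 χ * col 4 χ)
      + 160 * (col 5 χ * col 5 χ) + 96 * (col 6 χ * col 6 χ) + 480 * (col 7 χ * col 7 χ) : ℤ) : ℚ)
      < ((1920 : ℤ) : ℚ)) := by
    push_cast at h1 h2 ⊢
    linarith
  exact_mod_cast h3

theorem sum_four {F : Finset ι} {e s t u : ι} (hF : F.erase e = {s, t, u}) (heF : e ∈ F)
    (hst : s ≠ t) (hsu : s ≠ u) (htu : t ≠ u) {M : Type*} [AddCommGroup M] (g : ι → M)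
    (hg : ∀ χ, χ ∉ F → g χ = 0) : ∑ χ, g χ = g e + (g s + (g t + g u)) := by
  rw [← Finset.sum_subset (Finset.subset_univ F) (fun χ _ hχ => hg χ hχ),
    ← Finset.add_sum_erase F g heF, hF, Finset.sum_insert (by simp [hst, hsu]),
    Finset.sum_insert (by simp [htu]), Finset.sum_singleton]

theorem Cols.order {e : ι} (h : Cols j col e) : j = 26163 := by
  choose A hA using h.exists_A
  have hj := h.hj
  have hjpos : 0 < j := by omega
  -- orthogonality
  have o := h.horth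
  have e0 : dd j 0 = 1920 * (j : ℤ) := rfl
  have e1 : dd j 1 = 1920 := rfl
  have e2 : dd j 2 = 96 := rfl
  have e3 : dd j 3 = 24 := rfl
  have e4 : dd j 4 = 8 := rfl
  have e5 : dd j 5 = 12 := rfl
  have e6 : dd j 6 = 20 := rfl
  have e7 : dd j 7 = 4 := rfl
  -- sums with A
  have key : ∀ g : ι → ℤ, 120 * ∑ χ, A χ * g χ = 3 * ∑ χ, col 1 χ * g χ - 5 * ∑ χ, col 2 χ * g χ
      - 30 * ∑ χ, col 4 χ * g χ - 40 * ∑ χ, col 5 χ * g χ - 24 * ∑ χ, col 6 χ * g χ := by
    intro g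
    simp only [Finset.mul_sum]
    rw [← Finset.sum_sub_distrib, ← Finset.sum_sub_distrib, ← Finset.sum_sub_distrib,
      ← Finset.sum_sub_distrib]
    refine Finset.sum_congr rfl fun χ _ => ?_
    linear_combination (g χ) * hA χ
  have s0 : ∑ χ, A χ * col 0 χ = 0 := by
    have := key (col 0)
    rw [o 1 0, o 2 0, o 4 0, o 5 0, o 6 0] at this
    simpa using this
  have s1 : ∑ χ, A χ * col 1 χ = 48 := by
    have := key (col 1)
    rw [o 1 1, o 2 1, o 4 1, o 5 1, o 6 1, e1] at this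
    simp at this
    omega
  have s2 : ∑ χ, A χ * col 2 χ = -4 := by
    have := key (col 2)
    rw [o 1 2, o 2 2, o 4 2, o 5 2, o 6 2, e2] at this
    simp at this
    omega
  have s3 : ∑ χ, A χ * col 3 χ = 0 := by
    have := key (col 3)
    rw [o 1 3, o 2 3, o 4 3, o 5 3, o 6 3] at this
    simpa using this
  have s4 : ∑ χ, A χ * col 4 χ = -2 := by
    have := key (col 4)
    rw [o 1 4, o 2 4, o 4 4, o 5 4, o 6 4, e4] at this
    simp at this
    omega
  have s5 : ∑ χ, A χ * col 5 χ = -4 := by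
    have := key (col 5)
    rw [o 1 5, o 2 5, o 4 5, o 5 5, o 6 5, e5] at this
    simp at this
    omega
  have s6 : ∑ χ, A χ * col 6 χ = -4 := by
    have := key (col 6)
    rw [o 1 6, o 2 6, o 4 6, o 5 6, o 6 6, e6] at this
    simp at this
    omega
  have s7 : ∑ χ, A χ * col 7 χ = 0 := by
    have := key (col 7)
    rw [o 1 7, o 2 7, o 4 7, o 5 7, o 6 7] at this
    simpa using this
  have sA : ∑ χ, A χ * A χ = 4 := by
    have h1 := key A
    have h2 : ∀ a, ∑ χ, col a χ * A χ = ∑ χ, A χ * col a χ := fun a =>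
      Finset.sum_congr rfl fun χ _ => mul_comm _ _
    rw [h2, h2, h2, h2, h2, s1, s2, s4, s5, s6] at h1
    omega
  have hAe : A e = -1 := by
    have h1 := hA e
    rw [h.he 1, h.he 2, h.he 4, h.he 5, h.he 6] at h1
    have f1 : ee 1 = 1 := rfl
    have f2 : ee 2 = 1 := rfl
    have f4 : ee 4 = 1 := rfl
    have f5 : ee 5 = 1 := rfl
    have f6 : ee 6 = 2 := rfl
    rw [f1, f2, f4, f5, f6] at h1
    omega
  set F : Finset ι := Finset.univ.filter (fun χ => A χ ≠ 0) with hF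
  have heF : e ∈ F := by
    rw [hF, Finset.mem_filter]
    exact ⟨Finset.mem_univ _, by rw [hAe]; norm_num⟩
  have hsum : ∑ χ ∈ F, A χ * A χ = 4 := by
    rw [← sA]
    refine Finset.sum_subset (Finset.subset_univ F) ?_
    intro χ _ hχ
    have : A χ = 0 := by
      by_contra hne
      exact hχ (by rw [hF, Finset.mem_filter]; exact ⟨Finset.mem_univ _, hne⟩)
    rw [this]; rfl
  have hsum' : ∑ χ ∈ F.erase e, A χ * A χ = 3 := by
    have h1 := Finset.add_sum_erase F (fun χ => A χ * A χ) heF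
    rw [hsum] at h1
    simp only [hAe] at h1
    omega
  have hone : ∀ χ ∈ F.erase e, A χ * A χ = 1 := by
    intro χ hχ
    have h1 : A χ ≠ 0 := by
      have := (Finset.mem_erase.1 hχ).2
      rw [hF, Finset.mem_filter] at this
      exact this.2
    have h2 : A χ * A χ ≤ 3 := by
      rw [← hsum']
      exact Finset.single_le_sum (f := fun χ => A χ * A χ) (fun i _ => mul_self_nonneg _) hχ
    have h3 : A χ < 2 := by nlinarith
    have h4 : -2 < A χ := by nlinarith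
    have h5 : A χ = 1 ∨ A χ = -1 := by omega
    rcases h5 with h5 | h5 <;> rw [h5] <;> norm_num
  have hcard : (F.erase e).card = 3 := by
    have h1 : ∑ χ ∈ F.erase e, A χ * A χ = ∑ χ ∈ F.erase e, (1 : ℤ) := Finset.sum_congr rfl hone
    rw [hsum'] at h1
    rw [Finset.sum_const, nsmul_eq_mul, mul_one] at h1
    exact_mod_cast h1.symm
  obtain ⟨s, t, u, hst, hsu, htu, hFe⟩ := Finset.card_eq_three.1 hcard
  have hs1 : A s * A s = 1 := hone s (by rw [hFe]; simp)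
  have ht1 : A t * A t = 1 := hone t (by rw [hFe]; simp)
  have hu1 : A u * A u = 1 := hone u (by rw [hFe]; simp)
  have hes : e ≠ s := by
    have : s ∈ F.erase e := by rw [hFe]; simp
    exact (Finset.mem_erase.1 this).1.symm
  have het : e ≠ t := by
    have : t ∈ F.erase e := by rw [hFe]; simp
    exact (Finset.mem_erase.1 this).1.symm
  have heu : e ≠ u := by
    have : u ∈ F.erase e := by rw [hFe]; simp
    exact (Finset.mem_erase.1 this).1.symm
  have hoff : ∀ χ, χ ∉ F → A χ = 0 := by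
    intro χ hχ
    by_contra hne
    exact hχ (by rw [hF, Finset.mem_filter]; exact ⟨Finset.mem_univ _, hne⟩)
  have four : ∀ g : ι → ℤ, ∑ χ, A χ * g χ = -g e + (A s * g s + (A t * g t + A u * g u)) := by
    intro g
    rw [sum_four hFe heF hst hsu htu (fun χ => A χ * g χ) (fun χ hχ => by rw [hoff χ hχ, zero_mul]), hAe]
    ring
  -- the records
  let R : ι → Rec := fun χ => ⟨A χ * col 0 χ, A χ * col 1 χ, A χ * col 2 χ, A χ * col 3 χ,
    A χ * col 4 χ, A χ * col 5 χ, A χ * col 6 χ, A χ * col 7 χ⟩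
  have hok : ∀ χ, A χ * A χ = 1 → Ok j (R χ) := by
    intro χ hχ
    refine ⟨⟨?_, ?_, ?_, ?_, ?_, ?_⟩, ?_, ?_, ?_⟩
    · show 3 * (A χ * col 1 χ) = 120 + 5 * (A χ * col 2 χ) + 30 * (A χ * col 4 χ)
        + 40 * (A χ * col 5 χ) + 24 * (A χ * col 6 χ)
      linear_combination (-A χ) * hA χ + 120 * hχ
    · show (4 : ℤ) ∣ A χ * col 1 χ - A χ * col 2 χ
      rw [← mul_sub]
      exact Dvd.dvd.mul_left (h.c1 χ) _
    · show (2 : ℤ) ∣ A χ * col 3 χ - A χ * col 5 χ
      rw [← mul_sub]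
      exact Dvd.dvd.mul_left (h.c2 χ) _
    · show (3 : ℤ) ∣ A χ * col 1 χ - A χ * col 3 χ
      rw [← mul_sub]
      exact Dvd.dvd.mul_left (h.c3 χ) _
    · show (2 : ℤ) ∣ A χ * col 7 χ - A χ * col 6 χ
      rw [← mul_sub]
      exact Dvd.dvd.mul_left (h.c7 χ) _
    · show (A χ * col 1 χ) * (A χ * col 1 χ) + 20 * ((A χ * col 2 χ) * (A χ * col 2 χ))
        + 80 * ((A χ * col 3 χ) * (A χ * col 3 χ)) + 240 * ((A χ * col 4 χ) * (A χ * col 4 χ))
        + 160 * ((A χ * col 5 χ) * (A χ * col 5 χ)) + 96 * ((A χ * col 6 χ) * (A χ * col 6 χ))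
        + 480 * ((A χ * col 7 χ) * (A χ * col 7 χ)) < 1920
      have hb := h.bessel' χ
      have hsq : ∀ y : ℤ, (A χ * y) * (A χ * y) = y * y := by
        intro y
        linear_combination (y * y) * hχ
      rw [hsq, hsq, hsq, hsq, hsq, hsq, hsq]
      exact hb
    · show A χ * col 0 χ ≠ 0
      have h1 := h.hpos χ
      have h2 : A χ ≠ 0 := by
        intro h0; rw [h0] at hχ; norm_num at hχ
      exact mul_ne_zero h2 (by omega)
    · show A χ * col 0 χ ∣ 1920 * (j : ℤ)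
      obtain ⟨k, hk⟩ := h.hdvd χ
      refine ⟨A χ * k, ?_⟩
      rw [hk]
      linear_combination (-(col 0 χ * k)) * hχ
    · show (128 : ℤ) ∣ A χ * col 0 χ + 35 * (A χ * col 1 χ) + 44 * (A χ * col 2 χ)
        + 48 * (A χ * col 4 χ)
      have : A χ * col 0 χ + 35 * (A χ * col 1 χ) + 44 * (A χ * col 2 χ) + 48 * (A χ * col 4 χ)
        = A χ * (col 0 χ + 35 * col 1 χ + 44 * col 2 χ + 48 * col 4 χ) := by ring
      rw [this]
      exact Dvd.dvd.mul_left (h.c8 χ) _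
  have g0 : ee 0 = 1 := rfl
  have g2 : ee 2 = 1 := rfl
  have g3 : ee 3 = 1 := rfl
  have g4 : ee 4 = 1 := rfl
  have g5 : ee 5 = 1 := rfl
  have g6 : ee 6 = 2 := rfl
  have g7 : ee 7 = 0 := rfl
  refine final hj (s := R s) (t := R t) (u := R u) ⟨hok s hs1, hok t ht1, hok u hu1, ?_, ?_, ?_, ?_, ?_,
    ?_, ?_, ?_, ?_⟩
  · show A s * col 0 s + A t * col 0 t + A u * col 0 u = 1
    have := four (col 0)
    rw [s0, h.he 0, g0] at this
    omega
  · show A s * col 2 s + A t * col 2 t + A u * col 2 u = -3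
    have := four (col 2)
    rw [s2, h.he 2, g2] at this
    omega
  · show A s * col 3 s + A t * col 3 t + A u * col 3 u = 1
    have := four (col 3)
    rw [s3, h.he 3, g3] at this
    omega
  · show A s * col 4 s + A t * col 4 t + A u * col 4 u = -1
    have := four (col 4)
    rw [s4, h.he 4, g4] at this
    omega
  · show A s * col 5 s + A t * col 5 t + A u * col 5 u = -3
    have := four (col 5)
    rw [s5, h.he 5, g5] at this
    omega
  · show A s * col 6 s + A t * col 6 t + A u * col 6 u = -2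
    have := four (col 6)
    rw [s6, h.he 6, g6] at this
    omega
  · show A s * col 7 s + A t * col 7 t + A u * col 7 u = 0
    have := four (col 7)
    rw [s7, h.he 7, g7] at this
    omega
  · show (A s * col 0 s) * (A s * col 0 s) + (A t * col 0 t) * (A t * col 0 t)
      + (A u * col 0 u) * (A u * col 0 u) < 1920 * (j : ℤ)
    have h1 := o 0 0
    rw [if_pos rfl, e0] at h1
    have h2 : ({e, s, t, u} : Finset ι) ⊆ Finset.univ := Finset.subset_univ _
    have h3 := Finset.sum_le_sum_of_subset_of_nonneg (f := fun χ => col 0 χ * col 0 χ) h2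
      (fun i _ _ => mul_self_nonneg _)
    rw [h1, Finset.sum_insert (by simp [hes, het, heu]), Finset.sum_insert (by simp [hst, hsu]),
      Finset.sum_insert (by simp [htu]), Finset.sum_singleton, h.he 0, g0] at h3
    have q1 : (A s * col 0 s) * (A s * col 0 s) = col 0 s * col 0 s := by
      linear_combination (col 0 s * col 0 s) * hs1
    have q2 : (A t * col 0 t) * (A t * col 0 t) = col 0 t * col 0 t := by
      linear_combination (col 0 t * col 0 t) * ht1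
    have q3 : (A u * col 0 u) * (A u * col 0 u) = col 0 u * col 0 u := by
      linear_combination (col 0 u * col 0 u) * hu1
    rw [q1, q2, q3]
    omega
  · show (j : ℤ) * ((A s * col 0 s) * (A t * col 0 t) * (A u * col 0 u)
      - (A s * col 1 s) * (A s * col 1 s) * ((A t * col 0 t) * (A u * col 0 u))
      - (A t * col 1 t) * (A t * col 1 t) * ((A s * col 0 s) * (A u * col 0 u))
      - (A u * col 1 u) * (A u * col 1 u) * ((A s * col 0 s) * (A t * col 0 t)))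
      = 15200 * ((A s * col 0 s) * (A t * col 0 t) * (A u * col 0 u))
    have h1 := h.hcl
    have h2 : ∀ χ, ((3 * col 1 χ - 5 * col 2 χ - 30 * col 4 χ - 40 * col 5 χ - 24 * col 6 χ : ℤ) : ℚ)
        / 120 * ((col 1 χ : ℤ) : ℚ) ^ 2 / ((col 0 χ : ℤ) : ℚ)
        = (A χ : ℚ) * ((col 1 χ : ℤ) : ℚ) ^ 2 / ((col 0 χ : ℤ) : ℚ) := by
      intro χ
      rw [← hA χ]
      push_cast
      ring
    rw [Finset.sum_congr rfl fun χ _ => h2 χ] at h1
    rw [sum_four hFe heF hst hsu htu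
      (fun χ => (A χ : ℚ) * ((col 1 χ : ℤ) : ℚ) ^ 2 / ((col 0 χ : ℤ) : ℚ))
      (fun χ hχ => by rw [hoff χ hχ]; simp)] at h1
    have f1 : ee 1 = 1 := rfl
    rw [hAe, h.he 0, h.he 1, f1, g0] at h1
    have p0 := h.hpos s
    have p1 := h.hpos t
    have p2 := h.hpos u
    have r0 : (0 : ℚ) < ((col 0 s : ℤ) : ℚ) := by exact_mod_cast p0
    have r1 : (0 : ℚ) < ((col 0 t : ℤ) : ℚ) := by exact_mod_cast p1
    have r2 : (0 : ℚ) < ((col 0 u : ℤ) : ℚ) := by exact_mod_cast p2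
    have rj : (0 : ℚ) < (j : ℚ) := by exact_mod_cast hjpos
    have qs : (A s : ℚ) * A s = 1 := by exact_mod_cast hs1
    have qt : (A t : ℚ) * A t = 1 := by exact_mod_cast ht1
    have qu : (A u : ℚ) * A u = 1 := by exact_mod_cast hu1
    have : (((j : ℤ) * ((A s * col 0 s) * (A t * col 0 t) * (A u * col 0 u)
      - (A s * col 1 s) * (A s * col 1 s) * ((A t * col 0 t) * (A u * col 0 u))
      - (A t * col 1 t) * (A t * col 1 t) * ((A s * col 0 s) * (A u * col 0 u))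
      - (A u * col 1 u) * (A u * col 1 u) * ((A s * col 0 s) * (A t * col 0 t))) : ℤ) : ℚ)
      = ((15200 * ((A s * col 0 s) * (A t * col 0 t) * (A u * col 0 u)) : ℤ) : ℚ) := by
      push_cast
      push_cast at h1
      have h3 : (1 : ℚ) - (A s : ℚ) * (col 1 s : ℚ) ^ 2 / (col 0 s : ℚ)
          - (A t : ℚ) * (col 1 t : ℚ) ^ 2 / (col 0 t : ℚ)
          - (A u : ℚ) * (col 1 u : ℚ) ^ 2 / (col 0 u : ℚ) = 15200 / (j : ℚ) := by
        linear_combination (-1 : ℚ) * h1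
      have h4 : (j : ℚ) * ((col 0 s : ℚ) * (col 0 t : ℚ) * (col 0 u : ℚ)
          - (A s : ℚ) * (col 1 s : ℚ) ^ 2 * ((col 0 t : ℚ) * (col 0 u : ℚ))
          - (A t : ℚ) * (col 1 t : ℚ) ^ 2 * ((col 0 s : ℚ) * (col 0 u : ℚ))
          - (A u : ℚ) * (col 1 u : ℚ) ^ 2 * ((col 0 s : ℚ) * (col 0 t : ℚ)))
          = 15200 * ((col 0 s : ℚ) * (col 0 t : ℚ) * (col 0 u : ℚ)) := by
        have h5 : (j : ℚ) * ((col 0 s : ℚ) * (col 0 t : ℚ) * (col 0 u : ℚ)
          - (A s : ℚ) * (col 1 s : ℚ) ^ 2 * ((col 0 t : ℚ) * (col 0 u : ℚ))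
          - (A t : ℚ) * (col 1 t : ℚ) ^ 2 * ((col 0 s : ℚ) * (col 0 u : ℚ))
          - (A u : ℚ) * (col 1 u : ℚ) ^ 2 * ((col 0 s : ℚ) * (col 0 t : ℚ)))
          = (j : ℚ) * ((col 0 s : ℚ) * (col 0 t : ℚ) * (col 0 u : ℚ)) *
            (1 - (A s : ℚ) * (col 1 s : ℚ) ^ 2 / (col 0 s : ℚ)
          - (A t : ℚ) * (col 1 t : ℚ) ^ 2 / (col 0 t : ℚ)
          - (A u : ℚ) * (col 1 u : ℚ) ^ 2 / (col 0 u : ℚ)) := by
          field_simp
        rw [h5, h3]
        field_simp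
      linear_combination ((A s : ℚ) * A t * A u) * h4
        + ((j : ℚ) * (A t : ℚ) * A u * (col 1 s : ℚ) ^ 2 * ((col 0 t : ℚ) * (col 0 u : ℚ))) * 0
    exact_mod_cast this

end Cfsg.Agent.J3Type.CharComb
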