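import Mathlib
import Cfsg.Prelude.Def_Characters
import Cfsg.Agent.Characters.Core
import Cfsg.Agent.Characters.GaloisBasic

/-!
# Tools for character values

Integrality and congruences of the values of a character.
-/

set_option autoImplicit false

namespace Cfsg.Agent.J3Type.CharTools

open scoped ComplexConjugate

universe u

theorem isIntegral_nat (n : ℕ) : IsIntegral ℤ (n : ℂ) := by
  have := isIntegral_algebraMap (R := ℤ) (A := ℂ) (x := (n : ℤ))
  simpa using this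

theorem isIntegral_int (n : ℤ) : IsIntegral ℤ (n : ℂ) := by
  have := isIntegral_algebraMap (R := ℤ) (A := ℂ) (x := n)
  simpa using this

/-- `(∑ μ) ^ p ≡ ∑ μ ^ p` modulo `p`, with integral difference. -/
theorem sum_pow_prime {ι : Type*} (s : Finset ι) (μ : ι → ℂ) (hμ : ∀ i, IsIntegral ℤ (μ i)) {p : ℕ}
    (hp : p.Prime) : ∃ β : ℂ, IsIntegral ℤ β ∧ (∑ i ∈ s, μ i) ^ p = ∑ i ∈ s, μ i ^ p + p * β := by
  classical
  induction s using Finset.induction_on with
  | empty => exact ⟨0, isIntegral_zero, by simp [hp.ne_zero]⟩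
  | insert a s ha ih =>
    obtain ⟨β, hβ, e⟩ := ih
    have hS : IsIntegral ℤ (∑ i ∈ s, μ i) := IsIntegral.sum _ fun i _ => hμ i
    rw [Finset.sum_insert ha, Finset.sum_insert ha, add_pow_prime_eq hp, e]
    refine ⟨β + μ a * (∑ i ∈ s, μ i) * ∑ k ∈ Finset.Ioo 0 p,
      μ a ^ (k - 1) * (∑ i ∈ s, μ i) ^ (p - k - 1) * ((p.choose k / p : ℕ) : ℂ), ?_, ?_⟩
    · refine hβ.add (((hμ a).mul hS).mul (IsIntegral.sum _ fun k _ => ?_))
      exact (((hμ a).pow _).mul (hS.pow _)).mul (isIntegral_nat _)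
    · ring

/-- an integral rational multiple gives divisibility -/
theorem dvd_of_integral {p : ℕ} (hp : p ≠ 0) {m : ℤ} {z : ℂ} (hz : IsIntegral ℤ z)
    (h : (m : ℂ) = p * z) : (p : ℤ) ∣ m := by
  have hp' : (p : ℂ) ≠ 0 := Nat.cast_ne_zero.2 hp
  have h1 : z = ((m / p : ℚ) : ℂ) := by
    push_cast
    rw [eq_div_iff hp', mul_comm]
    exact h.symm
  obtain ⟨k, hk⟩ := Characters.GaloisBasic.exists_int_of_isIntegral hz ⟨_, h1⟩
  refine ⟨k, ?_⟩
  rw [hk] at h
  exact_mod_cast h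

variable {G : Type u} [Group G] [Finite G]

/-- values at an element and at its `p`-th power -/
theorem pow_congr {χ : G → ℂ} (hχ : IsCharacter G χ) (g : G) {p : ℕ} (hp : p.Prime) :
    ∃ β : ℂ, IsIntegral ℤ β ∧ χ g ^ p = χ (g ^ p) + p * β := by
  obtain ⟨d, μ, -, h1, h2⟩ := Characters.GaloisBasic.isCharacter_exists_fin_pow hχ g (orderOf_pos g).ne'
    (pow_orderOf_eq_one g)
  have hμ : ∀ i, IsIntegral ℤ (μ i) := by
    intro i
    refine IsIntegral.of_pow (orderOf_pos g) ?_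
    rw [h1 i]
    exact isIntegral_one
  obtain ⟨β, hβ, e⟩ := sum_pow_prime Finset.univ μ hμ hp
  refine ⟨β, hβ, ?_⟩
  have h3 := h2 1
  rw [pow_one] at h3
  simp only [pow_one] at h3
  rw [h3, h2 p, e]

theorem int_pow_congr (a : ℤ) {p : ℕ} (hp : p.Prime) : (p : ℤ) ∣ a ^ p - a := by
  have := Fact.mk hp
  have h : ((a ^ p - a : ℤ) : ZMod p) = 0 := by
    push_cast
    rw [ZMod.pow_card, sub_self]
  exact (ZMod.intCast_zmod_eq_zero_iff_dvd _ _).1 h

/-- `χ g ≡ χ (g ^ p)` modulo `p` for integral values. -/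
theorem int_congr {χ : G → ℂ} (hχ : IsCharacter G χ) (g : G) {p : ℕ} (hp : p.Prime) {a b : ℤ}
    (ha : χ g = a) (hb : χ (g ^ p) = b) : (p : ℤ) ∣ a - b := by
  obtain ⟨β, hβ, e⟩ := pow_congr hχ g hp
  rw [ha, hb] at e
  have h1 : ((a ^ p - b : ℤ) : ℂ) = p * β := by
    push_cast
    rw [e]; ring
  have h2 := dvd_of_integral hp.ne_zero hβ h1
  have h3 := int_pow_congr a hp
  have : a - b = (a ^ p - b) - (a ^ p - a) := by ring
  rw [this]
  exact dvd_sub h2 h3

/-- The same for a sum of two values. -/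
theorem int_congr_two {χ : G → ℂ} (hχ : IsCharacter G χ) (g g' : G) {p : ℕ} (hp : p.Prime) {a b b' : ℤ}
    (ha : χ g + χ g' = a) (hb : χ (g ^ p) = b) (hb' : χ (g' ^ p) = b') : (p : ℤ) ∣ a - (b + b') := by
  obtain ⟨β, hβ, e⟩ := pow_congr hχ g hp
  obtain ⟨β', hβ', e'⟩ := pow_congr hχ g' hp
  obtain ⟨γ, hγ, f⟩ := sum_pow_prime Finset.univ (fun i : Fin 2 => if i = 0 then χ g else χ g')
    (fun i => by
      by_cases hi : i = 0
      · simp only [hi, if_true]; exact Characters.GaloisBasic.isIntegral_apply hχ g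
      · simp only [hi, if_false]; exact Characters.GaloisBasic.isIntegral_apply hχ g') hp
  simp only [Fin.sum_univ_two, if_true, Fin.isValue, one_ne_zero, if_false] at f
  rw [ha, e, e', hb, hb'] at f
  have h1 : ((a ^ p - (b + b') : ℤ) : ℂ) = p * (β + β' + γ) := by
    push_cast
    rw [f]; ring
  have h2 := dvd_of_integral hp.ne_zero ((hβ.add hβ').add hγ) h1
  have h3 := int_pow_congr a hp
  have : a - (b + b') = (a ^ p - (b + b')) - (a ^ p - a) := by ring
  rw [this]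
  exact dvd_sub h2 h3

/-- Rational classes have integral values. -/
theorem int_of_conj {χ : G → ℂ} (hχ : IsCharacter G χ) (g : G)
    (h : ∀ m : ℕ, m.Coprime (orderOf g) → IsConj g (g ^ m)) : ∃ k : ℤ, χ g = k := by
  apply Characters.GaloisBasic.exists_int_of_rat hχ
  rw [Characters.GaloisBasic.exists_rat_iff hχ]
  intro m hm
  have h1 := h m (Nat.Coprime.coprime_dvd_right (orderOf_dvd_natCard g) hm)
  rw [isConj_iff] at h1
  obtain ⟨c, hc⟩ := h1
  rw [← hc]
  exact Characters.Core.isCharacter_isClassFunction hχ g c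

omit [Finite G] in
theorem class_eq {χ : G → ℂ} (hχ : IsCharacter G χ) {g g' : G} (h : IsConj g g') : χ g = χ g' := by
  rw [isConj_iff] at h
  obtain ⟨c, rfl⟩ := h
  exact (Characters.Core.isCharacter_isClassFunction hχ g c).symm

/-- a fixed square root of 5 -/
theorem exists_sqrt_five : ∃ ζ : ℂ, ζ ^ 5 = 1 ∧ (ζ + ζ ^ 4 - ζ ^ 2 - ζ ^ 3) ^ 2 = 5 := by
  have h := Complex.isPrimitiveRoot_exp 5 (by norm_num)
  set ζ := Complex.exp (2 * Real.pi * Complex.I / (5 : ℕ)) with hζ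
  have h5 : ζ ^ 5 = 1 := h.pow_eq_one
  have h1 : ζ ≠ 1 := h.ne_one (by norm_num)
  have hs : 1 + ζ + ζ ^ 2 + ζ ^ 3 + ζ ^ 4 = 0 := by
    have : (ζ - 1) * (1 + ζ + ζ ^ 2 + ζ ^ 3 + ζ ^ 4) = 0 := by
      linear_combination h5
    rcases mul_eq_zero.1 this with h2 | h2
    · exact absurd (sub_eq_zero.1 h2) h1
    · exact h2
  refine ⟨ζ, h5, ?_⟩
  linear_combination (ζ ^ 3 - 2 * ζ ^ 2 - ζ + 4) * h5 - hs

theorem int_of_fixed {z : ℂ} (hz : IsIntegral ℤ z) (h : ∀ σ : ℂ ≃+* ℂ, σ z = z) : ∃ k : ℤ, z = k :=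
  Characters.GaloisBasic.exists_int_of_isIntegral hz
    (Characters.GaloisBasic.exists_rat_of_forall_ringEquiv hz.tower_top h)

/-- The values at two classes of elements of order 10 that are fused by the third power. -/
theorem golden {χ : G → ℂ} (hχ : IsCharacter G χ) {g : G} (hg : orderOf g = 10) (h9 : IsConj g (g ^ 9))
    (h7 : IsConj (g ^ 3) (g ^ 7)) {ζ : ℂ} (hζ : ζ ^ 5 = 1)
    (hs : (ζ + ζ ^ 4 - ζ ^ 2 - ζ ^ 3) ^ 2 = 5) :
    ∃ w r : ℤ, χ g + χ (g ^ 3) = w ∧ χ g - χ (g ^ 3) = r * (ζ + ζ ^ 4 - ζ ^ 2 - ζ ^ 3) ∧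
      (2 : ℤ) ∣ r - w := by
  set s := ζ + ζ ^ 4 - ζ ^ 2 - ζ ^ 3 with hsd
  have hg10 : g ^ 10 = 1 := by rw [← hg]; exact pow_orderOf_eq_one g
  have hn : 10 ∣ Nat.card G := by rw [← hg]; exact orderOf_dvd_natCard g
  have hfix : ∀ σ : ℂ ≃+* ℂ, (σ (χ g) = χ g ∧ σ (χ (g ^ 3)) = χ (g ^ 3) ∧ σ s = s) ∨
      (σ (χ g) = χ (g ^ 3) ∧ σ (χ (g ^ 3)) = χ g ∧ σ s = -s) := by
    intro σ
    obtain ⟨m, hm, hσ⟩ := Characters.GaloisBasic.exists_coprime_pow (σ : ℂ →+* ℂ)
      (Nat.card_pos (α := G)).ne'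
    have e1 : σ (χ g) = χ (g ^ m) := Characters.GaloisBasic.map_apply_card σ hσ hχ g
    have e2 : σ (χ (g ^ 3)) = χ ((g ^ 3) ^ m) := Characters.GaloisBasic.map_apply_card σ hσ hχ (g ^ 3)
    have hζn : ζ ^ Nat.card G = 1 := by
      obtain ⟨k, hk⟩ := hn
      rw [hk, show 10 * k = 5 * (2 * k) by ring, pow_mul, hζ, one_pow]
    have e3 : σ ζ = ζ ^ m := hσ ζ hζn
    have e4 : σ s = ζ ^ m + (ζ ^ m) ^ 4 - (ζ ^ m) ^ 2 - (ζ ^ m) ^ 3 := by
      rw [hsd, map_sub, map_sub, map_add, map_pow, map_pow, map_pow, e3]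
    have hm10 : Nat.Coprime m 10 := Nat.Coprime.coprime_dvd_right hn hm
    have hred : ∀ (k c : ℕ), k % 10 = c → g ^ k = g ^ c := by
      intro k c hk
      conv_lhs => rw [← Nat.div_add_mod k 10, hk, pow_add, pow_mul, hg10, one_pow, one_mul]
    have hredζ : ∀ (k c : ℕ), k % 5 = c → ζ ^ k = ζ ^ c := by
      intro k c hk
      conv_lhs => rw [← Nat.div_add_mod k 5, hk, pow_add, pow_mul, hζ, one_pow, one_mul]
    have hc : m % 10 = 1 ∨ m % 10 = 3 ∨ m % 10 = 7 ∨ m % 10 = 9 := by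
      have h1 : Nat.Coprime (m % 10) 10 :=
        ((Nat.gcd_rec 10 m).symm.trans (Nat.gcd_comm 10 m)).trans hm10
      have h2 : m % 10 < 10 := Nat.mod_lt _ (by norm_num)
      interval_cases (m % 10) <;> revert h1 <;> decide
    rcases hc with hc | hc | hc | hc
    · left
      refine ⟨?_, ?_, ?_⟩
      · rw [e1, hred m 1 hc, pow_one]
      · rw [e2, ← pow_mul, hred (3 * m) 3 (by omega)]
      · rw [e4, hredζ m 1 (by omega), pow_one]
    · right
      refine ⟨?_, ?_, ?_⟩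
      · rw [e1, hred m 3 hc]
      · rw [e2, ← pow_mul, hred (3 * m) 9 (by omega)]
        exact (class_eq hχ h9).symm
      · rw [e4, hredζ m 3 (by omega), ← pow_mul, ← pow_mul, ← pow_mul,
          hredζ (3 * 4) 2 (by norm_num), hredζ (3 * 2) 1 (by norm_num),
          hredζ (3 * 3) 4 (by norm_num)]
        ring
    · right
      refine ⟨?_, ?_, ?_⟩
      · rw [e1, hred m 7 hc]
        exact (class_eq hχ h7).symm
      · rw [e2, ← pow_mul, hred (3 * m) 1 (by omega), pow_one]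
      · rw [e4, hredζ m 2 (by omega), ← pow_mul, ← pow_mul, ← pow_mul,
          hredζ (2 * 4) 3 (by norm_num), hredζ (2 * 2) 4 (by norm_num),
          hredζ (2 * 3) 1 (by norm_num)]
        ring
    · left
      refine ⟨?_, ?_, ?_⟩
      · rw [e1, hred m 9 hc]
        exact (class_eq hχ h9).symm
      · rw [e2, ← pow_mul, hred (3 * m) 7 (by omega)]
        exact (class_eq hχ h7).symm
      · rw [e4, hredζ m 4 (by omega), ← pow_mul, ← pow_mul, ← pow_mul,
          hredζ (4 * 4) 1 (by norm_num), hredζ (4 * 2) 3 (by norm_num),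
          hredζ (4 * 3) 2 (by norm_num)]
        ring
  have ha := Characters.GaloisBasic.isIntegral_apply hχ g
  have ha' := Characters.GaloisBasic.isIntegral_apply hχ (g ^ 3)
  have hsi : IsIntegral ℤ s := by
    refine IsIntegral.of_pow (n := 2) (by norm_num) ?_
    rw [hs]
    exact_mod_cast isIntegral_nat 5
  obtain ⟨w, hw⟩ := int_of_fixed (ha.add ha') (fun σ => by
    rw [map_add]
    rcases hfix σ with ⟨f1, f2, -⟩ | ⟨f1, f2, -⟩
    · rw [f1, f2]
    · rw [f1, f2, add_comm])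
  obtain ⟨p, hp⟩ := int_of_fixed (ha.mul ha') (fun σ => by
    rw [map_mul]
    rcases hfix σ with ⟨f1, f2, -⟩ | ⟨f1, f2, -⟩
    · rw [f1, f2]
    · rw [f1, f2, mul_comm])
  obtain ⟨k, hk⟩ := int_of_fixed ((ha.sub ha').mul hsi) (fun σ => by
    rw [map_mul, map_sub]
    rcases hfix σ with ⟨f1, f2, f3⟩ | ⟨f1, f2, f3⟩
    · rw [f1, f2, f3]
    · rw [f1, f2, f3]; ring)
  set a := χ g
  set a' := χ (g ^ 3)
  have h1 : k ^ 2 = 5 * (w ^ 2 - 4 * p) := by
    have : ((k ^ 2 : ℤ) : ℂ) = ((5 * (w ^ 2 - 4 * p) : ℤ) : ℂ) := by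
      push_cast
      rw [← hk, ← hw, ← hp]
      linear_combination ((a - a') ^ 2) * hs
    exact_mod_cast this
  have h5 : (5 : ℤ) ∣ k := by
    have h2 : (5 : ℤ) ∣ k ^ 2 := ⟨_, h1⟩
    exact Prime.dvd_of_dvd_pow (by norm_num) h2
  obtain ⟨r, hr⟩ := h5
  refine ⟨w, r, hw, ?_, ?_⟩
  · have h2 : (a - a') * s = 5 * r := by
      rw [hk, hr]; push_cast; ring
    have h3 : 5 * (a - a') = 5 * (r * s) := by
      linear_combination s * h2 - (a - a') * hs
    exact mul_left_cancel₀ (by norm_num) h3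
  · have h2 : 5 * r ^ 2 = w ^ 2 - 4 * p := by
      rw [hr] at h1
      linarith
    have h3 : (2 : ℤ) ∣ (r - w) * (r + w) := by
      have : (r - w) * (r + w) = r ^ 2 - w ^ 2 := by ring
      rw [this]
      omega
    rcases Int.Prime.dvd_mul' Nat.prime_two (by exact_mod_cast h3) with h4 | h4
    · exact_mod_cast h4
    · have h4' : (2 : ℤ) ∣ r + w := by exact_mod_cast h4
      omega

end Cfsg.Agent.J3Type.CharTools
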