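import Mathlib
import Cfsg.Agent.J3Type.CodeTab

/-!
# Numerical facts about the coded centralizer
-/

set_option autoImplicit false
set_option maxRecDepth 100000

namespace Cfsg.Agent.J3Type.CodeFacts

open Cfsg.Agent.J3Type.CodeTab

/-! ### The permutations -/

theorem mulP_lt_b : allN 60 (fun p => allN 60 fun q => Nat.ble (Nat.succ (mulP p q)) 60) = true := by
  decide +kernel

theorem mulP_lt {p q : ℕ} (hp : p < 60) (hq : q < 60) : mulP p q < 60 :=
  lt_of_blt (allN_spec _ _ (allN_spec _ _ mulP_lt_b p hp) q hq)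

theorem pinv_b : allN 60 (fun p => and (Nat.ble (Nat.succ (pinv p)) 60) (allN 5 fun k =>
    and (Nat.ble (Nat.succ (pv p k)) 5) (and (Nat.beq (pv (pinv p) (pv p k)) k)
      (Nat.beq (pv p (pv (pinv p) k)) k)))) = true := by
  decide +kernel

theorem pinv_lt {p : ℕ} (hp : p < 60) : pinv p < 60 := by
  have h := allN_spec _ _ pinv_b p hp
  rw [Bool.and_eq_true] at h
  exact lt_of_blt h.1

theorem pv_lt {p k : ℕ} (hp : p < 60) (hk : k < 5) : pv p k < 5 := by
  have h := allN_spec _ _ pinv_b p hp
  rw [Bool.and_eq_true] at h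
  have h2 := allN_spec _ _ h.2 k hk
  rw [Bool.and_eq_true] at h2
  exact lt_of_blt h2.1

theorem pinv_pv {p k : ℕ} (hp : p < 60) (hk : k < 5) : pv (pinv p) (pv p k) = k := by
  have h := allN_spec _ _ pinv_b p hp
  rw [Bool.and_eq_true] at h
  have h2 := allN_spec _ _ h.2 k hk
  rw [Bool.and_eq_true, Bool.and_eq_true] at h2
  exact eq_of_beq h2.2.1

theorem pv_pinv {p k : ℕ} (hp : p < 60) (hk : k < 5) : pv p (pv (pinv p) k) = k := by
  have h := allN_spec _ _ pinv_b p hp
  rw [Bool.and_eq_true] at h
  have h2 := allN_spec _ _ h.2 k hk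
  rw [Bool.and_eq_true, Bool.and_eq_true] at h2
  exact eq_of_beq h2.2.2

theorem pv_mulP_b : allN 60 (fun p => allN 60 fun q => allN 5 fun k =>
    Nat.beq (pv p (pv q k)) (pv (mulP p q) k)) = true := by
  decide +kernel

theorem pv_mulP {p q k : ℕ} (hp : p < 60) (hq : q < 60) (hk : k < 5) :
    pv p (pv q k) = pv (mulP p q) k :=
  eq_of_beq (allN_spec _ _ (allN_spec _ _ (allN_spec _ _ pv_mulP_b p hp) q hq) k hk)

theorem pv_inj_b : allN 60 (fun p => allN 60 fun q =>
    imp (allN 5 fun k => Nat.beq (pv p k) (pv q k)) (Nat.beq p q)) = true := by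
  decide +kernel

theorem pv_inj {p q : ℕ} (hp : p < 60) (hq : q < 60) (h : ∀ k < 5, pv p k = pv q k) : p = q := by
  have h1 := allN_spec _ _ (allN_spec _ _ pv_inj_b p hp) q hq
  refine eq_of_beq (imp_spec h1 ?_)
  have h2 := h
  clear h h1
  have key : ∀ n, (∀ k < n, pv p k = pv q k) → allN n (fun k => Nat.beq (pv p k) (pv q k)) = true := by
    intro n
    induction n with
    | zero => intro _; rfl
    | succ n ih =>
      intro hn
      show and (Nat.beq (pv p n) (pv q n)) (allN n (fun k => Nat.beq (pv p k) (pv q k))) = true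
      rw [CodeTab.beq_of_eq (hn n (Nat.lt_succ_self n)), ih (fun k hk => hn k (Nat.lt_succ_of_lt hk))]
      rfl
  exact key 5 h2

/-! ### The words -/

theorem emul_lt_b : allN 32 (fun x => allN 32 fun y => Nat.ble (Nat.succ (emul x y)) 32) = true := by
  decide +kernel

theorem emul_lt {x y : ℕ} (hx : x < 32) (hy : y < 32) : emul x y < 32 :=
  lt_of_blt (allN_spec _ _ (allN_spec _ _ emul_lt_b x hx) y hy)

theorem act_lt_b : allN 60 (fun p => allN 32 fun x => Nat.ble (Nat.succ (act p x)) 32) = true := by
  decide +kernel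

theorem act_lt {p x : ℕ} (hp : p < 60) (hx : x < 32) : act p x < 32 :=
  lt_of_blt (allN_spec _ _ (allN_spec _ _ act_lt_b p hp) x hx)

/-- multiply `x` by the generator code `g` if the bit is set -/
def st (g : ℕ) (x : ℕ) (b : Bool) : ℕ := Bool.rec x (emul x g) b

/-- bit test -/
def bt (x k : ℕ) : Bool := Nat.beq (Nat.land (Nat.shiftRight x k) 1) 1

/-- the product of the letters of `y`, with images `g4, g0, ..., g3` of the letters, from `x` -/
def chain (g4 g0 g1 g2 g3 : ℕ) (x y : ℕ) : ℕ :=
  st g3 (st g2 (st g1 (st g0 (st g4 x (bt y 4)) (bt y 0)) (bt y 1)) (bt y 2)) (bt y 3)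

theorem emul_chain_b : allN 32 (fun x => allN 32 fun y =>
    Nat.beq (emul x y) (chain 16 1 2 4 8 x y)) = true := by
  decide +kernel

theorem emul_chain {x y : ℕ} (hx : x < 32) (hy : y < 32) : emul x y = chain 16 1 2 4 8 x y :=
  eq_of_beq (allN_spec _ _ (allN_spec _ _ emul_chain_b x hx) y hy)

theorem act_chain_b : allN 60 (fun p => allN 32 fun y =>
    Nat.beq (act p y) (chain 16 (act p 1) (act p 2) (act p 4) (act p 8) 0 y)) = true := by
  decide +kernel

theorem act_chain {p y : ℕ} (hp : p < 60) (hy : y < 32) :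
    act p y = chain 16 (act p 1) (act p 2) (act p 4) (act p 8) 0 y :=
  eq_of_beq (allN_spec _ _ (allN_spec _ _ act_chain_b p hp) y hy)

/-- the code of the letter `k` -/
def gc (k : ℕ) : ℕ := Nat.shiftRight (Nat.shiftLeft 1 k) 1

/-- the code of `v i * v j` -/
def pairc (i j : ℕ) : ℕ :=
  Bool.rec (Bool.rec (emul 16 (emul (gc i) (gc j))) (emul 16 (gc i)) (Nat.beq j 0)) (gc j) (Nat.beq i 0)

theorem act_gc_b : allN 60 (fun p => allN 4 fun k =>
    Nat.beq (act p (gc (Nat.succ k))) (pairc (pv p 0) (pv p (Nat.succ k)))) = true := by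
  decide +kernel

theorem act_gc {p k : ℕ} (hp : p < 60) (hk : k < 4) : act p (gc (k + 1)) = pairc (pv p 0) (pv p (k + 1)) :=
  eq_of_beq (allN_spec _ _ (allN_spec _ _ act_gc_b p hp) k hk)

theorem noncentral_b : allN 32 (fun x => imp (and (Nat.beq (emul x 1) (emul 1 x)) (and
    (Nat.beq (emul x 2) (emul 2 x)) (and (Nat.beq (emul x 4) (emul 4 x))
    (Nat.beq (emul x 8) (emul 8 x))))) (or (Nat.beq x 0) (Nat.beq x 16))) = true := by
  decide +kernel

theorem emul_inv_b : allN 32 (fun x => allN 32 fun y =>
    imp (or (Nat.beq (emul x y) 0) (Nat.beq (emul x y) 16)) (or (Nat.beq x y)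
      (or (Nat.beq x (Nat.xor y 16)) false))) = true := by
  decide +kernel

/-! ### The roots of the central involution -/

theorem mulN_lt {c d : ℕ} (hc : c < 1920) (hd : d < 1920) : mulN c d < 1920 := by
  have h1 : mulP (c / 32) (d / 32) < 60 := mulP_lt (by omega) (by omega)
  have h2 : emul (c % 32) (act (c / 32) (d % 32)) < 32 := emul_lt (by omega) (act_lt (by omega) (by omega))
  show 32 * mulP (c / 32) (d / 32) + emul (c % 32) (act (c / 32) (d % 32)) < 1920
  omega

/-- `i ^ (k + 1)` -/
def pw (i : ℕ) (k : ℕ) : ℕ := Nat.rec i (fun _ ih => mulN ih i) k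

/-- is conjugate to `x` by the witness -/
def cj (x i : ℕ) : Bool := and (Nat.ble (Nat.succ (wit i)) 1920) (Nat.beq (mulN (wit i) i) (mulN x (wit i)))

theorem cj_spec {x i : ℕ} (h : cj x i = true) : ∃ c < 1920, mulN c i = mulN x c := by
  unfold cj at h
  rw [Bool.and_eq_true] at h
  exact ⟨wit i, lt_of_blt h.1, eq_of_beq h.2⟩

theorem root4_b : allN 1920 (fun i => imp (Nat.beq (mulN i i) 16) (cj 1 i)) = true := by
  decide +kernel

theorem root4 {i : ℕ} (hi : i < 1920) (h : mulN i i = 16) : ∃ c < 1920, mulN c i = mulN 1 c :=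
  cj_spec (imp_spec (allN_spec _ _ root4_b i hi) (CodeTab.beq_of_eq h))

theorem root6_b : allN 1920 (fun i => imp (Nat.beq (pw i 2) 16)
    (or (Nat.beq i 16) (cj 496 i))) = true := by
  decide +kernel

theorem root6 {i : ℕ} (hi : i < 1920) (h : pw i 2 = 16) (h' : i ≠ 16) :
    ∃ c < 1920, mulN c i = mulN 496 c := by
  have h1 := imp_spec (allN_spec _ _ root6_b i hi) (CodeTab.beq_of_eq h)
  rcases Bool.or_eq_true _ _ ▸ h1 with h2 | h2
  · exact absurd (eq_of_beq h2) h'
  · exact cj_spec h2

theorem root8_b : allN 1920 (fun i => imp (Nat.beq (pw i 3) 16) (cj 97 i)) = true := by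
  decide +kernel

theorem root8 {i : ℕ} (hi : i < 1920) (h : pw i 3 = 16) : ∃ c < 1920, mulN c i = mulN 97 c :=
  cj_spec (imp_spec (allN_spec _ _ root8_b i hi) (CodeTab.beq_of_eq h))

theorem root12_b : allN 1920 (fun i => imp (Nat.beq (pw i 5) 16)
    (or (Nat.beq (pw i 3) 0) (cj 492 i))) = true := by
  decide +kernel

theorem root12 {i : ℕ} (hi : i < 1920) (h : pw i 5 = 16) (h' : pw i 3 ≠ 0) :
    ∃ c < 1920, mulN c i = mulN 492 c := by
  have h1 := imp_spec (allN_spec _ _ root12_b i hi) (CodeTab.beq_of_eq h)
  rcases Bool.or_eq_true _ _ ▸ h1 with h2 | h2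
  · exact absurd (eq_of_beq h2) h'
  · exact cj_spec h2

theorem root10_b : allN 1920 (fun i => imp (Nat.beq (pw i 4) 16)
    (or (Nat.beq i 16) (or (cj 528 i) (cj 1456 i)))) = true := by
  decide +kernel

theorem root10 {i : ℕ} (hi : i < 1920) (h : pw i 4 = 16) (h' : i ≠ 16) :
    (∃ c < 1920, mulN c i = mulN 528 c) ∨ (∃ c < 1920, mulN c i = mulN 1456 c) := by
  have h1 := imp_spec (allN_spec _ _ root10_b i hi) (CodeTab.beq_of_eq h)
  rcases Bool.or_eq_true _ _ ▸ h1 with h2 | h2
  · exact absurd (eq_of_beq h2) h'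
  · rcases Bool.or_eq_true _ _ ▸ h2 with h3 | h3
    · exact Or.inl (cj_spec h3)
    · exact Or.inr (cj_spec h3)

theorem root16_b : allN 1920 (fun i => imp (Nat.beq (pw i 7) 16) false) = true := by
  decide +kernel

theorem root16 {i : ℕ} (hi : i < 1920) (h : pw i 7 = 16) : False :=
  absurd (imp_spec (allN_spec _ _ root16_b i hi) (CodeTab.beq_of_eq h)) Bool.false_ne_true

theorem ten_b : allN 1920 (fun c => imp (Nat.beq (mulN c 528) (mulN 1456 c)) false) = true := by
  decide +kernel

theorem ten {c : ℕ} (hc : c < 1920) (h : mulN c 528 = mulN 1456 c) : False :=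
  absurd (imp_spec (allN_spec _ _ ten_b c hc) (CodeTab.beq_of_eq h)) Bool.false_ne_true

/-! ### Centralizers and pairs of involutions -/

/-- commutes with `x` -/
def cm (x i : ℕ) : Bool := Nat.beq (mulN i x) (mulN x i)

theorem card_cm4 : cnt (cm 1) 1920 0 = 96 := by decide +kernel
theorem card_cm6 : cnt (cm 496) 1920 0 = 24 := by decide +kernel
theorem card_cm8 : cnt (cm 97) 1920 0 = 8 := by decide +kernel
theorem card_cm12 : cnt (cm 492) 1920 0 = 12 := by decide +kernel
theorem card_cm10a : cnt (cm 528) 1920 0 = 10 := by decide +kernel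
theorem card_cm10b : cnt (cm 1456) 1920 0 = 10 := by decide +kernel

/-- `i` and `i * x` are involutions -/
def ip (x i : ℕ) : Bool :=
  and (Nat.beq (mulN i i) 0) (and (Nat.ble 1 i) (and (Nat.beq (mulN (mulN i x) (mulN i x)) 0)
    (Nat.ble 1 (mulN i x))))

theorem card_ip2 : cnt (ip 16) 1920 0 = 130 := by decide +kernel
theorem card_ip4 : cnt (ip 1) 1920 0 = 28 := by decide +kernel
theorem card_ip6 : cnt (ip 496) 1920 0 = 12 := by decide +kernel
theorem card_ip8 : cnt (ip 97) 1920 0 = 8 := by decide +kernel
theorem card_ip12 : cnt (ip 492) 1920 0 = 12 := by decide +kernel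
theorem card_ip10a : cnt (ip 528) 1920 0 = 10 := by decide +kernel
theorem card_ip10b : cnt (ip 1456) 1920 0 = 10 := by decide +kernel

/-! ### Powers of the representatives -/

theorem pow_reps : pw 1 1 = 16 ∧ pw 496 2 = 16 ∧ pw 97 3 = 16 ∧ pw 492 5 = 16 ∧ pw 528 4 = 16 ∧
    pw 1456 4 = 16 ∧ pw 528 2 = 1456 ∧ pw 492 3 ≠ 0 ∧ pw 528 1 = 1024 ∧ pw 528 3 = 1536 := by
  decide +kernel

/-! ### Subgroups -/

/-- class of an element of 2-power order -/
def cl (i : ℕ) : ℕ :=
  Bool.rec (Bool.rec (Bool.rec (Bool.rec 4 3 (Nat.beq (pw i 7) 0)) 2 (Nat.beq (pw i 3) 0)) 1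
    (Nat.beq (pw i 1) 0)) 0 (Nat.beq i 0)

/-- closed under multiplication, tested with a mask -/
def closed (M : ℕ) (L : List ℕ) : Bool :=
  L.all fun a => L.all fun b => bt M (mulN a b)

/-- all elements of the mask are in the list -/
def masked (M : ℕ) (L : List ℕ) : Bool :=
  allN 1920 fun i => imp (bt M i) (L.any fun a => Nat.beq a i)

/-- strictly increasing, below 1920 -/
def sorted (L : List ℕ) : Bool :=
  List.rec (motive := fun _ => ℕ → Bool) (fun _ => true) (fun a _ ih n => and (Nat.ble n a)
    (and (Nat.ble (Nat.succ a) 1920) (ih (Nat.succ a)))) L 0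

/-- elements of a subgroup of order 32 -/
def LE : List ℕ := [0, 1, 2, 3, 4, 5, 6, 7, 8, 9, 10, 11, 12, 13, 14, 15, 16, 17, 18, 19, 20, 21, 22, 23, 24, 25, 26, 27, 28, 29, 30, 31]

/-- mask of a subgroup of order 32 -/
def ME : ℕ := 0xffffffff

theorem closedE : closed ME LE = true := by decide +kernel

theorem maskedE : masked ME LE = true := by decide +kernel

theorem sortedE : sorted LE = true := by decide +kernel

/-- elements of a subgroup of order 64 -/
def LT : List ℕ := [0, 1, 2, 3, 4, 5, 6, 7, 16, 17, 18, 19, 20, 21, 22, 23, 416, 417, 418, 419, 420, 421, 422, 423, 432, 433, 434, 435, 436, 437, 438, 439, 960, 961, 962, 963, 964, 965, 966, 967, 976, 977, 978, 979, 980, 981, 982, 983, 1376, 1377, 1378, 1379, 1380, 1381, 1382, 1383, 1392, 1393, 1394, 1395, 1396, 1397, 1398, 1399]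

/-- mask of a subgroup of order 64 -/
def MT : ℕ := 0xff00ff00000000000000000000000000000000000000000000000000000000000000000000000000000000000000000000000000ff00ff0000000000000000000000000000000000000000000000000000000000000000000000000000000000000000000000000000000000000000000000000000000000ff00ff00000000000000000000000000000000000000000000000000000000000000000000000000000000000000000000000000ff00ff

theorem closedT : closed MT LT = true := by decide +kernel

theorem maskedT : masked MT LT = true := by decide +kernel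

theorem sortedT : sorted LT = true := by decide +kernel

/-- elements of a subgroup of order 32 -/
def LA : List ℕ := [0, 3, 4, 7, 16, 19, 20, 23, 416, 419, 420, 423, 432, 435, 436, 439, 960, 963, 964, 967, 976, 979, 980, 983, 1376, 1379, 1380, 1383, 1392, 1395, 1396, 1399]

/-- mask of a subgroup of order 32 -/
def MA : ℕ := 0x99009900000000000000000000000000000000000000000000000000000000000000000000000000000000000000000000000000990099000000000000000000000000000000000000000000000000000000000000000000000000000000000000000000000000000000000000000000000000000000000099009900000000000000000000000000000000000000000000000000000000000000000000000000000000000000000000000000990099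

theorem closedA : closed MA LA = true := by decide +kernel

theorem maskedA : masked MA LA = true := by decide +kernel

theorem sortedA : sorted LA = true := by decide +kernel

/-- elements of a subgroup of order 128 -/
def LS : List ℕ := [0, 1, 2, 3, 4, 5, 6, 7, 8, 9, 10, 11, 12, 13, 14, 15, 16, 17, 18, 19, 20, 21, 22, 23, 24, 25, 26, 27, 28, 29, 30, 31, 416, 417, 418, 419, 420, 421, 422, 423, 424, 425, 426, 427, 428, 429, 430, 431, 432, 433, 434, 435, 436, 437, 438, 439, 440, 441, 442, 443, 444, 445, 446, 447, 960, 961, 962, 963, 964, 965, 966, 967, 968, 969, 970, 971, 972, 973, 974, 975, 976, 977, 978, 979, 980, 981, 982, 983, 984, 985, 986, 987, 988, 989, 990, 991, 1376, 1377, 1378, 1379, 1380, 1381, 1382, 1383, 1384, 1385, 1386, 1387, 1388, 1389, 1390, 1391, 1392, 1393, 1394, 1395, 1396, 1397, 1398, 1399, 1400, 1401, 1402, 1403, 1404, 1405, 1406, 1407]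

/-- mask of a subgroup of order 128 -/
def MS : ℕ := 0xffffffff000000000000000000000000000000000000000000000000000000000000000000000000000000000000000000000000ffffffff00000000000000000000000000000000000000000000000000000000000000000000000000000000000000000000000000000000000000000000000000000000ffffffff000000000000000000000000000000000000000000000000000000000000000000000000000000000000000000000000ffffffff

theorem closedS : closed MS LS = true := by decide +kernel

theorem maskedS : masked MS LS = true := by decide +kernel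

theorem sortedS : sorted LS = true := by decide +kernel

/-- elements of a subgroup of order 10 -/
def LX : List ℕ := [0, 16, 512, 528, 1024, 1040, 1440, 1456, 1536, 1552]

/-- mask of a subgroup of order 10 -/
def MX : ℕ := 0x10001000000000000000000010001000000000000000000000000000000000000000000000000000000000000000000000000000000000000000000000000000100010000000000000000000000000000000000000000000000000000000000000000000000000000000000000000000000000000000000000000000000000001000100000000000000000000000000000000000000000000000000000000000000000000000000000000000000000000000000000000000000000000000000010001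

theorem closedX : closed MX LX = true := by decide +kernel

theorem maskedX : masked MX LX = true := by decide +kernel

theorem sortedX : sorted LX = true := by decide +kernel

theorem clE : (LE.map cl).count 0 = 1 ∧ (LE.map cl).count 1 = 11 ∧ (LE.map cl).count 2 = 20 ∧
    (LE.map cl).count 3 = 0 ∧ LE.length = 32 := by decide +kernel

theorem clT : (LT.map cl).count 0 = 1 ∧ (LT.map cl).count 1 = 27 ∧ (LT.map cl).count 2 = 36 ∧
    (LT.map cl).count 3 = 0 ∧ LT.length = 64 := by decide +kernel

theorem clA : (LA.map cl).count 0 = 1 ∧ (LA.map cl).count 1 = 19 ∧ (LA.map cl).count 2 = 12 ∧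
    (LA.map cl).count 3 = 0 ∧ LA.length = 32 := by decide +kernel

theorem cl_lt : (LE.map cl).all (fun m => Nat.ble m 3) = true ∧
    (LT.map cl).all (fun m => Nat.ble m 3) = true ∧ (LA.map cl).all (fun m => Nat.ble m 3) = true ∧
    (LS.map cl).all (fun m => Nat.ble m 3) = true := by decide +kernel

theorem clS : (LS.map cl).count 0 = 1 ∧ (LS.map cl).count 1 = 35 ∧ (LS.map cl).count 2 = 44 ∧
    (LS.map cl).count 3 = 48 ∧ LS.length = 128 := by decide +kernel


end Cfsg.Agent.J3Type.CodeFacts
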