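import Mathlib
import Cfsg.Agent.J3Type.CodeFacts

/-!
# Groups with a coded involution centralizer

`Coded t D`: the centralizer of `t` is enumerated by `D` with the coded multiplication.
-/

set_option autoImplicit false

namespace Cfsg.Agent.J3Type.CodeGroup

open Cfsg.Agent.J3Type.CodeTab Cfsg.Agent.J3Type.CodeFacts

/-- the centralizer of `t` is the coded group -/
structure Coded {G : Type*} [Group G] (t : G) (D : ℕ → G) : Prop where
  inj : ∀ i < 1920, ∀ j < 1920, D i = D j → i = j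
  comm : ∀ i < 1920, D i * t = t * D i
  surj : ∀ g, g * t = t * g → ∃ i < 1920, D i = g
  mul : ∀ i < 1920, ∀ j < 1920, D i * D j = D (mulN i j)
  t_eq : D 16 = t

variable {G : Type*} [Group G] {t : G} {D : ℕ → G}

theorem mulN_zero_zero : mulN 0 0 = 0 := by decide +kernel

theorem mulN_16_16 : mulN 16 16 = 0 := by decide +kernel

theorem Coded.one (h : Coded t D) : D 0 = 1 := by
  have h1 := h.mul 0 (by norm_num) 0 (by norm_num)
  rw [mulN_zero_zero] at h1
  exact mul_eq_left.1 h1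

theorem Coded.sq (h : Coded t D) : t * t = 1 := by
  rw [← h.t_eq, h.mul 16 (by norm_num) 16 (by norm_num), mulN_16_16, h.one]

theorem Coded.t_ne (h : Coded t D) : t ≠ 1 := by
  intro h1
  rw [← h.t_eq, ← h.one] at h1
  exact absurd (h.inj 16 (by norm_num) 0 (by norm_num) h1) (by norm_num)

theorem Coded.t_order (h : Coded t D) : orderOf t = 2 := by
  rw [orderOf_eq_prime_iff]
  exact ⟨by rw [_root_.sq, h.sq], h.t_ne⟩

theorem pw_lt {i : ℕ} (hi : i < 1920) (k : ℕ) : pw i k < 1920 := by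
  induction k with
  | zero => exact hi
  | succ k ih => exact mulN_lt ih hi

theorem Coded.pw (h : Coded t D) {i : ℕ} (hi : i < 1920) (k : ℕ) : D (pw i k) = D i ^ (k + 1) := by
  induction k with
  | zero => rw [pow_one]; rfl
  | succ k ih =>
    have h1 : CodeFacts.pw i (k + 1) = mulN (CodeFacts.pw i k) i := rfl
    rw [h1, ← h.mul _ (pw_lt hi k) _ hi, ih, ← pow_succ]

theorem Coded.pw_eq (h : Coded t D) {i j : ℕ} (hi : i < 1920) (hj : j < 1920) (k : ℕ) :
    D i ^ (k + 1) = D j ↔ CodeFacts.pw i k = j := by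
  rw [← h.pw hi]
  constructor
  · exact h.inj _ (pw_lt hi k) _ hj
  · intro e; rw [e]

theorem Coded.pw_t (h : Coded t D) {i : ℕ} (hi : i < 1920) (k : ℕ) :
    D i ^ (k + 1) = t ↔ CodeFacts.pw i k = 16 := by
  rw [← h.pw_eq hi (by norm_num : 16 < 1920) k, h.t_eq]

theorem Coded.pw_one (h : Coded t D) {i : ℕ} (hi : i < 1920) (k : ℕ) :
    D i ^ (k + 1) = 1 ↔ CodeFacts.pw i k = 0 := by
  rw [← h.pw_eq hi (by norm_num : 0 < 1920) k, h.one]

/-- conjugacy inside the centralizer -/
theorem Coded.conj (h : Coded t D) {x i : ℕ} (hx : x < 1920) (hi : i < 1920)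
    (hc : ∃ c < 1920, mulN c i = mulN x c) : IsConj (D x) (D i) := by
  obtain ⟨c, hc, e⟩ := hc
  rw [isConj_iff]
  refine ⟨(D c)⁻¹, ?_⟩
  have h1 : D c * D i = D x * D c := by
    rw [h.mul c hc i hi, h.mul x hx c hc, e]
  rw [inv_inv, mul_assoc, ← h1, inv_mul_cancel_left]

/-- the roots of conjugates of `t` are conjugate into the centralizer -/
theorem Coded.root (h : Coded t D) {g : G} {m : ℕ} (hg : IsConj t (g ^ m)) :
    ∃ i < 1920, IsConj (D i) g ∧ D i ^ m = t := by
  rw [isConj_iff] at hg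
  obtain ⟨c, hc⟩ := hg
  have h1 : (c⁻¹ * g * c) ^ m = t := by
    have : (c⁻¹ * g * c) ^ m = c⁻¹ * g ^ m * c := by
      have := conj_pow (i := m) (a := c⁻¹) (b := g)
      rw [inv_inv] at this
      exact this
    rw [this, ← hc]; group
  have h2 : (c⁻¹ * g * c) * t = t * (c⁻¹ * g * c) := by
    rw [← h1, ← pow_succ, ← pow_succ']
  obtain ⟨i, hi, e⟩ := h.surj _ h2
  refine ⟨i, hi, ?_, by rw [e, h1]⟩
  rw [isConj_iff, e]
  exact ⟨c, by group⟩

/-- counting in the centralizer -/
theorem Coded.card (h : Coded t D) {p : G → Prop} {f : ℕ → Bool}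
    (h1 : ∀ g, p g → g * t = t * g) (h2 : ∀ i < 1920, (p (D i) ↔ f i = true)) :
    Nat.card {g // p g} = cnt f 1920 0 := by
  rw [cnt_spec, zero_add]
  have h3 : Nat.card {i // i ∈ (Finset.range 1920).filter (fun i => f i = true)}
      = ((Finset.range 1920).filter (fun i => f i = true)).card := by
    rw [Nat.card_eq_fintype_card, Fintype.card_coe]
  rw [← h3]
  symm
  apply Nat.card_congr
  refine Equiv.ofBijective (fun i => ⟨D i.1, ?_⟩) ⟨?_, ?_⟩
  · have := i.2
    rw [Finset.mem_filter, Finset.mem_range] at this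
    exact (h2 _ this.1).2 this.2
  · rintro ⟨i, hi⟩ ⟨k, hk⟩ e
    rw [Finset.mem_filter, Finset.mem_range] at hi hk
    have e' : D i = D k := congrArg Subtype.val e
    have := h.inj i hi.1 k hk.1 e'
    subst this
    rfl
  · rintro ⟨g, hg⟩
    obtain ⟨i, hi, e⟩ := h.surj g (h1 g hg)
    refine ⟨⟨i, ?_⟩, Subtype.ext e⟩
    rw [Finset.mem_filter, Finset.mem_range]
    exact ⟨hi, (h2 i hi).1 (by rw [e]; exact hg)⟩

theorem Coded.card_centralizer_t (h : Coded t D) :
    Nat.card (Subgroup.centralizer ({t} : Set G)) = 1920 := by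
  have h1 : Nat.card {i // i ∈ Finset.range 1920} = 1920 := by
    rw [Nat.card_eq_fintype_card, Fintype.card_coe, Finset.card_range]
  rw [← h1]
  symm
  apply Nat.card_congr
  refine Equiv.ofBijective (fun i => ⟨D i.1, ?_⟩) ⟨?_, ?_⟩
  · rw [Subgroup.mem_centralizer_singleton_iff]
    exact h.comm _ (Finset.mem_range.1 i.2)
  · rintro ⟨i, hi⟩ ⟨k, hk⟩ e
    have e' : D i = D k := congrArg Subtype.val e
    have := h.inj i (Finset.mem_range.1 hi) k (Finset.mem_range.1 hk) e'
    subst this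
    rfl
  · rintro ⟨g, hg⟩
    rw [Subgroup.mem_centralizer_singleton_iff] at hg
    obtain ⟨i, hi, e⟩ := h.surj g hg
    exact ⟨⟨i, Finset.mem_range.2 hi⟩, Subtype.ext e⟩

theorem Coded.card_centralizer (h : Coded t D) {x m : ℕ} (hx : x < 1920) (hm : D x ^ m = t) :
    Nat.card (Subgroup.centralizer ({D x} : Set G)) = cnt (cm x) 1920 0 := by
  have h1 : Nat.card (Subgroup.centralizer ({D x} : Set G)) = Nat.card {g : G // g * D x = D x * g} := by
    apply Nat.card_congr
    refine Equiv.subtypeEquivRight fun g => ?_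
    exact Subgroup.mem_centralizer_singleton_iff
  rw [h1]
  apply h.card
  · intro g hg
    rw [← hm]
    exact (Commute.pow_right hg m)
  · intro i hi
    rw [h.mul i hi x hx, h.mul x hx i hi]
    unfold cm
    constructor
    · intro e
      exact CodeTab.beq_of_eq (h.inj _ (mulN_lt hi hx) _ (mulN_lt hx hi) e)
    · intro e
      rw [eq_of_beq e]

/-- number of pairs of conjugates of `t` with a given product -/
theorem Coded.card_pairs (h : Coded t D) (hall : ∀ g : G, orderOf g = 2 → IsConj t g)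
    {x m : ℕ} (hx : x < 1920) (hm : D x ^ m = t) :
    Nat.card {p : G × G // IsConj t p.1 ∧ IsConj t p.2 ∧ p.1 * p.2 = D x} = cnt (ip x) 1920 0 := by
  have hinv : ∀ g : G, IsConj t g ↔ (g * g = 1 ∧ g ≠ 1) := by
    intro g
    constructor
    · intro hg
      rw [isConj_iff] at hg
      obtain ⟨c, rfl⟩ := hg
      constructor
      · calc c * t * c⁻¹ * (c * t * c⁻¹) = c * (t * t) * c⁻¹ := by group
          _ = 1 := by rw [h.sq]; group
      · intro e
        apply h.t_ne
        have : t = c⁻¹ * (c * t * c⁻¹) * c := by group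
        rw [this, e]; group
    · rintro ⟨h1, h2⟩
      apply hall
      rw [orderOf_eq_prime_iff]
      exact ⟨by rw [_root_.sq, h1], h2⟩
  have h1 : Nat.card {p : G × G // IsConj t p.1 ∧ IsConj t p.2 ∧ p.1 * p.2 = D x}
      = Nat.card {g : G // (g * g = 1 ∧ g ≠ 1) ∧ ((g * D x) * (g * D x) = 1 ∧ g * D x ≠ 1)} := by
    apply Nat.card_congr
    refine ⟨fun p => ⟨p.1.1, ?_⟩, fun g => ⟨(g.1, g.1 * D x), ?_⟩, ?_, ?_⟩
    · obtain ⟨⟨u, v⟩, hu, hv, huv⟩ := p
      rw [hinv] at hu hv
      simp only at hu hv huv ⊢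
      have : u * D x = v := by rw [← huv, ← mul_assoc, hu.1, one_mul]
      rw [this]
      exact ⟨hu, hv⟩
    · obtain ⟨g, hg, hg'⟩ := g
      refine ⟨(hinv _).2 hg, (hinv _).2 hg', ?_⟩
      show g * (g * D x) = D x
      rw [← mul_assoc, hg.1, one_mul]
    · rintro ⟨⟨u, v⟩, hu, hv, huv⟩
      rw [hinv] at hu
      apply Subtype.ext
      apply Prod.ext
      · rfl
      · show u * D x = v
        simp only at huv hu
        rw [← huv, ← mul_assoc, hu.1, one_mul]
    · rintro ⟨g, hg⟩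
      rfl
  rw [h1]
  apply h.card
  · rintro g ⟨⟨hg1, -⟩, hg2, -⟩
    have h2 : g * D x * g = (D x)⁻¹ := by
      apply eq_inv_of_mul_eq_one_left
      rw [mul_assoc]; exact hg2
    have hg3 : g⁻¹ = g := inv_eq_of_mul_eq_one_left hg1
    have h3 : g * t * g = t⁻¹ := by
      have h4 : (g * D x * g⁻¹) ^ m = g * t * g⁻¹ := by
        rw [conj_pow, hm]
      rw [hg3] at h4
      rw [← h4, h2, inv_pow, hm]
    have h5 : t⁻¹ = t := inv_eq_of_mul_eq_one_left h.sq
    rw [h5] at h3
    calc g * t = g * t * (g * g) := by rw [hg1, mul_one]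
      _ = (g * t * g) * g := by group
      _ = t * g := by rw [h3]
  · intro i hi
    have hix := mulN_lt hi hx
    rw [h.mul i hi x hx, h.mul i hi i hi, h.mul _ hix _ hix, ← h.one]
    unfold ip
    rw [Bool.and_eq_true, Bool.and_eq_true, Bool.and_eq_true]
    constructor
    · rintro ⟨⟨a1, a2⟩, a3, a4⟩
      refine ⟨CodeTab.beq_of_eq (h.inj _ (mulN_lt hi hi) _ (by norm_num) a1), ?_,
        CodeTab.beq_of_eq (h.inj _ (mulN_lt hix hix) _ (by norm_num) a3), ?_⟩
      · apply Nat.ble_eq_true_of_le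
        rcases Nat.eq_zero_or_pos i with h0 | h0
        · rw [h0] at a2; exact absurd rfl a2
        · exact h0
      · apply Nat.ble_eq_true_of_le
        rcases Nat.eq_zero_or_pos (mulN i x) with h0 | h0
        · rw [h0] at a4; exact absurd rfl a4
        · exact h0
    · rintro ⟨a1, a2, a3, a4⟩
      have b2 : 1 ≤ i := Nat.le_of_ble_eq_true a2
      have b4 : 1 ≤ mulN i x := Nat.le_of_ble_eq_true a4
      refine ⟨⟨by rw [eq_of_beq a1], ?_⟩, by rw [eq_of_beq a3], ?_⟩
      · intro e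
        have := h.inj i hi 0 (by norm_num) e
        omega
      · intro e
        have := h.inj _ hix 0 (by norm_num) e
        omega

/-! ### Classes -/

theorem Coded.pow4 (h : Coded t D) : D 1 ^ 2 = t := (h.pw_t (by norm_num) 1).2 pow_reps.1
theorem Coded.pow6 (h : Coded t D) : D 496 ^ 3 = t := (h.pw_t (by norm_num) 2).2 pow_reps.2.1
theorem Coded.pow8 (h : Coded t D) : D 97 ^ 4 = t := (h.pw_t (by norm_num) 3).2 pow_reps.2.2.1
theorem Coded.pow12 (h : Coded t D) : D 492 ^ 6 = t := (h.pw_t (by norm_num) 5).2 pow_reps.2.2.2.1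
theorem Coded.pow10a (h : Coded t D) : D 528 ^ 5 = t :=
  (h.pw_t (by norm_num) 4).2 pow_reps.2.2.2.2.1
theorem Coded.pow10b (h : Coded t D) : D 1456 ^ 5 = t :=
  (h.pw_t (by norm_num) 4).2 pow_reps.2.2.2.2.2.1
theorem Coded.pow10ab (h : Coded t D) : D 528 ^ 3 = D 1456 :=
  (h.pw_eq (by norm_num) (by norm_num) 2).2 pow_reps.2.2.2.2.2.2.1
theorem Coded.pow12' (h : Coded t D) : D 492 ^ 4 ≠ 1 := by
  intro h1
  exact pow_reps.2.2.2.2.2.2.2.1 ((h.pw_one (by norm_num) 3).1 h1)

/-- order from a power equal to `t` -/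
theorem Coded.order_dvd (h : Coded t D) {g : G} {m : ℕ} (hg : g ^ m = t) :
    orderOf g ∣ 2 * m ∧ ¬ orderOf g ∣ m := by
  constructor
  · apply orderOf_dvd_of_pow_eq_one
    rw [mul_comm, pow_mul, hg, _root_.sq, h.sq]
  · intro h1
    rw [orderOf_dvd_iff_pow_eq_one, hg] at h1
    exact h.t_ne h1

theorem Coded.ne (h : Coded t D) {i j : ℕ} (hi : i < 1920) (hj : j < 1920) (hij : i ≠ j) : D i ≠ D j :=
  fun e => hij (h.inj i hi j hj e)

theorem Coded.order4 (h : Coded t D) : orderOf (D 1) = 4 := by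
  obtain ⟨h1, h2⟩ := h.order_dvd h.pow4
  have h3 : orderOf (D 1) ≤ 4 := Nat.le_of_dvd (by norm_num) h1
  interval_cases orderOf (D 1) <;> revert h1 h2 <;> decide

theorem Coded.order8 (h : Coded t D) : orderOf (D 97) = 8 := by
  obtain ⟨h1, h2⟩ := h.order_dvd h.pow8
  have h3 : orderOf (D 97) ≤ 8 := Nat.le_of_dvd (by norm_num) h1
  interval_cases orderOf (D 97) <;> revert h1 h2 <;> decide

theorem order_ne_two (h : Coded t D) {i m : ℕ} (hi : i < 1920) (hi' : i ≠ 16)
    (hm : D i ^ (2 * m + 1) = t) : orderOf (D i) ≠ 2 := by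
  intro h1
  have h2 : D i ^ 2 = 1 := by rw [← h1]; exact pow_orderOf_eq_one _
  rw [pow_succ, pow_mul, h2, one_pow, one_mul, ← h.t_eq] at hm
  exact hi' (h.inj i hi 16 (by norm_num) hm)

theorem Coded.order6 (h : Coded t D) : orderOf (D 496) = 6 := by
  obtain ⟨h1, h2⟩ := h.order_dvd h.pow6
  have h3 : orderOf (D 496) ≤ 6 := Nat.le_of_dvd (by norm_num) h1
  have h4 := order_ne_two h (i := 496) (m := 1) (by norm_num) (by norm_num) h.pow6
  interval_cases orderOf (D 496) <;> revert h1 h2 h4 <;> decide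

theorem Coded.order10a (h : Coded t D) : orderOf (D 528) = 10 := by
  obtain ⟨h1, h2⟩ := h.order_dvd h.pow10a
  have h3 : orderOf (D 528) ≤ 10 := Nat.le_of_dvd (by norm_num) h1
  have h4 := order_ne_two h (i := 528) (m := 2) (by norm_num) (by norm_num) h.pow10a
  interval_cases orderOf (D 528) <;> revert h1 h2 h4 <;> decide

theorem Coded.order10b (h : Coded t D) : orderOf (D 1456) = 10 := by
  obtain ⟨h1, h2⟩ := h.order_dvd h.pow10b
  have h3 : orderOf (D 1456) ≤ 10 := Nat.le_of_dvd (by norm_num) h1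
  have h4 := order_ne_two h (i := 1456) (m := 2) (by norm_num) (by norm_num) h.pow10b
  interval_cases orderOf (D 1456) <;> revert h1 h2 h4 <;> decide

theorem Coded.order12 (h : Coded t D) : orderOf (D 492) = 12 := by
  obtain ⟨h1, h2⟩ := h.order_dvd h.pow12
  have h3 : orderOf (D 492) ≤ 12 := Nat.le_of_dvd (by norm_num) h1
  have h4 : orderOf (D 492) ≠ 4 := by
    intro h5
    apply h.pow12'
    rw [← h5]; exact pow_orderOf_eq_one _
  interval_cases orderOf (D 492) <;> revert h1 h2 h4 <;> decide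

theorem orderOf_conj' {a b : G} (hab : IsConj a b) : orderOf a = orderOf b := by
  rw [isConj_iff] at hab
  obtain ⟨c, rfl⟩ := hab
  exact (orderOf_injective (MulAut.conj c).toMonoidHom (MulAut.conj c).injective a).symm

section classes

variable (h : Coded t D) (hall : ∀ g : G, orderOf g = 2 → IsConj t g)

include h hall

theorem conj_four {g : G} (hg : orderOf g = 4) : IsConj (D 1) g := by
  have h1 : orderOf (g ^ 2) = 2 := by
    rw [orderOf_pow' g (by norm_num), hg]; rfl
  obtain ⟨i, hi, h2, h3⟩ := h.root (hall _ h1)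
  have h4 : mulN i i = 16 := (h.pw_t hi 1).1 h3
  exact (h.conj (by norm_num) hi (root4 hi h4)).trans h2

theorem conj_eight {g : G} (hg : orderOf g = 8) : IsConj (D 97) g := by
  have h1 : orderOf (g ^ 4) = 2 := by
    rw [orderOf_pow' g (by norm_num), hg]; rfl
  obtain ⟨i, hi, h2, h3⟩ := h.root (hall _ h1)
  have h4 : CodeFacts.pw i 3 = 16 := (h.pw_t hi 3).1 h3
  exact (h.conj (by norm_num) hi (root8 hi h4)).trans h2

theorem no_sixteen {g : G} (hg : orderOf g = 16) : False := by
  have h1 : orderOf (g ^ 8) = 2 := by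
    rw [orderOf_pow' g (by norm_num), hg]; rfl
  obtain ⟨i, hi, h2, h3⟩ := h.root (hall _ h1)
  exact root16 hi ((h.pw_t hi 7).1 h3)

theorem conj_six {g : G} (hg : orderOf g = 6) : IsConj (D 496) g := by
  have h1 : orderOf (g ^ 3) = 2 := by
    rw [orderOf_pow' g (by norm_num), hg]; rfl
  obtain ⟨i, hi, h2, h3⟩ := h.root (hall _ h1)
  have h4 : CodeFacts.pw i 2 = 16 := (h.pw_t hi 2).1 h3
  have h5 : i ≠ 16 := by
    rintro rfl
    have h6 : orderOf g = 2 := by
      rw [isConj_iff] at h2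
      obtain ⟨c, rfl⟩ := h2
      rw [h.t_eq]
      rw [← h.t_order]
      exact orderOf_injective (MulAut.conj c).toMonoidHom (MulAut.conj c).injective t
    omega
  exact (h.conj (by norm_num) hi (root6 hi h4 h5)).trans h2

theorem conj_twelve {g : G} (hg : orderOf g = 12) : IsConj (D 492) g := by
  have h1 : orderOf (g ^ 6) = 2 := by
    rw [orderOf_pow' g (by norm_num), hg]; rfl
  obtain ⟨i, hi, h2, h3⟩ := h.root (hall _ h1)
  have h4 : CodeFacts.pw i 5 = 16 := (h.pw_t hi 5).1 h3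
  have h5 : CodeFacts.pw i 3 ≠ 0 := by
    intro h6
    have h7 : D i ^ 4 = 1 := (h.pw_one hi 3).2 h6
    have h8 : orderOf (D i) ∣ 4 := orderOf_dvd_of_pow_eq_one h7
    rw [orderOf_conj' h2, hg] at h8
    revert h8; decide
  exact (h.conj (by norm_num) hi (root12 hi h4 h5)).trans h2

theorem conj_ten {g : G} (hg : orderOf g = 10) : IsConj (D 528) g ∨ IsConj (D 1456) g := by
  have h1 : orderOf (g ^ 5) = 2 := by
    rw [orderOf_pow' g (by norm_num), hg]; rfl
  obtain ⟨i, hi, h2, h3⟩ := h.root (hall _ h1)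
  have h4 : CodeFacts.pw i 4 = 16 := (h.pw_t hi 4).1 h3
  have h5 : i ≠ 16 := by
    rintro rfl
    have h6 := orderOf_conj' h2
    rw [h.t_eq, h.t_order, hg] at h6
    omega
  rcases root10 hi h4 h5 with h6 | h6
  · exact Or.inl ((h.conj (by norm_num) hi h6).trans h2)
  · exact Or.inr ((h.conj (by norm_num) hi h6).trans h2)

end classes

/-- the two classes of elements of order 10 are different -/
theorem Coded.not_conj (h : Coded t D) : ¬ IsConj (D 528) (D 1456) := by
  intro h1
  rw [isConj_iff] at h1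
  obtain ⟨c, hc⟩ := h1
  have h2 : c * t = t * c := by
    have h3 : c * t * c⁻¹ = t := by
      rw [← h.pow10a, ← conj_pow, hc, h.pow10b, h.pow10a]
    calc c * t = c * t * c⁻¹ * c := by group
      _ = t * c := by rw [h3]
  obtain ⟨i, hi, rfl⟩ := h.surj c h2
  have h3 : D i * D 528 = D 1456 * D i := by
    rw [← hc]; group
  rw [h.mul i hi 528 (by norm_num), h.mul 1456 (by norm_num) i hi] at h3
  exact ten hi (h.inj _ (mulN_lt hi (by norm_num)) _ (mulN_lt (by norm_num) hi) h3)

end Cfsg.Agent.J3Type.CodeGroup
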