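import Mathlib
import Cfsg.Prelude.Def_Characters
import Cfsg.Agent.Characters.Core
import Cfsg.Agent.J3Type.CodeGroup
import Cfsg.Agent.J3Type.CharTools

/-!
# Averages of characters over coded subgroups
-/

set_option autoImplicit false

namespace Cfsg.Agent.J3Type.CodeAvg

open scoped ComplexConjugate
open Cfsg.Agent.J3Type.CodeTab Cfsg.Agent.J3Type.CodeFacts Cfsg.Agent.J3Type.CodeGroup
open Cfsg.Agent.J3Type.CharTools Cfsg.Agent.Characters.Core

universe u

/-- the loop in `sorted` -/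
def srt (L : List ℕ) : ℕ → Bool :=
  List.rec (motive := fun _ => ℕ → Bool) (fun _ => true) (fun a _ ih n => and (Nat.ble n a)
    (and (Nat.ble (Nat.succ a) 1920) (ih (Nat.succ a)))) L

theorem srt_spec (L : List ℕ) : ∀ n, srt L n = true → (∀ i ∈ L, n ≤ i ∧ i < 1920) ∧ L.Nodup := by
  induction L with
  | nil => intro n _; simp
  | cons a L ih =>
    intro n h
    have h1 : and (Nat.ble n a) (and (Nat.ble (Nat.succ a) 1920) (srt L (Nat.succ a))) = true := h
    rw [Bool.and_eq_true, Bool.and_eq_true] at h1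
    obtain ⟨h2, h3, h4⟩ := h1
    have h2' : n ≤ a := Nat.le_of_ble_eq_true h2
    have h3' : a < 1920 := Nat.le_of_ble_eq_true h3
    obtain ⟨h5, h6⟩ := ih _ h4
    refine ⟨?_, ?_⟩
    · intro i hi
      rcases List.mem_cons.1 hi with rfl | hi
      · exact ⟨h2', h3'⟩
      · have := h5 i hi
        omega
    · rw [List.nodup_cons]
      refine ⟨fun ha => ?_, h6⟩
      have := h5 a ha
      omega

theorem sorted_spec {L : List ℕ} (h : sorted L = true) : (∀ i ∈ L, i < 1920) ∧ L.Nodup := by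
  have := srt_spec L 0 h
  exact ⟨fun i hi => (this.1 i hi).2, this.2⟩

theorem closed_spec {M : ℕ} {L : List ℕ} (hc : closed M L = true) (hm : masked M L = true)
    (hs : sorted L = true) : ∀ a ∈ L, ∀ b ∈ L, mulN a b ∈ L := by
  intro a ha b hb
  have h1 := sorted_spec hs
  unfold closed at hc
  rw [List.all_eq_true] at hc
  have h2 := hc a ha
  rw [List.all_eq_true] at h2
  have h3 := h2 b hb
  have h4 := imp_spec (allN_spec _ _ hm (mulN a b) (mulN_lt (h1.1 a ha) (h1.1 b hb))) h3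
  rw [List.any_eq_true] at h4
  obtain ⟨c, hc1, hc2⟩ := h4
  rw [← eq_of_beq hc2]
  exact hc1

variable {G : Type u} [Group G] [Finite G] {t : G} {D : ℕ → G}

/-- the subgroup given by a list of codes -/
def sub (h : Coded t D) (L : List ℕ) (h1 : ∀ i ∈ L, i < 1920)
    (h2 : ∀ a ∈ L, ∀ b ∈ L, mulN a b ∈ L) (h0 : 0 ∈ L) : Subgroup G where
  carrier := {g | ∃ i ∈ L, D i = g}
  one_mem' := ⟨0, h0, h.one⟩
  mul_mem' := by
    rintro a b ⟨i, hi, rfl⟩ ⟨j, hj, rfl⟩
    exact ⟨mulN i j, h2 i hi j hj, (h.mul i (h1 i hi) j (h1 j hj)).symm⟩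
  inv_mem' := by
    rintro a ⟨i, hi, rfl⟩
    have key : ∀ k : ℕ, ∃ j ∈ L, D j = D i ^ k := by
      intro k
      induction k with
      | zero => exact ⟨0, h0, by rw [pow_zero, h.one]⟩
      | succ k ih =>
        obtain ⟨j, hj, e⟩ := ih
        exact ⟨mulN j i, h2 j hj i hi, by rw [← h.mul j (h1 j hj) i (h1 i hi), e, pow_succ]⟩
    obtain ⟨j, hj, e⟩ := key (orderOf (D i) - 1)
    refine ⟨j, hj, ?_⟩
    rw [e]
    apply eq_inv_of_mul_eq_one_left
    rw [← pow_succ, Nat.sub_add_cancel (orderOf_pos _), pow_orderOf_eq_one]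

theorem avg (h : Coded t D) {M : ℕ} {L : List ℕ} (hc : closed M L = true) (hm : masked M L = true)
    (hs : sorted L = true) (h0 : 0 ∈ L) {χ : G → ℂ} (hχ : IsCharacter G χ) :
    ∃ n : ℕ, (L.map (fun i => χ (D i))).sum = n * L.length := by
  classical
  have h1 := sorted_spec hs
  have h2 := closed_spec hc hm hs
  set H := sub h L h1.1 h2 h0 with hH
  have hmem : ∀ i ∈ L, D i ∈ H := fun i hi => ⟨i, hi, rfl⟩
  let _ := Fintype.ofFinite H
  obtain ⟨n, hn⟩ := classInner_isNat (isCharacter_comp H.subtype hχ) (isCharacter_one (G := H))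
  have hsum : ∀ f : G → ℂ, ∑ x : H, f x = (L.map (fun i => f (D i))).sum := by
    intro f
    rw [← List.sum_toFinset (fun i => f (D i)) h1.2]
    symm
    refine Finset.sum_bij (fun i hi => ⟨D i, hmem i (List.mem_toFinset.1 hi)⟩) ?_ ?_ ?_ ?_
    · intro i hi
      exact Finset.mem_univ _
    · intro i hi j hj e
      exact h.inj i (h1.1 i (List.mem_toFinset.1 hi)) j (h1.1 j (List.mem_toFinset.1 hj))
        (congrArg Subtype.val e)
    · rintro ⟨g, i, hi, e⟩ _
      exact ⟨i, List.mem_toFinset.2 hi, Subtype.ext e⟩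
    · intro i hi
      rfl
  have hcard : (Nat.card H : ℂ) = L.length := by
    have h3 := hsum (fun _ => 1)
    rw [Finset.sum_const, Finset.card_univ, nsmul_eq_mul, mul_one, ← Nat.card_eq_fintype_card] at h3
    rw [h3]
    simp
  refine ⟨n, ?_⟩
  rw [← hsum χ, ← hn, ← hcard, classInner_def]
  have hne : (Nat.card H : ℂ) ≠ 0 := card_ne_zero_complex
  field_simp
  refine Finset.sum_congr rfl fun x _ => ?_
  simp

theorem sum_count (f : ℕ → ℂ) (M : List ℕ) (hM : M.all (fun m => Nat.ble m 3) = true) :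
    (M.map f).sum = M.count 0 * f 0 + M.count 1 * f 1 + M.count 2 * f 2 + M.count 3 * f 3 := by
  induction M with
  | nil => simp
  | cons a M ih =>
    rw [List.all_cons, Bool.and_eq_true] at hM
    have h1 : a ≤ 3 := Nat.le_of_ble_eq_true hM.1
    rw [List.map_cons, List.sum_cons, ih hM.2, List.count_cons, List.count_cons, List.count_cons,
      List.count_cons]
    interval_cases a <;> simp <;> ring

/-- meaning of `cl` -/
theorem cl_spec (i : ℕ) : (cl i = 0 → i = 0) ∧ (cl i = 1 → i ≠ 0 ∧ pw i 1 = 0) ∧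
    (cl i = 2 → pw i 1 ≠ 0 ∧ pw i 3 = 0) ∧ (cl i = 3 → pw i 3 ≠ 0 ∧ pw i 7 = 0) := by
  unfold cl
  rcases h0 : Nat.beq i 0 with _ | _
  · have g0 : i ≠ 0 := fun e => by
      rw [CodeTab.beq_of_eq e] at h0
      exact absurd h0 (by decide)
    rcases h1 : Nat.beq (pw i 1) 0 with _ | _
    · have g1 : pw i 1 ≠ 0 := fun e => by
        rw [CodeTab.beq_of_eq e] at h1
        exact absurd h1 (by decide)
      rcases h3 : Nat.beq (pw i 3) 0 with _ | _
      · have g3 : pw i 3 ≠ 0 := fun e => by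
          rw [CodeTab.beq_of_eq e] at h3
          exact absurd h3 (by decide)
        rcases h7 : Nat.beq (pw i 7) 0 with _ | _
        · simp
        · simp [g3, eq_of_beq h7]
      · simp [g1, eq_of_beq h3]
    · simp [g0, eq_of_beq h1]
  · simp [eq_of_beq h0]

variable (h : Coded t D) (hall : ∀ g : G, orderOf g = 2 → IsConj t g)

include h hall

omit [Finite G] in
theorem order_two {i : ℕ} (hi : i < 1920) (h0 : i ≠ 0) (h1 : pw i 1 = 0) : IsConj t (D i) := by
  apply hall
  rw [orderOf_eq_prime_iff]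
  refine ⟨(h.pw_one hi 1).2 h1, ?_⟩
  rw [← h.one]
  exact h.ne hi (by norm_num) h0

omit [Finite G] in
theorem order_four {i : ℕ} (hi : i < 1920) (h1 : pw i 1 ≠ 0) (h3 : pw i 3 = 0) :
    IsConj (D 1) (D i) := by
  apply conj_four h hall
  have e1 : D i ^ 4 = 1 := (h.pw_one hi 3).2 h3
  have e2 : D i ^ 2 ≠ 1 := fun e => h1 ((h.pw_one hi 1).1 e)
  exact orderOf_eq_prime_pow (p := 2) (n := 1) e2 e1

omit [Finite G] in
theorem order_eight {i : ℕ} (hi : i < 1920) (h3 : pw i 3 ≠ 0) (h7 : pw i 7 = 0) :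
    IsConj (D 97) (D i) := by
  apply conj_eight h hall
  have e1 : D i ^ 8 = 1 := (h.pw_one hi 7).2 h7
  have e2 : D i ^ 4 ≠ 1 := fun e => h3 ((h.pw_one hi 3).1 e)
  exact orderOf_eq_prime_pow (p := 2) (n := 2) e2 e1

/-- the average over a coded 2-subgroup -/
theorem avg_two {M : ℕ} {L : List ℕ} (hc : closed M L = true) (hm : masked M L = true)
    (hs : sorted L = true) (h0 : 0 ∈ L) (hL : (L.map cl).all (fun m => Nat.ble m 3) = true)
    {χ : G → ℂ} (hχ : IsCharacter G χ) {v1 v2 v4 v8 : ℤ} (e1 : χ 1 = v1) (e2 : χ t = v2)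
    (e4 : χ (D 1) = v4) (e8 : χ (D 97) = v8) : ∃ n : ℤ, (L.map cl).count 0 * v1 +
      (L.map cl).count 1 * v2 + (L.map cl).count 2 * v4 + (L.map cl).count 3 * v8 = n * L.length := by
  obtain ⟨n, hn⟩ := avg h hc hm hs h0 hχ
  refine ⟨n, ?_⟩
  let f : ℕ → ℂ := fun c => if c = 0 then v1 else if c = 1 then v2 else if c = 2 then v4 else v8
  have h1 : L.map (fun i => χ (D i)) = (L.map cl).map f := by
    rw [List.map_map]
    apply List.map_congr_left
    intro i hi
    have hi' := (sorted_spec hs).1 i hi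
    have h2 : cl i ≤ 3 := by
      rw [List.all_eq_true] at hL
      exact Nat.le_of_ble_eq_true (hL (cl i) (List.mem_map_of_mem hi))
    obtain ⟨c0, c1, c2, c3⟩ := cl_spec i
    show χ (D i) = f (cl i)
    have h3 : cl i = 0 ∨ cl i = 1 ∨ cl i = 2 ∨ cl i = 3 := by omega
    rcases h3 with h3 | h3 | h3 | h3
    · rw [h3, c0 h3, h.one]; exact e1
    · rw [h3, ← class_eq hχ (order_two h hall hi' (c1 h3).1 (c1 h3).2)]; exact e2
    · rw [h3, ← class_eq hχ (order_four h hall hi' (c2 h3).1 (c2 h3).2)]; exact e4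
    · rw [h3, ← class_eq hχ (order_eight h hall hi' (c3 h3).1 (c3 h3).2)]; exact e8
  rw [h1, sum_count f _ hL] at hn
  have f0 : f 0 = v1 := rfl
  have f1 : f 1 = v2 := rfl
  have f2 : f 2 = v4 := rfl
  have f3 : f 3 = v8 := rfl
  rw [f0, f1, f2, f3] at hn
  exact_mod_cast hn

end Cfsg.Agent.J3Type.CodeAvg
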