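import Mathlib
import Cfsg.Prelude.Def_Characters
import Cfsg.Agent.Characters.Core
import Cfsg.Agent.J3Type.CodeAvg
import Cfsg.Agent.S0135

/-!
# The values of one irreducible character
-/

set_option autoImplicit false

namespace Cfsg.Agent.J3Type.CharRow

open scoped ComplexConjugate
open Cfsg.Agent.J3Type.CodeTab Cfsg.Agent.J3Type.CodeFacts Cfsg.Agent.J3Type.CodeGroup
open Cfsg.Agent.J3Type.CharTools Cfsg.Agent.Characters.Core Cfsg.Agent.J3Type.CodeAvg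

universe u

/-- the values of an irreducible character and their congruences -/
structure Row {G : Type u} [Group G] (t : G) (D : ℕ → G) (s : ℂ) (N : ℤ) (χ : G → ℂ)
    (V : Fin 8 → ℤ) : Prop where
  e0 : χ 1 = V 0
  e1 : χ t = V 1
  e2 : χ (D 1) = V 2
  e3 : χ (D 496) = V 3
  e4 : χ (D 97) = V 4
  e5 : χ (D 492) = V 5
  e6 : χ (D 528) + χ (D 1456) = V 6
  e7 : χ (D 528) - χ (D 1456) = V 7 * s
  hpos : 0 < V 0
  hdvd : V 0 ∣ N
  c1 : (4 : ℤ) ∣ V 1 - V 2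
  c2 : (2 : ℤ) ∣ V 3 - V 5
  c3 : (3 : ℤ) ∣ V 1 - V 3
  c4 : (8 : ℤ) ∣ V 1 + V 2 - 2 * V 4
  c5 : (3 : ℤ) ∣ V 2 - V 5
  c6 : (5 : ℤ) ∣ V 1 + 2 * V 6
  c7 : (2 : ℤ) ∣ V 7 - V 6
  c8 : (128 : ℤ) ∣ V 0 + 35 * V 1 + 44 * V 2 + 48 * V 4

variable {G : Type u} [Group G] [Finite G] {t : G} {D : ℕ → G}

theorem degree_dvd {χ : G → ℂ} (hχ : IsIrrCharacter G χ) {v : ℤ} (hv : χ 1 = v) :
    v ∣ (Nat.card G : ℤ) := by
  obtain ⟨n, ρ, hρ, rfl⟩ := hχ
  have := hρ
  have h1 := Cfsg.Agent.S0135.result ρ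
  rw [Representation.char_one] at hv
  have h2 : v = (Module.finrank ℂ (Fin n → ℂ) : ℤ) := by exact_mod_cast hv.symm
  rw [h2]
  exact_mod_cast h1

theorem rev_a : mulN 352 528 = mulN (pw 528 8) 352 ∧ mulN 352 1456 = mulN (pw 528 6) 352 := by
  decide +kernel

omit [Finite G] in
theorem conj9 (h : Coded t D) : IsConj (D 528) (D 528 ^ 9) := by
  have h1 : D (pw 528 8) = D 528 ^ 9 := h.pw (by norm_num) 8
  rw [← h1]
  exact (h.conj (pw_lt (by norm_num) 8) (by norm_num) ⟨352, by norm_num, rev_a.1⟩).symm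

omit [Finite G] in
theorem conj7 (h : Coded t D) : IsConj (D 528 ^ 3) (D 528 ^ 7) := by
  have h1 : D (pw 528 6) = D 528 ^ 7 := h.pw (by norm_num) 6
  rw [← h1, h.pow10ab]
  exact (h.conj (pw_lt (by norm_num) 6) (by norm_num) ⟨352, by norm_num, rev_a.2⟩).symm

theorem exists_row (h : Coded t D) (hall : ∀ g : G, orderOf g = 2 → IsConj t g) {ζ : ℂ}
    (hζ : ζ ^ 5 = 1) (hs : (ζ + ζ ^ 4 - ζ ^ 2 - ζ ^ 3) ^ 2 = 5) {χ : G → ℂ}
    (hχ : IsIrrCharacter G χ) : ∃ V : Fin 8 → ℤ, Row t D (ζ + ζ ^ 4 - ζ ^ 2 - ζ ^ 3) (Nat.card G) χ V := by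
  have hc := isIrr_isCharacter hχ
  obtain ⟨n, hn, h0⟩ := isIrr_apply_one hχ
  obtain ⟨v2, h2⟩ := int_of_conj hc t (fun m hm => by
    apply hall
    rw [Nat.Coprime.orderOf_pow hm.symm, h.t_order])
  obtain ⟨v4, h4⟩ := int_of_conj hc (D 1) (fun m hm => by
    apply conj_four h hall
    rw [Nat.Coprime.orderOf_pow hm.symm, h.order4])
  obtain ⟨v6, h6⟩ := int_of_conj hc (D 496) (fun m hm => by
    apply conj_six h hall
    rw [Nat.Coprime.orderOf_pow hm.symm, h.order6])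
  obtain ⟨v8, h8⟩ := int_of_conj hc (D 97) (fun m hm => by
    apply conj_eight h hall
    rw [Nat.Coprime.orderOf_pow hm.symm, h.order8])
  obtain ⟨v12, h12⟩ := int_of_conj hc (D 492) (fun m hm => by
    apply conj_twelve h hall
    rw [Nat.Coprime.orderOf_pow hm.symm, h.order12])
  obtain ⟨w, r, hw, hr, hwr⟩ := golden hc h.order10a (conj9 h) (conj7 h) hζ hs
  rw [h.pow10ab] at hw hr
  have h0' : χ 1 = ((n : ℤ) : ℂ) := by rw [h0]; simp
  -- averages
  obtain ⟨nE, hE⟩ := avg_two h hall closedE maskedE sortedE (by decide) cl_lt.1 hc h0' h2 h4 h8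
  obtain ⟨nT, hT⟩ := avg_two h hall closedT maskedT sortedT (by decide) cl_lt.2.1 hc h0' h2 h4 h8
  obtain ⟨nA, hA⟩ := avg_two h hall closedA maskedA sortedA (by decide) cl_lt.2.2.1 hc h0' h2 h4 h8
  obtain ⟨nS, hS⟩ := avg_two h hall closedS maskedS sortedS (by decide) cl_lt.2.2.2 hc h0' h2 h4 h8
  rw [clE.1, clE.2.1, clE.2.2.1, clE.2.2.2.1, clE.2.2.2.2] at hE
  rw [clT.1, clT.2.1, clT.2.2.1, clT.2.2.2.1, clT.2.2.2.2] at hT
  rw [clA.1, clA.2.1, clA.2.2.1, clA.2.2.2.1, clA.2.2.2.2] at hA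
  rw [clS.1, clS.2.1, clS.2.2.1, clS.2.2.2.1, clS.2.2.2.2] at hS
  push_cast at hE hT hA hS
  -- congruences
  have k2 : ((2 : ℕ) : ℤ) ∣ v12 - v6 := by
    refine int_congr hc (D 492) Nat.prime_two h12 ?_
    rw [← h6]
    refine (class_eq hc (conj_six h hall ?_)).symm
    rw [orderOf_pow' _ (by norm_num), h.order12]; rfl
  have k3 : ((3 : ℕ) : ℤ) ∣ v6 - v2 := by
    refine int_congr hc (D 496) Nat.prime_three h6 ?_
    rw [h.pow6]; exact h2
  have k5 : ((3 : ℕ) : ℤ) ∣ v12 - v4 := by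
    refine int_congr hc (D 492) Nat.prime_three h12 ?_
    rw [← h4]
    refine (class_eq hc (conj_four h hall ?_)).symm
    rw [orderOf_pow' _ (by norm_num), h.order12]; rfl
  have k6 : ((5 : ℕ) : ℤ) ∣ w - (v2 + v2) := by
    refine int_congr_two hc (D 528) (D 1456) Nat.prime_five hw ?_ ?_
    · rw [h.pow10a]; exact h2
    · rw [h.pow10b]; exact h2
  push_cast at k2 k3 k5 k6
  have hdv := degree_dvd hχ h0'
  refine ⟨![(n : ℤ), v2, v4, v6, v8, v12, w, r], ?_⟩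
  exact
    { e0 := h0'
      e1 := h2
      e2 := h4
      e3 := h6
      e4 := h8
      e5 := h12
      e6 := hw
      e7 := hr
      hpos := by
        show (0 : ℤ) < n
        omega
      hdvd := hdv
      c1 := by
        show (4 : ℤ) ∣ v2 - v4
        omega
      c2 := by
        show (2 : ℤ) ∣ v6 - v12
        omega
      c3 := by
        show (3 : ℤ) ∣ v2 - v6
        omega
      c4 := by
        show (8 : ℤ) ∣ v2 + v4 - 2 * v8
        omega
      c5 := by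
        show (3 : ℤ) ∣ v4 - v12
        omega
      c6 := by
        show (5 : ℤ) ∣ v2 + 2 * w
        omega
      c7 := hwr
      c8 := by
        show (128 : ℤ) ∣ (n : ℤ) + 35 * v2 + 44 * v4 + 48 * v8
        omega }

end Cfsg.Agent.J3Type.CharRow
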