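import Mathlib
import Cfsg.Prelude.Def_Characters
import Cfsg.Agent.Characters.Core
import Cfsg.Agent.Characters.CentralCharacter
import Cfsg.Agent.J3Type.CodeAvg
import Cfsg.Agent.S0875

/-!
# The number of 2-elements
-/

set_option autoImplicit false

namespace Cfsg.Agent.J3Type.CharTwo

open scoped ComplexConjugate
open Cfsg.Agent.J3Type.CodeTab Cfsg.Agent.J3Type.CodeFacts Cfsg.Agent.J3Type.CodeGroup
open Cfsg.Agent.J3Type.CharTools Cfsg.Agent.Characters.Core Cfsg.Agent.J3Type.CodeAvg

universe u

variable {G : Type u} [Group G]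

/-- the number of elements of 2-power order is divisible by the 2-part of the group order -/
theorem two_part_dvd [Fintype G] (m n : ℕ) (hmn : Nat.card G = m * n) (hcop : Nat.Coprime m n) :
    m ∣ Nat.card {x : G // orderOf x ∣ m} := by
  classical
  have hcard : 0 < Nat.card G := Nat.card_pos
  have hm0 : m ≠ 0 := by rintro rfl; rw [zero_mul] at hmn; omega
  have hn0 : n ≠ 0 := by rintro rfl; rw [mul_zero] at hmn; omega
  obtain ⟨c, hc, e⟩ := Cfsg.Agent.S0875.result m n hmn hcop (1 : G) (by simp)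
    (fun x => if orderOf x ∣ m then (n : ℂ) else 0) (by
      rintro x ⟨v, hv, u, hx, -, hu, -⟩
      have hv1 : v = 1 := by
        rw [isConj_iff] at hv
        obtain ⟨c, hc⟩ := hv
        calc v = c⁻¹ * (c * v * c⁻¹) * c := by group
          _ = 1 := by rw [hc]; group
      rw [hv1, mul_one] at hx
      subst hx
      show (if orderOf x ∣ m then (n : ℂ) else 0) = n
      rw [if_pos]
      apply hu.dvd_of_dvd_mul_right
      rw [← hmn]
      exact orderOf_dvd_natCard x) (by
      intro x hx
      show (if orderOf x ∣ m then (n : ℂ) else 0) = 0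
      rw [if_neg]
      intro hd
      apply hx
      refine ⟨1, IsConj.refl 1, x, (mul_one x).symm, Commute.one_right x, ?_, ?_⟩
      · exact Nat.Coprime.coprime_dvd_left hd hcop
      · simp)
  have := finite_irr (G := G)
  let _ := Fintype.ofFinite (IrrCharacter G)
  rw [finsum_eq_sum_of_fintype] at e
  have h1 : classInner (fun x : G => if orderOf x ∣ m then (n : ℂ) else 0) (1 : G → ℂ)
      = c ⟨1, isIrr_one⟩ := by
    rw [e]
    exact classInner_sum_smul_irr c ⟨1, isIrr_one⟩
  rw [classInner_def] at h1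
  have h2 : ∑ g : G, (if orderOf g ∣ m then (n : ℂ) else 0) * conj ((1 : G → ℂ) g)
      = n * (Nat.card {x : G // orderOf x ∣ m} : ℂ) := by
    have h3 : ∀ g : G, (if orderOf g ∣ m then (n : ℂ) else 0) * conj ((1 : G → ℂ) g)
      = n * (if orderOf g ∣ m then (1 : ℂ) else 0) := by
      intro g
      simp
    rw [Finset.sum_congr rfl fun g _ => h3 g, ← Finset.mul_sum]
    congr 1
    rw [← Finset.sum_filter, Finset.sum_const, nsmul_eq_mul, mul_one, Nat.card_eq_fintype_card,
      Fintype.card_subtype]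
  rw [h2, hmn] at h1
  have h3 := hc ⟨1, isIrr_one⟩
  rw [← h1] at h3
  have h4 : ((m * n : ℕ) : ℂ)⁻¹ * (n * (Nat.card {x : G // orderOf x ∣ m} : ℂ))
      = (Nat.card {x : G // orderOf x ∣ m} : ℂ) / m := by
    have a1 : (m : ℂ) ≠ 0 := Nat.cast_ne_zero.2 hm0
    have a2 : (n : ℂ) ≠ 0 := Nat.cast_ne_zero.2 hn0
    push_cast
    field_simp
  rw [h4] at h3
  have h5 : IsIntegral ℤ ((Nat.card {x : G // orderOf x ∣ m} : ℂ) / m) := h3
  have h6 : (m : ℤ) ∣ ((Nat.card {x : G // orderOf x ∣ m} : ℕ) : ℤ) := by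
    refine dvd_of_integral hm0 h5 ?_
    have a1 : (m : ℂ) ≠ 0 := Nat.cast_ne_zero.2 hm0
    push_cast
    field_simp
  exact_mod_cast h6

theorem card_class [Finite G] {x : G} {c j k : ℕ} (hN : Nat.card G = 1920 * j)
    (hc : Nat.card (Subgroup.centralizer ({x} : Set G)) = c) (hk : c * k = 1920) :
    Nat.card {y : G // IsConj x y} = k * j := by
  have h1 := Cfsg.Agent.Characters.CentralCharacter.index_centralizer_eq_card (G := G) x
  have h2 := Subgroup.card_mul_index (Subgroup.centralizer ({x} : Set G))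
  rw [h1, hc, hN, ← hk, mul_assoc] at h2
  have hc0 : 0 < c := by
    rw [← hc]; exact Nat.card_pos
  exact Nat.eq_of_mul_eq_mul_left hc0 h2

variable {t : G} {D : ℕ → G}

theorem cards (h : Coded t D) :
    Nat.card (Subgroup.centralizer ({D 1} : Set G)) = 96 ∧
    Nat.card (Subgroup.centralizer ({D 496} : Set G)) = 24 ∧
    Nat.card (Subgroup.centralizer ({D 97} : Set G)) = 8 ∧
    Nat.card (Subgroup.centralizer ({D 492} : Set G)) = 12 ∧
    Nat.card (Subgroup.centralizer ({D 528} : Set G)) = 10 ∧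
    Nat.card (Subgroup.centralizer ({D 1456} : Set G)) = 10 := by
  refine ⟨?_, ?_, ?_, ?_, ?_, ?_⟩
  · rw [h.card_centralizer (by norm_num) h.pow4, card_cm4]
  · rw [h.card_centralizer (by norm_num) h.pow6, card_cm6]
  · rw [h.card_centralizer (by norm_num) h.pow8, card_cm8]
  · rw [h.card_centralizer (by norm_num) h.pow12, card_cm12]
  · rw [h.card_centralizer (by norm_num) h.pow10a, card_cm10a]
  · rw [h.card_centralizer (by norm_num) h.pow10b, card_cm10b]

theorem mod_eq [Finite G] (h : Coded t D) (hall : ∀ g : G, orderOf g = 2 → IsConj t g) {j : ℕ}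
    (hN : Nat.card G = 1920 * j) : j % 128 = 51 := by
  classical
  let _ := Fintype.ofFinite G
  have hj : 0 < j := by
    have : 0 < Nat.card G := Nat.card_pos
    omega
  set a := (Nat.card G).factorization 2 with ha
  have hmn : Nat.card G = 2 ^ a * (Nat.card G / 2 ^ a) := (Nat.ordProj_mul_ordCompl_eq_self _ 2).symm
  have hcop : Nat.Coprime (2 ^ a) (Nat.card G / 2 ^ a) :=
    Nat.Coprime.pow_left a (Nat.coprime_ordCompl Nat.prime_two Nat.card_pos.ne')
  have hdvd := two_part_dvd (2 ^ a) _ hmn hcop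
  have h128 : 128 ∣ 2 ^ a := by
    have h1 : 2 ^ 7 ∣ Nat.card G := ⟨15 * j, by rw [hN]; ring⟩
    have h2 : 7 ≤ a := (Nat.Prime.pow_dvd_iff_le_factorization Nat.prime_two Nat.card_pos.ne').1 h1
    exact pow_dvd_pow 2 h2
  have horder : ∀ x : G, orderOf x ∣ 2 ^ a ↔
      (orderOf x = 1 ∨ orderOf x = 2 ∨ orderOf x = 4 ∨ orderOf x = 8) := by
    intro x
    constructor
    · intro hx
      obtain ⟨k, -, hk⟩ := (Nat.dvd_prime_pow Nat.prime_two).1 hx
      rcases Nat.lt_or_ge k 4 with hk4 | hk4
      · interval_cases k <;> simp [hk]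
      · exfalso
        apply no_sixteen h hall (g := x ^ (2 ^ (k - 4)))
        rw [orderOf_pow' x (by positivity), hk, Nat.gcd_eq_right (pow_dvd_pow 2 (by omega)),
          Nat.pow_div (by omega) (by norm_num)]
        rw [show k - (k - 4) = 4 by omega]
    · rintro (hx | hx | hx | hx) <;> rw [hx]
      · exact one_dvd _
      · exact dvd_trans (by norm_num) h128
      · exact dvd_trans (by norm_num) h128
      · exact dvd_trans (by norm_num) h128
  have hcount : Nat.card {x : G // orderOf x ∣ 2 ^ a} = 1 + 261 * j := by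
    obtain ⟨c4, -, c8, -, -, -⟩ := cards h
    have k2 := card_class hN h.card_centralizer_t (k := 1) (by norm_num)
    have k4 := card_class hN c4 (k := 20) (by norm_num)
    have k8 := card_class hN c8 (k := 240) (by norm_num)
    have i2 : ∀ x, IsConj t x ↔ orderOf x = 2 := fun x =>
      ⟨fun hx => by rw [← orderOf_conj' hx, h.t_order], hall x⟩
    have i4 : ∀ x, IsConj (D 1) x ↔ orderOf x = 4 := fun x =>
      ⟨fun hx => by rw [← orderOf_conj' hx, h.order4], conj_four h hall⟩
    have i8 : ∀ x, IsConj (D 97) x ↔ orderOf x = 8 := fun x =>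
      ⟨fun hx => by rw [← orderOf_conj' hx, h.order8], conj_eight h hall⟩
    have i1 : Nat.card {x : G // orderOf x = 1} = 1 := by
      rw [Nat.card_eq_one_iff_unique]
      refine ⟨⟨?_⟩, ⟨⟨1, orderOf_one⟩⟩⟩
      rintro ⟨x, hx⟩ ⟨y, hy⟩
      rw [orderOf_eq_one_iff] at hx hy
      subst hx
      subst hy
      rfl
    have f2 : Nat.card {x : G // orderOf x = 2} = 1 * j := by
      rw [← k2]
      exact Nat.card_congr (Equiv.subtypeEquivRight fun x => (i2 x).symm)
    have f4 : Nat.card {x : G // orderOf x = 4} = 20 * j := by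
      rw [← k4]
      exact Nat.card_congr (Equiv.subtypeEquivRight fun x => (i4 x).symm)
    have f8 : Nat.card {x : G // orderOf x = 8} = 240 * j := by
      rw [← k8]
      exact Nat.card_congr (Equiv.subtypeEquivRight fun x => (i8 x).symm)
    rw [Nat.card_eq_fintype_card, Fintype.card_subtype] at i1 f2 f4 f8
    rw [Nat.card_eq_fintype_card, Fintype.card_subtype, Finset.card_filter]
    rw [Finset.card_filter] at i1 f2 f4 f8
    have hpt : ∀ x : G, (if orderOf x ∣ 2 ^ a then 1 else 0 : ℕ) = (if orderOf x = 1 then 1 else 0)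
        + (if orderOf x = 2 then 1 else 0) + (if orderOf x = 4 then 1 else 0)
        + (if orderOf x = 8 then 1 else 0) := by
      intro x
      have := horder x
      by_cases hx : orderOf x ∣ 2 ^ a
      · rw [if_pos hx]
        rcases this.1 hx with h1 | h1 | h1 | h1 <;> rw [h1] <;> norm_num
      · rw [if_neg hx]
        rw [this] at hx
        push Not at hx
        rw [if_neg hx.1, if_neg hx.2.1, if_neg hx.2.2.1, if_neg hx.2.2.2]
    rw [Finset.sum_congr rfl fun x _ => hpt x, Finset.sum_add_distrib, Finset.sum_add_distrib,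
      Finset.sum_add_distrib, i1, f2, f4, f8]
    ring
  rw [hcount] at hdvd
  have h1 : 128 ∣ 1 + 261 * j := dvd_trans h128 hdvd
  omega

end Cfsg.Agent.J3Type.CharTwo
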