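import Mathlib
import Cfsg.Prelude.Def_Characters
import Cfsg.Agent.Characters.Core
import Cfsg.Agent.J3Type.CharRow
import Cfsg.Agent.J3Type.CharTwo
import Cfsg.Agent.J3Type.CharComb
import Cfsg.Agent.S0145
import Cfsg.Agent.S0840

/-!
# The order of a group with one class of involutions and coded involution centralizer
-/

set_option autoImplicit false

namespace Cfsg.Agent.J3Type.CharOrder

open scoped ComplexConjugate
open Cfsg.Agent.J3Type.CodeTab Cfsg.Agent.J3Type.CodeFacts Cfsg.Agent.J3Type.CodeGroup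
open Cfsg.Agent.J3Type.CharTools Cfsg.Agent.Characters.Core Cfsg.Agent.J3Type.CodeAvg
open Cfsg.Agent.J3Type.CharRow Cfsg.Agent.J3Type.CharTwo Cfsg.Agent.J3Type.CharComb

universe u

variable {G : Type u} [Group G] {t : G} {D : ℕ → G}

/-- representatives of the classes used -/
def y (t : G) (D : ℕ → G) : Fin 8 → G := ![1, t, D 1, D 496, D 97, D 492, D 528, D 1456]

/-- their orders -/
def ord : Fin 8 → ℕ := ![1, 2, 4, 6, 8, 12, 10, 10]

/-- the orders of their centralizers -/
def cc (j : ℕ) : Fin 8 → ℕ := ![1920 * j, 1920, 96, 24, 8, 12, 10, 10]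

theorem ord_y (h : Coded t D) : ∀ a, orderOf (y t D a) = ord a := by
  intro a
  fin_cases a
  · exact orderOf_one
  · exact h.t_order
  · exact h.order4
  · exact h.order6
  · exact h.order8
  · exact h.order12
  · exact h.order10a
  · exact h.order10b

theorem cc_y [Finite G] (h : Coded t D) {j : ℕ} (hN : Nat.card G = 1920 * j) :
    ∀ a, Nat.card (Subgroup.centralizer ({y t D a} : Set G)) = cc j a := by
  obtain ⟨c4, c6, c8, c12, ca, cb⟩ := cards h
  intro a
  fin_cases a
  · show Nat.card (Subgroup.centralizer ({1} : Set G)) = 1920 * j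
    have : Subgroup.centralizer ({1} : Set G) = ⊤ := by
      rw [eq_top_iff]
      intro g _
      rw [Subgroup.mem_centralizer_singleton_iff]
      simp
    rw [this, ← hN]
    exact Nat.card_congr Subgroup.topEquiv.toEquiv
  · exact h.card_centralizer_t
  · exact c4
  · exact c6
  · exact c8
  · exact c12
  · exact ca
  · exact cb

theorem ord_eq : ∀ a b : Fin 8, a ≠ b → ord a = ord b → (a = 6 ∧ b = 7) ∨ (a = 7 ∧ b = 6) := by
  decide

theorem y_not_conj (h : Coded t D) (a b : Fin 8) (hab : a ≠ b) : ¬ IsConj (y t D a) (y t D b) := by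
  intro hc
  have h1 := orderOf_conj' hc
  rw [ord_y h, ord_y h] at h1
  rcases ord_eq a b hab h1 with ⟨rfl, rfl⟩ | ⟨rfl, rfl⟩
  · exact h.not_conj hc
  · exact h.not_conj hc.symm

theorem y_real (h : Coded t D) (hall : ∀ g : G, orderOf g = 2 → IsConj t g) (a : Fin 8) :
    IsConj (y t D a)⁻¹ (y t D a) := by
  have h10 : D 528 ^ 10 = 1 := by
    have := pow_orderOf_eq_one (D 528)
    rw [h.order10a] at this
    exact this
  fin_cases a
  · show IsConj (1 : G)⁻¹ 1
    rw [inv_one]
  · show IsConj t⁻¹ t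
    rw [inv_eq_of_mul_eq_one_left h.sq]
  · exact (conj_four h hall ((orderOf_inv (D 1)).trans h.order4)).symm
  · exact (conj_six h hall ((orderOf_inv (D 496)).trans h.order6)).symm
  · exact (conj_eight h hall ((orderOf_inv (D 97)).trans h.order8)).symm
  · exact (conj_twelve h hall ((orderOf_inv (D 492)).trans h.order12)).symm
  · show IsConj (D 528)⁻¹ (D 528)
    have h1 : (D 528)⁻¹ = D 528 ^ 9 := by
      apply inv_eq_of_mul_eq_one_left
      rw [← pow_succ]
      exact h10
    rw [h1]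
    exact (conj9 h).symm
  · show IsConj (D 1456)⁻¹ (D 1456)
    have h1 : (D 1456)⁻¹ = D 528 ^ 7 := by
      rw [← h.pow10ab]
      apply inv_eq_of_mul_eq_one_left
      rw [← pow_add]
      exact h10
    rw [h1, ← h.pow10ab]
    exact (conj7 h).symm

theorem conj_val [Finite G] (h : Coded t D) (hall : ∀ g : G, orderOf g = 2 → IsConj t g) {χ : G → ℂ}
    (hχ : IsIrrCharacter G χ) (a : Fin 8) : conj (χ (y t D a)) = χ (y t D a) := by
  rw [← isCharacter_apply_inv (isIrr_isCharacter hχ)]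
  exact class_eq (isIrr_isCharacter hχ) (y_real h hall a)

/-- column orthogonality -/
theorem orth [Finite G] [Fintype (IrrCharacter G)] (h : Coded t D)
    (hall : ∀ g : G, orderOf g = 2 → IsConj t g) {j : ℕ} (hN : Nat.card G = 1920 * j) (a b : Fin 8) :
    ∑ χ : IrrCharacter G, (χ : G → ℂ) (y t D a) * (χ : G → ℂ) (y t D b)
      = if a = b then (cc j a : ℂ) else 0 := by
  obtain ⟨h1, h2⟩ := Cfsg.Agent.S0145.result (y t D a) (y t D b)
  rw [finsum_eq_sum_of_fintype] at h1 h2
  have h3 : ∑ χ : IrrCharacter G, (χ : G → ℂ) (y t D a) * conj ((χ : G → ℂ) (y t D b))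
      = ∑ χ : IrrCharacter G, (χ : G → ℂ) (y t D a) * (χ : G → ℂ) (y t D b) :=
    Finset.sum_congr rfl fun χ _ => by rw [conj_val h hall χ.2 b]
  rw [h3] at h1 h2
  by_cases hab : a = b
  · subst hab
    rw [if_pos rfl, h1 (IsConj.refl _), cc_y h hN]
  · rw [if_neg hab, h2 (y_not_conj h a b hab)]

/-- number of pairs -/
def np : Fin 8 → ℕ := ![0, 130, 28, 12, 8, 12, 10, 10]

theorem pairs [Finite G] (h : Coded t D) (hall : ∀ g : G, orderOf g = 2 → IsConj t g) (a : Fin 8)
    (ha : a ≠ 0) :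
    Nat.card {p : G × G // IsConj t p.1 ∧ IsConj t p.2 ∧ p.1 * p.2 = y t D a} = np a := by
  fin_cases a
  · exact absurd rfl ha
  · show Nat.card {p : G × G // IsConj t p.1 ∧ IsConj t p.2 ∧ p.1 * p.2 = t} = 130
    have h1 := h.card_pairs hall (x := 16) (m := 1) (by norm_num) (by rw [pow_one, h.t_eq])
    rw [h.t_eq, card_ip2] at h1
    exact h1
  · exact (h.card_pairs hall (by norm_num) h.pow4).trans card_ip4
  · exact (h.card_pairs hall (by norm_num) h.pow6).trans card_ip6
  · exact (h.card_pairs hall (by norm_num) h.pow8).trans card_ip8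
  · exact (h.card_pairs hall (by norm_num) h.pow12).trans card_ip12
  · exact (h.card_pairs hall (by norm_num) h.pow10a).trans card_ip10a
  · exact (h.card_pairs hall (by norm_num) h.pow10b).trans card_ip10b

theorem class_sum [Finite G] [Fintype (IrrCharacter G)] (h : Coded t D)
    (hall : ∀ g : G, orderOf g = 2 → IsConj t g) {j : ℕ} (hN : Nat.card G = 1920 * j) (a : Fin 8)
    (ha : a ≠ 0) :
    ∑ χ : IrrCharacter G, (χ : G → ℂ) t ^ 2 * (χ : G → ℂ) (y t D a) / (χ : G → ℂ) 1
      = 1920 * (np a : ℂ) / j := by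
  have h1 := Cfsg.Agent.S0840.result t t (y t D a)
  rw [finsum_eq_sum_of_fintype, pairs h hall a ha,
    card_class hN h.card_centralizer_t (k := 1) (by norm_num), hN] at h1
  have h3 : ∑ χ : IrrCharacter G, (χ : G → ℂ) t * (χ : G → ℂ) t * conj ((χ : G → ℂ) (y t D a)) /
      (χ : G → ℂ) 1 = ∑ χ : IrrCharacter G, (χ : G → ℂ) t ^ 2 * (χ : G → ℂ) (y t D a) / (χ : G → ℂ) 1 :=
    Finset.sum_congr rfl fun χ _ => by rw [conj_val h hall χ.2 a, sq]
  rw [h3] at h1
  have hj : (j : ℂ) ≠ 0 := by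
    have : 0 < Nat.card G := Nat.card_pos
    have : j ≠ 0 := by omega
    exact Nat.cast_ne_zero.2 this
  push_cast at h1
  field_simp at h1 ⊢
  linear_combination (-1 : ℂ) * h1

/-- the change of columns -/
def KK : Fin 8 → Fin 8 → ℂ := ![![1, 0, 0, 0, 0, 0, 0, 0], ![0, 1, 0, 0, 0, 0, 0, 0],
  ![0, 0, 1, 0, 0, 0, 0, 0], ![0, 0, 0, 1, 0, 0, 0, 0], ![0, 0, 0, 0, 1, 0, 0, 0],
  ![0, 0, 0, 0, 0, 1, 0, 0], ![0, 0, 0, 0, 0, 0, 1, 1], ![0, 0, 0, 0, 0, 0, 1, -1]]

theorem card_of_coded [Finite G] (h : Coded t D) (hall : ∀ g : G, orderOf g = 2 → IsConj t g) :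
    Nat.card G = 50232960 := by
  classical
  obtain ⟨j, hN⟩ : ∃ j, Nat.card G = 1920 * j := by
    refine ⟨(Subgroup.centralizer ({t} : Set G)).index, ?_⟩
    rw [← h.card_centralizer_t]
    exact (Subgroup.card_mul_index _).symm
  have hmod := mod_eq h hall hN
  have := finite_irr (G := G)
  let _ := Fintype.ofFinite (IrrCharacter G)
  obtain ⟨ζ, hζ, hs⟩ := exists_sqrt_five
  choose V hV using fun χ : IrrCharacter G => exists_row h hall hζ hs χ.2
  set s := ζ + ζ ^ 4 - ζ ^ 2 - ζ ^ 3 with hsd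
  have hs0 : s ≠ 0 := by
    intro h0
    rw [h0] at hs
    norm_num at hs
  have hj0 : (j : ℂ) ≠ 0 := Nat.cast_ne_zero.2 (by omega)
  -- the columns in terms of the class representatives
  let u : Fin 8 → ℂ := ![1, 1, 1, 1, 1, 1, 1, s]
  have hu0 : ∀ a, u a ≠ 0 := by
    intro a
    fin_cases a
    · exact one_ne_zero
    · exact one_ne_zero
    · exact one_ne_zero
    · exact one_ne_zero
    · exact one_ne_zero
    · exact one_ne_zero
    · exact one_ne_zero
    · exact hs0
  have hcol : ∀ (a : Fin 8) (χ : IrrCharacter G), ((V χ a : ℤ) : ℂ) * u a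
      = ∑ a', KK a a' * (χ : G → ℂ) (y t D a') := by
    intro a χ
    have r := hV χ
    rw [Fin.sum_univ_eight]
    fin_cases a
    · have := r.e0
      simp [KK, u, y, this]
    · have := r.e1
      simp [KK, u, y, this]
    · have := r.e2
      simp [KK, u, y, this]
    · have := r.e3
      simp [KK, u, y, this]
    · have := r.e4
      simp [KK, u, y, this]
    · have := r.e5
      simp [KK, u, y, this]
    · have := r.e6
      simp [KK, u, y, ← this]
    · have := r.e7
      simp [KK, u, y, ← this]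
      ring
  have hprod : ∀ a b : Fin 8, ((∑ χ : IrrCharacter G, V χ a * V χ b : ℤ) : ℂ) * (u a * u b)
      = ∑ a', KK a a' * KK b a' * (cc j a' : ℂ) := by
    intro a b
    push_cast
    rw [Finset.sum_mul]
    have h1 : ∀ χ : IrrCharacter G, ((V χ a : ℤ) : ℂ) * ((V χ b : ℤ) : ℂ) * (u a * u b)
        = ∑ a', ∑ b', KK a a' * KK b b' * ((χ : G → ℂ) (y t D a') * (χ : G → ℂ) (y t D b')) := by
      intro χ
      have : ((V χ a : ℤ) : ℂ) * ((V χ b : ℤ) : ℂ) * (u a * u b)
        = (((V χ a : ℤ) : ℂ) * u a) * (((V χ b : ℤ) : ℂ) * u b) := by ring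
      rw [this, hcol, hcol, Finset.sum_mul_sum]
      refine Finset.sum_congr rfl fun a' _ => Finset.sum_congr rfl fun b' _ => ?_
      ring
    rw [Finset.sum_congr rfl fun χ _ => h1 χ, Finset.sum_comm]
    refine Finset.sum_congr rfl fun a' _ => ?_
    rw [Finset.sum_comm]
    have h2 : ∀ b', ∑ χ : IrrCharacter G, KK a a' * KK b b' *
        ((χ : G → ℂ) (y t D a') * (χ : G → ℂ) (y t D b'))
        = if a' = b' then KK a a' * KK b b' * (cc j a' : ℂ) else 0 := by
      intro b'
      rw [← Finset.mul_sum, orth h hall hN a' b']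
      split_ifs <;> ring
    rw [Finset.sum_congr rfl fun b' _ => h2 b']
    simp
  have horth : ∀ a b : Fin 8, ∑ χ : IrrCharacter G, V χ a * V χ b = if a = b then dd j a else 0 := by
    intro a b
    have h1 := hprod a b
    rw [Fin.sum_univ_eight] at h1
    by_cases hab : a = b
    · subst hab
      rw [if_pos rfl]
      have h2 : ((∑ χ : IrrCharacter G, V χ a * V χ a : ℤ) : ℂ) = ((dd j a : ℤ) : ℂ) := by
        have h3 : u a * u a ≠ 0 := mul_ne_zero (hu0 a) (hu0 a)
        apply mul_right_cancel₀ h3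
        rw [h1]
        clear h1 h3 hprod hcol
        fin_cases a
        · simp [KK, u, cc, dd]
        · simp [KK, u, cc, dd]
        · simp [KK, u, cc, dd]
        · simp [KK, u, cc, dd]
        · simp [KK, u, cc, dd]
        · simp [KK, u, cc, dd]
        · simp [KK, u, cc, dd]; norm_num
        · simp [KK, u, cc, dd]
          linear_combination (-4 : ℂ) * hs
      exact_mod_cast h2
    · rw [if_neg hab]
      have h2 : ((∑ χ : IrrCharacter G, V χ a * V χ b : ℤ) : ℂ) = 0 := by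
        have h3 : u a * u b ≠ 0 := mul_ne_zero (hu0 a) (hu0 b)
        apply mul_right_cancel₀ h3
        rw [h1, zero_mul]
        clear h1 h3 hprod hcol
        revert hab
        fin_cases a <;> fin_cases b <;> simp [KK, cc]
      exact_mod_cast h2
  -- the trivial character
  let e : IrrCharacter G := ⟨1, isIrr_one⟩
  have he : ∀ a, V e a = ee a := by
    intro a
    have r := hV e
    have hone : ∀ g : G, (e : G → ℂ) g = 1 := fun g => rfl
    fin_cases a
    · have := r.e0; rw [hone] at this; exact_mod_cast this.symm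
    · have := r.e1; rw [hone] at this; exact_mod_cast this.symm
    · have := r.e2; rw [hone] at this; exact_mod_cast this.symm
    · have := r.e3; rw [hone] at this; exact_mod_cast this.symm
    · have := r.e4; rw [hone] at this; exact_mod_cast this.symm
    · have := r.e5; rw [hone] at this; exact_mod_cast this.symm
    · have := r.e6
      rw [hone, hone] at this
      have h2 : ((V e 6 : ℤ) : ℂ) = ((2 : ℤ) : ℂ) := by rw [← this]; norm_num
      exact_mod_cast h2
    · have := r.e7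
      rw [hone, hone, sub_self] at this
      have h2 := (mul_eq_zero.1 this.symm).resolve_right hs0
      exact_mod_cast h2
  have hcl : ∑ χ : IrrCharacter G, ((3 * V χ 1 - 5 * V χ 2 - 30 * V χ 4 - 40 * V χ 5 - 24 * V χ 6 : ℤ) : ℚ)
      / 120 * ((V χ 1 : ℤ) : ℚ) ^ 2 / ((V χ 0 : ℤ) : ℚ) = -15200 / (j : ℚ) := by
    have p1 := class_sum h hall hN 1 (by decide)
    have p2 := class_sum h hall hN 2 (by decide)
    have p4 := class_sum h hall hN 4 (by decide)
    have p5 := class_sum h hall hN 5 (by decide)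
    have p6 := class_sum h hall hN 6 (by decide)
    have p7 := class_sum h hall hN 7 (by decide)
    have n1 : ((np 1 : ℕ) : ℂ) = 130 := by rw [show np 1 = 130 from rfl]; norm_num
    have n2 : ((np 2 : ℕ) : ℂ) = 28 := by rw [show np 2 = 28 from rfl]; norm_num
    have n4 : ((np 4 : ℕ) : ℂ) = 8 := by rw [show np 4 = 8 from rfl]; norm_num
    have n5 : ((np 5 : ℕ) : ℂ) = 12 := by rw [show np 5 = 12 from rfl]; norm_num
    have n6 : ((np 6 : ℕ) : ℂ) = 10 := by rw [show np 6 = 10 from rfl]; norm_num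
    have n7 : ((np 7 : ℕ) : ℂ) = 10 := by rw [show np 7 = 10 from rfl]; norm_num
    rw [n1] at p1
    rw [n2] at p2
    rw [n4] at p4
    rw [n5] at p5
    rw [n6] at p6
    rw [n7] at p7
    have h1 : ∑ χ : IrrCharacter G, ((3 * V χ 1 - 5 * V χ 2 - 30 * V χ 4 - 40 * V χ 5 - 24 * V χ 6 : ℤ) : ℂ)
      / 120 * ((V χ 1 : ℤ) : ℂ) ^ 2 / ((V χ 0 : ℤ) : ℂ) = -15200 / (j : ℂ) := by
      have h2 : ∀ χ : IrrCharacter G,
          ((3 * V χ 1 - 5 * V χ 2 - 30 * V χ 4 - 40 * V χ 5 - 24 * V χ 6 : ℤ) : ℂ)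
          / 120 * ((V χ 1 : ℤ) : ℂ) ^ 2 / ((V χ 0 : ℤ) : ℂ)
          = (1 / 40 : ℂ) * ((χ : G → ℂ) t ^ 2 * (χ : G → ℂ) (y t D 1) / (χ : G → ℂ) 1)
          + ((-1 / 24 : ℂ) * ((χ : G → ℂ) t ^ 2 * (χ : G → ℂ) (y t D 2) / (χ : G → ℂ) 1)
          + ((-1 / 4 : ℂ) * ((χ : G → ℂ) t ^ 2 * (χ : G → ℂ) (y t D 4) / (χ : G → ℂ) 1)
          + ((-1 / 3 : ℂ) * ((χ : G → ℂ) t ^ 2 * (χ : G → ℂ) (y t D 5) / (χ : G → ℂ) 1)
          + ((-1 / 5 : ℂ) * ((χ : G → ℂ) t ^ 2 * (χ : G → ℂ) (y t D 6) / (χ : G → ℂ) 1)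
          + (-1 / 5 : ℂ) * ((χ : G → ℂ) t ^ 2 * (χ : G → ℂ) (y t D 7) / (χ : G → ℂ) 1))))) := by
        intro χ
        have r := hV χ
        have y1 : (χ : G → ℂ) (y t D 1) = V χ 1 := r.e1
        have y2 : (χ : G → ℂ) (y t D 2) = V χ 2 := r.e2
        have y4 : (χ : G → ℂ) (y t D 4) = V χ 4 := r.e4
        have y5 : (χ : G → ℂ) (y t D 5) = V χ 5 := r.e5
        have y6 : (χ : G → ℂ) (y t D 6) + (χ : G → ℂ) (y t D 7) = V χ 6 := r.e6
        rw [y1, y2, y4, y5, r.e0, r.e1]
        push_cast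
        linear_combination (-(1 / 5 : ℂ) * ((V χ 1 : ℤ) : ℂ) ^ 2 / ((V χ 0 : ℤ) : ℂ)) * (-y6)
      rw [Finset.sum_congr rfl fun χ _ => h2 χ, Finset.sum_add_distrib, Finset.sum_add_distrib,
        Finset.sum_add_distrib, Finset.sum_add_distrib, Finset.sum_add_distrib, ← Finset.mul_sum,
        ← Finset.mul_sum, ← Finset.mul_sum, ← Finset.mul_sum, ← Finset.mul_sum, ← Finset.mul_sum,
        p1, p2, p4, p5, p6, p7]
      field_simp
      norm_num
    have h3 : ((∑ χ : IrrCharacter G, ((3 * V χ 1 - 5 * V χ 2 - 30 * V χ 4 - 40 * V χ 5 - 24 * V χ 6 : ℤ) : ℚ)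
      / 120 * ((V χ 1 : ℤ) : ℚ) ^ 2 / ((V χ 0 : ℤ) : ℚ) : ℚ) : ℂ) = ((-15200 / (j : ℚ) : ℚ) : ℂ) := by
      push_cast
      push_cast at h1
      exact h1
    exact_mod_cast h3
  have hC : Cols j (fun a χ => V χ a) e :=
    { hj := hmod
      horth := horth
      he := he
      hpos := fun χ => (hV χ).hpos
      hdvd := fun χ => by
        have := (hV χ).hdvd
        rw [hN] at this
        push_cast at this
        exact this
      c1 := fun χ => (hV χ).c1
      c2 := fun χ => (hV χ).c2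
      c3 := fun χ => (hV χ).c3
      c4 := fun χ => (hV χ).c4
      c5 := fun χ => (hV χ).c5
      c6 := fun χ => (hV χ).c6
      c7 := fun χ => (hV χ).c7
      c8 := fun χ => (hV χ).c8
      hcl := hcl }
  rw [hN, hC.order]

end Cfsg.Agent.J3Type.CharOrder
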