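import Mathlib
import Cfsg.Agent.J2Type.CStruct
import Cfsg.Agent.J3Type.CodeGroup

/-!
# Existence of the coding

A group with a signed permutation model and a complement `A₅` acting without signs is coded by the
numbers below 1920.
-/

set_option autoImplicit false

namespace Cfsg.Agent.J3Type.CodeExists

open Cfsg.Agent.J3Type.CodeTab Cfsg.Agent.J3Type.CodeFacts Cfsg.Agent.J3Type.CodeGroup
open Cfsg.Agent.J2Type.Model Cfsg.Agent.J2Type.CStruct

/-! ### The permutations -/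

theorem mod60 (p : ℕ) : p % 60 < 60 := Nat.mod_lt _ (by norm_num)

/-- the `p`-th even permutation as a function -/
def fP (p : ℕ) (k : Fin 5) : Fin 5 := ⟨pv (p % 60) k, pv_lt (mod60 p) k.2⟩

theorem fP_inv (p : ℕ) (k : Fin 5) : fP (pinv (p % 60)) (fP p k) = k := by
  apply Fin.ext
  show pv (pinv (p % 60) % 60) (pv (p % 60) k) = k
  rw [Nat.mod_eq_of_lt (pinv_lt (mod60 p))]
  exact pinv_pv (mod60 p) k.2

theorem fP_inv' (p : ℕ) (k : Fin 5) : fP p (fP (pinv (p % 60)) k) = k := by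
  apply Fin.ext
  show pv (p % 60) (pv (pinv (p % 60) % 60) k) = k
  rw [Nat.mod_eq_of_lt (pinv_lt (mod60 p))]
  exact pv_pinv (mod60 p) k.2

/-- the `p`-th even permutation -/
def P (p : ℕ) : Equiv.Perm (Fin 5) := ⟨fP p, fP (pinv (p % 60)), fP_inv p, fP_inv' p⟩

theorem P_apply (p : ℕ) (k : Fin 5) : P p k = fP p k := rfl

theorem P_mod (p : ℕ) : P (p % 60) = P p := by
  apply Equiv.ext
  intro k
  apply Fin.ext
  show pv (p % 60 % 60) k = pv (p % 60) k
  rw [Nat.mod_mod]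

theorem sign_lt : ∀ p < 60, Equiv.Perm.sign (P p) = 1 := by decide +kernel

theorem sign_P (p : ℕ) : Equiv.Perm.sign (P p) = 1 := by
  rw [← P_mod]
  exact sign_lt _ (mod60 p)

/-- the `p`-th even permutation, in the alternating group -/
def PA (p : ℕ) : alternatingGroup (Fin 5) := ⟨P p, Equiv.Perm.mem_alternatingGroup.2 (sign_P p)⟩

theorem PA_mul {p q : ℕ} (hp : p < 60) (hq : q < 60) : PA p * PA q = PA (mulP p q) := by
  apply Subtype.ext
  apply Equiv.ext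
  intro k
  apply Fin.ext
  show pv (p % 60) (pv (q % 60) k) = pv (mulP p q % 60) k
  rw [Nat.mod_eq_of_lt hp, Nat.mod_eq_of_lt hq, Nat.mod_eq_of_lt (mulP_lt hp hq)]
  exact pv_mulP hp hq k.2

theorem PA_inj {p q : ℕ} (hp : p < 60) (hq : q < 60) (h : P p = P q) : p = q := by
  apply pv_inj hp hq
  intro k hk
  have h1 := congrArg (fun f : Equiv.Perm (Fin 5) => ((f ⟨k, hk⟩ : Fin 5) : ℕ)) h
  have h2 : pv (p % 60) k = pv (q % 60) k := h1
  rw [Nat.mod_eq_of_lt hp, Nat.mod_eq_of_lt hq] at h2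
  exact h2

theorem mulP_zero : mulP 0 0 = 0 := by decide +kernel

theorem PA_zero : PA 0 = 1 := by
  have h := PA_mul (p := 0) (q := 0) (by norm_num) (by norm_num)
  rw [mulP_zero] at h
  exact mul_eq_left.1 h

/-! ### The words -/

section words

variable {C : Type*} [Group C]

/-- the relations of the generators -/
structure Rel (z g1 g2 g3 g4 : C) : Prop where
  zz : z * z = 1
  zc : ∀ c, c * z = z * c
  s1 : g1 * g1 = z
  s2 : g2 * g2 = z
  s3 : g3 * g3 = z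
  s4 : g4 * g4 = z
  r21 : g2 * g1 = z * (g1 * g2)
  r31 : g3 * g1 = z * (g1 * g3)
  r41 : g4 * g1 = z * (g1 * g4)
  r32 : g3 * g2 = z * (g2 * g3)
  r42 : g4 * g2 = z * (g2 * g4)
  r43 : g4 * g3 = z * (g3 * g4)

/-- the word with given exponents -/
def EEb (z g1 g2 g3 g4 : C) (a b1 b2 b3 b4 : Bool) : C :=
  (cond a z 1) * ((cond b1 g1 1) * ((cond b2 g2 1) * ((cond b3 g3 1) * (cond b4 g4 1))))

/-- the word with given code -/
def EE (z g1 g2 g3 g4 : C) (x : ℕ) : C := EEb z g1 g2 g3 g4 (bt x 4) (bt x 0) (bt x 1) (bt x 2) (bt x 3)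

variable {z g1 g2 g3 g4 : C}

theorem Rel.left {a b c : C} (x : C) (h : a * b = c) : a * (b * x) = c * x := by
  rw [← h, mul_assoc]

theorem EEb_mul (R : Rel z g1 g2 g3 g4) (a b1 b2 b3 b4 : Bool) :
    EEb z g1 g2 g3 g4 a b1 b2 b3 b4 * z = EEb z g1 g2 g3 g4 (!a) b1 b2 b3 b4 ∧
    EEb z g1 g2 g3 g4 a b1 b2 b3 b4 * g1
      = EEb z g1 g2 g3 g4 (xor a (xor b1 (xor b2 (xor b3 b4)))) (!b1) b2 b3 b4 ∧
    EEb z g1 g2 g3 g4 a b1 b2 b3 b4 * g2
      = EEb z g1 g2 g3 g4 (xor a (xor b2 (xor b3 b4))) b1 (!b2) b3 b4 ∧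
    EEb z g1 g2 g3 g4 a b1 b2 b3 b4 * g3
      = EEb z g1 g2 g3 g4 (xor a (xor b3 b4)) b1 b2 (!b3) b4 ∧
    EEb z g1 g2 g3 g4 a b1 b2 b3 b4 * g4
      = EEb z g1 g2 g3 g4 (xor a b4) b1 b2 b3 (!b4) := by
  have zz := R.zz
  have zz' : ∀ x, z * (z * x) = x := fun x => by rw [← mul_assoc, zz, one_mul]
  have z1 := R.zc g1
  have z2 := R.zc g2
  have z3 := R.zc g3
  have z4 := R.zc g4
  have z1' : ∀ x, g1 * (z * x) = z * (g1 * x) := fun x => by rw [← mul_assoc, z1, mul_assoc]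
  have z2' : ∀ x, g2 * (z * x) = z * (g2 * x) := fun x => by rw [← mul_assoc, z2, mul_assoc]
  have z3' : ∀ x, g3 * (z * x) = z * (g3 * x) := fun x => by rw [← mul_assoc, z3, mul_assoc]
  have z4' : ∀ x, g4 * (z * x) = z * (g4 * x) := fun x => by rw [← mul_assoc, z4, mul_assoc]
  have s1 := R.s1
  have s2 := R.s2
  have s3 := R.s3
  have s4 := R.s4
  have s1' : ∀ x, g1 * (g1 * x) = z * x := fun x => by rw [← mul_assoc, s1]
  have s2' : ∀ x, g2 * (g2 * x) = z * x := fun x => by rw [← mul_assoc, s2]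
  have s3' : ∀ x, g3 * (g3 * x) = z * x := fun x => by rw [← mul_assoc, s3]
  have s4' : ∀ x, g4 * (g4 * x) = z * x := fun x => by rw [← mul_assoc, s4]
  have r21 := R.r21
  have r31 := R.r31
  have r41 := R.r41
  have r32 := R.r32
  have r42 := R.r42
  have r43 := R.r43
  have r21' : ∀ x, g2 * (g1 * x) = z * (g1 * (g2 * x)) := fun x => by
    rw [← mul_assoc, r21, mul_assoc, mul_assoc]
  have r31' : ∀ x, g3 * (g1 * x) = z * (g1 * (g3 * x)) := fun x => by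
    rw [← mul_assoc, r31, mul_assoc, mul_assoc]
  have r41' : ∀ x, g4 * (g1 * x) = z * (g1 * (g4 * x)) := fun x => by
    rw [← mul_assoc, r41, mul_assoc, mul_assoc]
  have r32' : ∀ x, g3 * (g2 * x) = z * (g2 * (g3 * x)) := fun x => by
    rw [← mul_assoc, r32, mul_assoc, mul_assoc]
  have r42' : ∀ x, g4 * (g2 * x) = z * (g2 * (g4 * x)) := fun x => by
    rw [← mul_assoc, r42, mul_assoc, mul_assoc]
  have r43' : ∀ x, g4 * (g3 * x) = z * (g3 * (g4 * x)) := fun x => by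
    rw [← mul_assoc, r43, mul_assoc, mul_assoc]
  refine ⟨?_, ?_, ?_, ?_, ?_⟩ <;> cases a <;> cases b1 <;> cases b2 <;> cases b3 <;> cases b4 <;>
    simp only [EEb, cond_true, cond_false, Bool.xor_false, Bool.xor_true, Bool.not_true,
      Bool.not_false, Bool.false_xor, Bool.true_xor, one_mul, mul_one, mul_assoc, zz, zz', z1, z2,
      z3, z4, z1', z2', z3', z4', s1, s2, s3, s4, s1', s2', s3', s4', r21, r31, r41, r32, r42, r43,
      r21', r31', r41', r32', r42', r43']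

theorem bits : ∀ x < 32,
    (bt (emul x 16) 4 = !bt x 4 ∧ bt (emul x 16) 0 = bt x 0 ∧ bt (emul x 16) 1 = bt x 1 ∧
      bt (emul x 16) 2 = bt x 2 ∧ bt (emul x 16) 3 = bt x 3) ∧
    (bt (emul x 1) 4 = xor (bt x 4) (xor (bt x 0) (xor (bt x 1) (xor (bt x 2) (bt x 3)))) ∧
      bt (emul x 1) 0 = !bt x 0 ∧ bt (emul x 1) 1 = bt x 1 ∧
      bt (emul x 1) 2 = bt x 2 ∧ bt (emul x 1) 3 = bt x 3) ∧
    (bt (emul x 2) 4 = xor (bt x 4) (xor (bt x 1) (xor (bt x 2) (bt x 3))) ∧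
      bt (emul x 2) 0 = bt x 0 ∧ bt (emul x 2) 1 = !bt x 1 ∧
      bt (emul x 2) 2 = bt x 2 ∧ bt (emul x 2) 3 = bt x 3) ∧
    (bt (emul x 4) 4 = xor (bt x 4) (xor (bt x 2) (bt x 3)) ∧
      bt (emul x 4) 0 = bt x 0 ∧ bt (emul x 4) 1 = bt x 1 ∧
      bt (emul x 4) 2 = !bt x 2 ∧ bt (emul x 4) 3 = bt x 3) ∧
    (bt (emul x 8) 4 = xor (bt x 4) (bt x 3) ∧
      bt (emul x 8) 0 = bt x 0 ∧ bt (emul x 8) 1 = bt x 1 ∧
      bt (emul x 8) 2 = bt x 2 ∧ bt (emul x 8) 3 = !bt x 3) := by decide +kernel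

theorem EE_gen (R : Rel z g1 g2 g3 g4) {x : ℕ} (hx : x < 32) :
    EE z g1 g2 g3 g4 x * z = EE z g1 g2 g3 g4 (emul x 16) ∧
    EE z g1 g2 g3 g4 x * g1 = EE z g1 g2 g3 g4 (emul x 1) ∧
    EE z g1 g2 g3 g4 x * g2 = EE z g1 g2 g3 g4 (emul x 2) ∧
    EE z g1 g2 g3 g4 x * g3 = EE z g1 g2 g3 g4 (emul x 4) ∧
    EE z g1 g2 g3 g4 x * g4 = EE z g1 g2 g3 g4 (emul x 8) := by
  obtain ⟨h0, h1, h2, h3, h4⟩ := EEb_mul R (bt x 4) (bt x 0) (bt x 1) (bt x 2) (bt x 3)
  obtain ⟨⟨a0, a1, a2, a3, a4⟩, ⟨b0, b1, b2, b3, b4⟩, ⟨c0, c1, c2, c3, c4⟩, ⟨d0, d1, d2, d3, d4⟩,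
    ⟨e0, e1, e2, e3, e4⟩⟩ := bits x hx
  unfold EE
  rw [a0, a1, a2, a3, a4, b0, b1, b2, b3, b4, c0, c1, c2, c3, c4, d0, d1, d2, d3, d4,
    e0, e1, e2, e3, e4]
  exact ⟨h0, h1, h2, h3, h4⟩

theorem st_lt {g x : ℕ} (hg : g < 32) (hx : x < 32) (b : Bool) : st g x b < 32 := by
  cases b
  · exact hx
  · exact emul_lt hx hg

theorem EE_st {γ : C} {g : ℕ} (hγ : ∀ x < 32, EE z g1 g2 g3 g4 x * γ = EE z g1 g2 g3 g4 (emul x g))
    {x : ℕ} (hx : x < 32) (b : Bool) :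
    EE z g1 g2 g3 g4 (st g x b) = EE z g1 g2 g3 g4 x * cond b γ 1 := by
  cases b
  · exact (mul_one _).symm
  · exact (hγ x hx).symm

theorem EE_chain {γ γ1 γ2 γ3 γ4 : C} {c c1 c2 c3 c4 : ℕ} (hc : c < 32) (hc1 : c1 < 32) (hc2 : c2 < 32)
    (hc3 : c3 < 32)
    (h : ∀ x < 32, EE z g1 g2 g3 g4 x * γ = EE z g1 g2 g3 g4 (emul x c))
    (h1 : ∀ x < 32, EE z g1 g2 g3 g4 x * γ1 = EE z g1 g2 g3 g4 (emul x c1))
    (h2 : ∀ x < 32, EE z g1 g2 g3 g4 x * γ2 = EE z g1 g2 g3 g4 (emul x c2))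
    (h3 : ∀ x < 32, EE z g1 g2 g3 g4 x * γ3 = EE z g1 g2 g3 g4 (emul x c3))
    (h4 : ∀ x < 32, EE z g1 g2 g3 g4 x * γ4 = EE z g1 g2 g3 g4 (emul x c4))
    {x : ℕ} (hx : x < 32) (w : ℕ) :
    EE z g1 g2 g3 g4 x * EE γ γ1 γ2 γ3 γ4 w = EE z g1 g2 g3 g4 (chain c c1 c2 c3 c4 x w) := by
  have k0 := st_lt hc hx (bt w 4)
  have k1 := st_lt hc1 k0 (bt w 0)
  have k2 := st_lt hc2 k1 (bt w 1)
  have k3 := st_lt hc3 k2 (bt w 2)
  unfold chain
  rw [EE_st h4 k3, EE_st h3 k2, EE_st h2 k1, EE_st h1 k0, EE_st h hx]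
  show _ * EEb γ γ1 γ2 γ3 γ4 _ _ _ _ _ = _
  unfold EEb
  simp only [mul_assoc]

theorem EE_mul (R : Rel z g1 g2 g3 g4) {x w : ℕ} (hx : x < 32) (hw : w < 32) :
    EE z g1 g2 g3 g4 x * EE z g1 g2 g3 g4 w = EE z g1 g2 g3 g4 (emul x w) := by
  rw [emul_chain hx hw]
  exact EE_chain (by norm_num) (by norm_num) (by norm_num) (by norm_num)
    (fun x hx => (EE_gen R hx).1) (fun x hx => (EE_gen R hx).2.1) (fun x hx => (EE_gen R hx).2.2.1)
    (fun x hx => (EE_gen R hx).2.2.2.1) (fun x hx => (EE_gen R hx).2.2.2.2) hx w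

theorem EE_vals (z g1 g2 g3 g4 : C) : EE z g1 g2 g3 g4 0 = 1 ∧ EE z g1 g2 g3 g4 16 = z ∧
    EE z g1 g2 g3 g4 1 = g1 ∧ EE z g1 g2 g3 g4 2 = g2 ∧ EE z g1 g2 g3 g4 4 = g3 ∧
    EE z g1 g2 g3 g4 8 = g4 := by
  refine ⟨?_, ?_, ?_, ?_, ?_, ?_⟩
  · show (1 : C) * (1 * (1 * (1 * 1))) = 1
    simp
  · show z * (1 * (1 * (1 * 1))) = z
    simp
  · show 1 * (g1 * (1 * (1 * 1))) = g1
    simp
  · show 1 * (1 * (g2 * (1 * 1))) = g2
    simp
  · show 1 * (1 * (1 * (g3 * 1))) = g3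
    simp
  · show 1 * (1 * (1 * (1 * g4))) = g4
    simp

/-- conjugation of a word -/
theorem EE_conj (k : C) (w : ℕ) : k * EE z g1 g2 g3 g4 w * k⁻¹
    = EE (k * z * k⁻¹) (k * g1 * k⁻¹) (k * g2 * k⁻¹) (k * g3 * k⁻¹) (k * g4 * k⁻¹) w := by
  unfold EE EEb
  cases bt w 4 <;> cases bt w 0 <;> cases bt w 1 <;> cases bt w 2 <;> cases bt w 3 <;>
    simp only [cond_true, cond_false] <;> group

theorem inv_fact : ∀ x < 32, ∀ w < 32, emul w w = 0 ∧ (emul x w = 0 → x = w) ∨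
    emul w (emul w 16) = 0 ∧ (emul x (emul w 16) = 0 → x = w) := by decide +kernel

theorem nc_fact : ∀ e < 32, e = 0 ∨ e = 16 ∨ ∃ k < 32, emul k e = emul (emul e k) 16 := by
  decide +kernel

theorem EE_one (R : Rel z g1 g2 g3 g4) (hz : z ≠ 1) {e : ℕ} (he : e < 32)
    (h : EE z g1 g2 g3 g4 e = 1) : e = 0 := by
  rcases nc_fact e he with h1 | h1 | ⟨k, hk, h1⟩
  · exact h1
  · rw [h1, (EE_vals z g1 g2 g3 g4).2.1] at h
    exact absurd h hz
  · exfalso
    apply hz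
    have h2 := EE_mul R hk he
    have h3 := EE_mul R (emul_lt he hk) (show (16 : ℕ) < 32 by norm_num)
    rw [← EE_mul R he hk, (EE_vals z g1 g2 g3 g4).2.1, ← h1, ← h2, h, mul_one, one_mul] at h3
    exact mul_eq_left.1 h3

theorem EE_inj (R : Rel z g1 g2 g3 g4) (hz : z ≠ 1) {x w : ℕ} (hx : x < 32) (hw : w < 32)
    (h : EE z g1 g2 g3 g4 x = EE z g1 g2 g3 g4 w) : x = w := by
  have key : ∀ w' < 32, emul w w' = 0 → (emul x w' = 0 → x = w) → x = w := by
    intro w' hw' h1 h2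
    apply h2
    apply EE_one R hz (emul_lt hx hw')
    rw [← EE_mul R hx hw', h, EE_mul R hw hw', h1, (EE_vals z g1 g2 g3 g4).1]
  rcases inv_fact x hx w hw with ⟨h1, h2⟩ | ⟨h1, h2⟩
  · exact key w hw h1 h2
  · exact key _ (emul_lt hw (by norm_num)) h1 h2

end words

/-! ### The code of the centralizer -/

section code

variable {C : Type*} [Group C] {Q : Subgroup C} {z : C} {v : Fin 5 → C} {ρ : C →* SP}

theorem rel_of_model (M : IsModel Q z v ρ) :
    Rel z (v 0 * v 1) (v 0 * v 2) (v 0 * v 3) (v 0 * v 4) := by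
  have hs : ∀ k : Fin 5, k ≠ 0 → (v 0 * v k) * (v 0 * v k) = z := fun k hk => vv_sq M hk.symm
  have hr : ∀ i j : Fin 5, i ≠ 0 → j ≠ 0 → i ≠ j →
      (v 0 * v i) * (v 0 * v j) = z * ((v 0 * v j) * (v 0 * v i)) := by
    intro i j hi hj hij
    have e : ∀ i j : Fin 5, i ≠ 0 → (v 0 * v i) * (v 0 * v j) = z * (v i * v j) := by
      intro i j hi
      calc (v 0 * v i) * (v 0 * v j) = v 0 * (v i * v 0) * v j := by group
        _ = v 0 * (z * (v 0 * v i)) * v j := by rw [M.v_anti i 0 hi]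
        _ = (v 0 * z) * (v 0 * v i) * v j := by group
        _ = (z * v 0) * (v 0 * v i) * v j := by rw [M.z_comm]
        _ = z * (v 0 * v 0) * (v i * v j) := by group
        _ = z * (v i * v j) := by rw [M.v_sq, mul_one]
    rw [e i j hi, e j i hj, M.v_anti i j hij]
  exact
    { zz := M.z_sq
      zc := M.z_comm
      s1 := hs 1 (by decide)
      s2 := hs 2 (by decide)
      s3 := hs 3 (by decide)
      s4 := hs 4 (by decide)
      r21 := hr 2 1 (by decide) (by decide) (by decide)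
      r31 := hr 3 1 (by decide) (by decide) (by decide)
      r41 := hr 4 1 (by decide) (by decide) (by decide)
      r32 := hr 3 2 (by decide) (by decide) (by decide)
      r42 := hr 4 2 (by decide) (by decide) (by decide)
      r43 := hr 4 3 (by decide) (by decide) (by decide) }

/-- the word of a code in the model -/
def W (z : C) (v : Fin 5 → C) (x : ℕ) : C := EE z (v 0 * v 1) (v 0 * v 2) (v 0 * v 3) (v 0 * v 4) x

theorem gc_vals : gc 1 = 1 ∧ gc 2 = 2 ∧ gc 3 = 4 ∧ gc 4 = 8 := by decide +kernel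

theorem W_gc (z : C) (v : Fin 5 → C) (k : Fin 5) (hk : k ≠ 0) : W z v (gc k) = v 0 * v k := by
  obtain ⟨-, -, e1, e2, e3, e4⟩ := EE_vals z (v 0 * v 1) (v 0 * v 2) (v 0 * v 3) (v 0 * v 4)
  obtain ⟨f1, f2, f3, f4⟩ := gc_vals
  fin_cases k
  · exact absurd rfl hk
  · show W z v (gc 1) = _
    rw [f1]; exact e1
  · show W z v (gc 2) = _
    rw [f2]; exact e2
  · show W z v (gc 3) = _
    rw [f3]; exact e3
  · show W z v (gc 4) = _
    rw [f4]; exact e4

theorem gc_lt : ∀ k < 5, gc k < 32 := by decide +kernel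

theorem W_pair (M : IsModel Q z v ρ) (i j : Fin 5) (hij : i ≠ j) : W z v (pairc i j) = v i * v j := by
  have R := rel_of_model M
  by_cases hi : i = 0
  · subst hi
    have h1 : pairc ((0 : Fin 5) : ℕ) j = gc j := rfl
    rw [h1, W_gc z v j hij.symm]
  · have hi' : (i : ℕ) ≠ 0 := fun h => hi (Fin.ext h)
    have b1 : Nat.beq (i : ℕ) 0 = false := by
      rcases hb : Nat.beq (i : ℕ) 0 with _ | _
      · rfl
      · exact absurd (eq_of_beq hb) hi'
    have hz16 : W z v 16 = z := (EE_vals z (v 0 * v 1) (v 0 * v 2) (v 0 * v 3) (v 0 * v 4)).2.1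
    by_cases hj : j = 0
    · subst hj
      have h1 : pairc (i : ℕ) ((0 : Fin 5) : ℕ) = emul 16 (gc i) := by
        unfold pairc
        rw [b1]; rfl
      rw [h1]
      have h2 : W z v 16 * W z v (gc i) = W z v (emul 16 (gc i)) :=
        EE_mul R (by norm_num) (gc_lt _ i.2)
      rw [← h2, hz16, W_gc z v i hi, ← M.v_anti i 0 hi]
    · have hj' : (j : ℕ) ≠ 0 := fun h => hj (Fin.ext h)
      have b2 : Nat.beq (j : ℕ) 0 = false := by
        rcases hb : Nat.beq (j : ℕ) 0 with _ | _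
        · rfl
        · exact absurd (eq_of_beq hb) hj'
      have h1 : pairc (i : ℕ) (j : ℕ) = emul 16 (emul (gc i) (gc j)) := by
        unfold pairc
        rw [b1, b2]
      rw [h1]
      have h2 : W z v 16 * W z v (emul (gc i) (gc j)) = W z v (emul 16 (emul (gc i) (gc j))) :=
        EE_mul R (by norm_num) (emul_lt (gc_lt _ i.2) (gc_lt _ j.2))
      have h3 : W z v (gc i) * W z v (gc j) = W z v (emul (gc i) (gc j)) :=
        EE_mul R (gc_lt _ i.2) (gc_lt _ j.2)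
      rw [← h2, ← h3, hz16, W_gc z v i hi, W_gc z v j hj]
      calc z * (v 0 * v i * (v 0 * v j)) = z * (v 0 * (v i * v 0) * v j) := by group
        _ = z * (v 0 * (z * (v 0 * v i)) * v j) := by rw [M.v_anti i 0 hi]
        _ = z * ((v 0 * z) * (v 0 * v i) * v j) := by group
        _ = z * ((z * v 0) * (v 0 * v i) * v j) := by rw [M.z_comm]
        _ = (z * z) * (v 0 * v 0) * (v i * v j) := by group
        _ = v i * v j := by rw [M.v_sq, M.z_sq, mul_one, one_mul]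

variable (κ : alternatingGroup (Fin 5) →* C) (hκ : ∀ σ, ρ (κ σ) = ⟨σ, 0⟩)

include hκ in
theorem conj_v (M : IsModel Q z v ρ) (σ : alternatingGroup (Fin 5)) (i : Fin 5) :
    κ σ * v i * (κ σ)⁻¹ = v ((σ : Equiv.Perm (Fin 5)) i) := by
  rw [M.conj, hκ]
  show zp z 0 * _ = _
  rw [zp_zero, one_mul]

include hκ in
theorem conj_W (M : IsModel Q z v ρ) {p x : ℕ} (hp : p < 60) (hx : x < 32) :
    κ (PA p) * W z v x * (κ (PA p))⁻¹ = W z v (act p x) := by
  have R := rel_of_model M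
  have hz : κ (PA p) * z * (κ (PA p))⁻¹ = z := by
    rw [M.z_comm, mul_assoc, mul_inv_cancel, mul_one]
  have hg : ∀ k : Fin 5, k ≠ 0 → κ (PA p) * (v 0 * v k) * (κ (PA p))⁻¹ = W z v (act p (gc k)) := by
    intro k hk
    have h1 : κ (PA p) * (v 0 * v k) * (κ (PA p))⁻¹
        = (κ (PA p) * v 0 * (κ (PA p))⁻¹) * (κ (PA p) * v k * (κ (PA p))⁻¹) := by group
    rw [h1, conj_v κ hκ M, conj_v κ hκ M]
    have h2 : ((PA p : alternatingGroup (Fin 5)) : Equiv.Perm (Fin 5)) = P p := rfl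
    rw [h2]
    have hne : P p 0 ≠ P p k := fun h => hk ((P p).injective h).symm
    rw [← W_pair M _ _ hne]
    have h3 : ((P p 0 : Fin 5) : ℕ) = pv p 0 := by
      show pv (p % 60) ((0 : Fin 5) : ℕ) = pv p 0
      rw [Nat.mod_eq_of_lt hp]; rfl
    have h4 : ((P p k : Fin 5) : ℕ) = pv p k := by
      show pv (p % 60) k = pv p k
      rw [Nat.mod_eq_of_lt hp]
    rw [h3, h4]
    have hk0 : (k : ℕ) ≠ 0 := fun h => hk (Fin.ext h)
    obtain ⟨k', hk'⟩ : ∃ k', (k : ℕ) = k' + 1 := ⟨(k : ℕ) - 1, by omega⟩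
    have hk4 : k' < 4 := by have := k.2; omega
    rw [hk', act_gc hp hk4]
  unfold W at hg ⊢
  rw [EE_conj, hz, act_chain hp hx]
  have h0 : EE z (v 0 * v 1) (v 0 * v 2) (v 0 * v 3) (v 0 * v 4) 0 = 1 := (EE_vals _ _ _ _ _).1
  have hgen : ∀ k : Fin 5, k ≠ 0 → ∀ y < 32, EE z (v 0 * v 1) (v 0 * v 2) (v 0 * v 3) (v 0 * v 4) y *
      (κ (PA p) * (v 0 * v k) * (κ (PA p))⁻¹)
      = EE z (v 0 * v 1) (v 0 * v 2) (v 0 * v 3) (v 0 * v 4) (emul y (act p (gc k))) := by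
    intro k hk y hy
    rw [hg k hk]
    exact EE_mul R hy (act_lt hp (gc_lt _ k.2))
  obtain ⟨f1, f2, f3, f4⟩ := gc_vals
  have g1 := hgen 1 (by decide)
  have g2 := hgen 2 (by decide)
  have g3 := hgen 3 (by decide)
  have g4 := hgen 4 (by decide)
  rw [show ((1 : Fin 5) : ℕ) = 1 from rfl, f1] at g1
  rw [show ((2 : Fin 5) : ℕ) = 2 from rfl, f2] at g2
  rw [show ((3 : Fin 5) : ℕ) = 3 from rfl, f3] at g3
  rw [show ((4 : Fin 5) : ℕ) = 4 from rfl, f4] at g4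
  have h1 := EE_chain (c := 16) (c1 := act p 1) (c2 := act p 2) (c3 := act p 4) (c4 := act p 8)
    (by norm_num) (act_lt hp (by norm_num)) (act_lt hp (by norm_num)) (act_lt hp (by norm_num))
    (fun y hy => (EE_gen R hy).1) g1 g2 g3 g4 (x := 0) (by norm_num) x
  rw [← h1, h0, one_mul]

/-- the element of a code -/
def DD (z : C) (v : Fin 5 → C) (κ : alternatingGroup (Fin 5) →* C) (c : ℕ) : C :=
  W z v (c % 32) * κ (PA (c / 32))

include hκ in
theorem DD_mul (M : IsModel Q z v ρ) {c d : ℕ} (hc : c < 1920) (hd : d < 1920) :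
    DD z v κ c * DD z v κ d = DD z v κ (mulN c d) := by
  have R := rel_of_model M
  have p1 : c / 32 < 60 := by omega
  have p2 : d / 32 < 60 := by omega
  have q1 : c % 32 < 32 := Nat.mod_lt _ (by norm_num)
  have q2 : d % 32 < 32 := Nat.mod_lt _ (by norm_num)
  have m1 := mulP_lt p1 p2
  have m2 := emul_lt q1 (act_lt p1 q2)
  have e1 : mulN c d / 32 = mulP (c / 32) (d / 32) := by
    show (32 * mulP (c / 32) (d / 32) + emul (c % 32) (act (c / 32) (d % 32))) / 32 = _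
    omega
  have e2 : mulN c d % 32 = emul (c % 32) (act (c / 32) (d % 32)) := by
    show (32 * mulP (c / 32) (d / 32) + emul (c % 32) (act (c / 32) (d % 32))) % 32 = _
    omega
  unfold DD
  rw [e1, e2, ← PA_mul p1 p2, map_mul]
  have h1 : W z v (c % 32) * W z v (act (c / 32) (d % 32))
      = W z v (emul (c % 32) (act (c / 32) (d % 32))) := EE_mul R q1 (act_lt p1 q2)
  rw [← h1, ← conj_W κ hκ M p1 q2]
  group

theorem rho_W (M : IsModel Q z v ρ) (x : ℕ) : (ρ (W z v x)).σ = 1 := by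
  have hv : ∀ i, (ρ (v i)).σ = 1 := fun i => (M.mem_Q _).1 (M.v_mem i)
  have hz : (ρ z).σ = 1 := (M.mem_Q _).1 M.z_mem
  have h1 : W z v x ∈ Q := by
    unfold W EE EEb
    have hc : ∀ (b : Bool) (y : C), y ∈ Q → cond b y 1 ∈ Q := by
      intro b y hy
      cases b
      · exact Q.one_mem
      · exact hy
    exact Q.mul_mem (hc _ _ M.z_mem) (Q.mul_mem (hc _ _ (Q.mul_mem (M.v_mem 0) (M.v_mem 1)))
      (Q.mul_mem (hc _ _ (Q.mul_mem (M.v_mem 0) (M.v_mem 2)))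
      (Q.mul_mem (hc _ _ (Q.mul_mem (M.v_mem 0) (M.v_mem 3)))
        (hc _ _ (Q.mul_mem (M.v_mem 0) (M.v_mem 4))))))
  exact (M.mem_Q _).1 h1

include hκ in
theorem DD_inj (M : IsModel Q z v ρ) {c d : ℕ} (hc : c < 1920) (hd : d < 1920)
    (h : DD z v κ c = DD z v κ d) : c = d := by
  have R := rel_of_model M
  have p1 : c / 32 < 60 := by omega
  have p2 : d / 32 < 60 := by omega
  have q1 : c % 32 < 32 := Nat.mod_lt _ (by norm_num)
  have q2 : d % 32 < 32 := Nat.mod_lt _ (by norm_num)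
  have h1 : ∀ e : ℕ, (ρ (DD z v κ e)).σ = P (e / 32) := by
    intro e
    unfold DD
    rw [map_mul, mul_σ, rho_W M, hκ, one_mul]
    rfl
  have h2 : P (c / 32) = P (d / 32) := by rw [← h1, ← h1, h]
  have h3 := PA_inj p1 p2 h2
  have h4 : c % 32 = d % 32 := by
    unfold DD at h
    rw [h3] at h
    exact EE_inj R M.z_ne q1 q2 (mul_right_cancel h)
  omega

theorem DD_16 : DD z v κ 16 = z := by
  unfold DD
  have h1 : (16 : ℕ) / 32 = 0 := by norm_num
  have h2 : (16 : ℕ) % 32 = 16 := by norm_num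
  rw [h1, h2, PA_zero, map_one, mul_one]
  exact (EE_vals _ _ _ _ _).2.1

end code

/-- **Existence of the coding** of the centralizer of `t`. -/
theorem exists_coded {G : Type*} [Group G] [Finite G] {t : G} (ht : t * t = 1)
    {Q : Subgroup (Subgroup.centralizer ({t} : Set G))} {z : Subgroup.centralizer ({t} : Set G)}
    {v : Fin 5 → Subgroup.centralizer ({t} : Set G)}
    {ρ : Subgroup.centralizer ({t} : Set G) →* SP} (M : IsModel Q z v ρ) (hz : (z : G) = t)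
    (hcard : Nat.card (Subgroup.centralizer ({t} : Set G)) = 1920)
    (κ : alternatingGroup (Fin 5) →* Subgroup.centralizer ({t} : Set G))
    (hκ : ∀ σ, ρ (κ σ) = ⟨σ, 0⟩) : ∃ D : ℕ → G, Coded t D := by
  refine ⟨fun c => ((DD z v κ c : Subgroup.centralizer ({t} : Set G)) : G), ?_, ?_, ?_, ?_, ?_⟩
  · intro i hi j hj h
    exact DD_inj κ hκ M hi hj (Subtype.ext h)
  · intro i _
    exact Subgroup.mem_centralizer_singleton_iff.1 (DD z v κ i).2
  · intro g hg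
    have hinj : Function.Injective (fun i : Fin 1920 => DD z v κ i) := by
      intro i j h
      exact Fin.ext (DD_inj κ hκ M i.2 j.2 h)
    have hbij := hinj.bijective_of_nat_card_le (by rw [hcard]; simp)
    obtain ⟨i, hi⟩ := hbij.2 ⟨g, Subgroup.mem_centralizer_singleton_iff.2 hg⟩
    exact ⟨i, i.2, congrArg Subtype.val hi⟩
  · intro i hi j hj
    exact congrArg Subtype.val (DD_mul κ hκ M hi hj)
  · show ((DD z v κ 16 : Subgroup.centralizer ({t} : Set G)) : G) = t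
    rw [DD_16, hz]

end Cfsg.Agent.J3Type.CodeExists
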