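import Mathlib
import Cfsg.Prelude.Def_Transfer

/-!
# The centraliser of the normal extraspecial subgroup

Let `C` be the centraliser of an involution `t`, with a normal extraspecial subgroup `E` of order
32 and `C/E` isomorphic to the alternating group of degree 5.  If `t` commutes with one of its other
conjugates, then `C_C(E) ≤ E`.
-/

set_option autoImplicit false

namespace Cfsg.Agent.J3Type.Reduce

open scoped commutatorElement

/-! ### facts on the alternating group of degree 5 -/

theorem alt5_sq : ∀ x a : alternatingGroup (Fin 5), x ≠ 1 → x * x = 1 → a * x = x * a →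
    a * a = 1 := by
  decide +kernel

/-- commuting with the same involution: commute -/
theorem alt5_comm (x a b : alternatingGroup (Fin 5)) (hx : x ≠ 1) (hxx : x * x = 1)
    (ha : a * x = x * a) (hb : b * x = x * b) : a * b = b * a := by
  have h1 := alt5_sq x a hx hxx ha
  have h2 := alt5_sq x b hx hxx hb
  have hab : (a * b) * x = x * (a * b) := by
    rw [mul_assoc, hb, ← mul_assoc, ha, mul_assoc]
  have h3 := alt5_sq x (a * b) hx hxx hab
  have e1 : a⁻¹ = a := inv_eq_of_mul_eq_one_left h1
  have e2 : b⁻¹ = b := inv_eq_of_mul_eq_one_left h2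
  have e3 : (a * b)⁻¹ = a * b := inv_eq_of_mul_eq_one_left h3
  rw [mul_inv_rev, e1, e2] at e3
  exact e3.symm

theorem alt5_card : Nat.card (alternatingGroup (Fin 5)) = 60 := by
  rw [nat_card_alternatingGroup]
  rw [Nat.card_eq_fintype_card, Fintype.card_fin]
  rfl

/-- a normal subset property: something commuting with a nontrivial normal set is trivial -/
theorem alt5_center (n : alternatingGroup (Fin 5)) (S : Set (alternatingGroup (Fin 5)))
    (hS : ∀ g, ∀ s ∈ S, g * s * g⁻¹ ∈ S) (hne : ∃ s ∈ S, s ≠ 1)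
    (hn : ∀ s ∈ S, n * s = s * n) : n = 1 := by
  have h5 : 5 ≤ Nat.card (Fin 5) := by simp
  have hsimple : IsSimpleGroup (alternatingGroup (Fin 5)) := inferInstance
  let Z := Subgroup.centralizer S
  have hZ : Z.Normal := by
    constructor
    intro z hz g
    rw [Subgroup.mem_centralizer_iff] at hz ⊢
    intro s hs
    have h1 := hz _ (hS g⁻¹ s hs)
    rw [inv_inv] at h1
    calc s * (g * z * g⁻¹) = g * ((g⁻¹ * s * g) * z) * g⁻¹ := by group
      _ = g * (z * (g⁻¹ * s * g)) * g⁻¹ := by rw [h1]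
      _ = _ := by group
  rcases hZ.eq_bot_or_eq_top with h | h
  · have : n ∈ Z := by
      rw [Subgroup.mem_centralizer_iff]
      intro s hs
      exact (hn s hs).symm
    rw [h] at this
    exact Subgroup.mem_bot.1 this
  · exfalso
    obtain ⟨s, hs, hs1⟩ := hne
    have hc : s ∈ Subgroup.center (alternatingGroup (Fin 5)) := by
      rw [Subgroup.mem_center_iff]
      intro g
      have : g ∈ Z := by rw [h]; exact Subgroup.mem_top g
      rw [Subgroup.mem_centralizer_iff] at this
      exact (this s hs).symm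
    have hcen : Subgroup.center (alternatingGroup (Fin 5)) = ⊥ := by
      rcases (inferInstance : (Subgroup.center (alternatingGroup (Fin 5))).Normal).eq_bot_or_eq_top
        with h' | h'
      · exact h'
      · exfalso
        have key : ∃ a b : alternatingGroup (Fin 5), a * b ≠ b * a := by
          refine ⟨⟨Equiv.swap 0 1 * Equiv.swap 0 2, ?_⟩, ⟨Equiv.swap 0 1 * Equiv.swap 0 3, ?_⟩, ?_⟩
          · rw [Equiv.Perm.mem_alternatingGroup]; decide
          · rw [Equiv.Perm.mem_alternatingGroup]; decide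
          · intro h; have := congrArg Subtype.val h; revert this; decide
        obtain ⟨a, b, hab⟩ := key
        apply hab
        have hb : b ∈ Subgroup.center (alternatingGroup (Fin 5)) := by
          rw [h']; exact Subgroup.mem_top b
        exact Subgroup.mem_center_iff.1 hb a
    rw [hcen] at hc
    exact hs1 (Subgroup.mem_bot.1 hc)

/-! ### extraspecial groups of order 32 -/

section extra

variable {C : Type*} [Group C]

/-- `E` with centre `{1, t}`, derived subgroup in the centre -/
structure Ext (E : Subgroup C) (t : C) : Prop where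
  ne : t ≠ 1
  mem : t ∈ E
  comm : ∀ x ∈ E, ∀ y ∈ E, x * y * x⁻¹ * y⁻¹ = 1 ∨ x * y * x⁻¹ * y⁻¹ = t
  cen : ∀ x ∈ E, (∀ y ∈ E, x * y = y * x) → x = 1 ∨ x = t
  tc : ∀ y ∈ E, t * y = y * t

theorem ext_of_extraspecial (E : Subgroup C) (hX : Cfsg.IsExtraspecial 2 E) :
    ∃ t, Ext E t := by
  obtain ⟨⟨-, -, hcom⟩, hZ⟩ := hX
  obtain ⟨z, hz1, hzu⟩ := (Nat.card_eq_two_iff' (1 : Subgroup.center E)).1 hZ
  have hcen : ∀ q : E, q ∈ Subgroup.center E → q = 1 ∨ q = z := by
    intro q hq
    by_cases h1 : (⟨q, hq⟩ : Subgroup.center E) = 1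
    · left; exact congrArg Subtype.val h1
    · right; exact congrArg Subtype.val (hzu ⟨q, hq⟩ h1)
  have hzc : (z : E) ∈ Subgroup.center E := z.2
  refine ⟨((z : E) : C), ?_, (z : E).2, ?_, ?_, ?_⟩
  · intro h
    apply hz1
    apply Subtype.ext
    exact Subtype.ext h
  · intro x hx y hy
    have h1 : ⁅(⟨x, hx⟩ : E), (⟨y, hy⟩ : E)⁆ ∈ Subgroup.center E := by
      rw [← hcom, _root_.commutator_def]
      exact Subgroup.commutator_mem_commutator (Subgroup.mem_top _) (Subgroup.mem_top _)
    rcases hcen _ h1 with h | h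
    · left; exact congrArg Subtype.val h
    · right; exact congrArg Subtype.val h
  · intro x hx h
    have h1 : (⟨x, hx⟩ : E) ∈ Subgroup.center E := by
      rw [Subgroup.mem_center_iff]
      intro y
      apply Subtype.ext
      exact (h y y.2).symm
    rcases hcen _ h1 with h | h
    · left; exact congrArg Subtype.val h
    · right; exact congrArg Subtype.val h
  · intro y hy
    have := (Subgroup.mem_center_iff.1 hzc) ⟨y, hy⟩
    exact (congrArg Subtype.val this).symm

variable {E : Subgroup C} {t : C}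

/-- The subgroup of elements of `H` commuting with `x` has index at most 2, if all commutators are
`1` or `t`. -/
theorem card_le_two (h : Ext E t) [Finite E] (H : Subgroup C) (hH : H ≤ E) (x : C) (hx : x ∈ E) :
    Nat.card H ≤ 2 * Nat.card (H ⊓ Subgroup.centralizer ({x} : Set C) : Subgroup C) := by
  classical
  have hfin : Finite H := Finite.of_injective (Subgroup.inclusion hH) (Subgroup.inclusion_injective hH)
  have htx := h.tc x hx
  by_cases hall : ∀ y ∈ H, y * x = x * y
  · have : H ⊓ Subgroup.centralizer ({x} : Set C) = H := by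
      apply inf_eq_left.2
      intro y hy
      rw [Subgroup.mem_centralizer_singleton_iff]
      exact hall y hy
    rw [this]; omega
  · push Not at hall
    obtain ⟨w, hw, hwx⟩ := hall
    -- H is covered by K and w K
    let K := H ⊓ Subgroup.centralizer ({x} : Set C)
    have hK : ∀ y ∈ H, y ∈ K ∨ w⁻¹ * y ∈ K := by
      intro y hy
      rcases h.comm y (hH hy) x hx with h1 | h1
      · left
        refine ⟨hy, Subgroup.mem_centralizer_singleton_iff.2 ?_⟩
        have h2 := mul_eq_one_iff_eq_inv.1 h1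
        rw [inv_inv] at h2
        exact mul_inv_eq_iff_eq_mul.1 h2
      · right
        refine ⟨H.mul_mem (H.inv_mem hw) hy, Subgroup.mem_centralizer_singleton_iff.2 ?_⟩
        have e1 : y * x = t * (x * y) := by
          calc y * x = (y * x * y⁻¹ * x⁻¹) * (x * y) := by group
            _ = _ := by rw [h1]
        have e2 : w * x = t * (x * w) := by
          rcases h.comm w (hH hw) x hx with h2 | h2
          · exfalso; apply hwx
            have h3 := mul_eq_one_iff_eq_inv.1 h2
            rw [inv_inv] at h3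
            exact mul_inv_eq_iff_eq_mul.1 h3
          · calc w * x = (w * x * w⁻¹ * x⁻¹) * (x * w) := by group
              _ = _ := by rw [h2]
        have e3 : w⁻¹ * t = t * w⁻¹ := by
          have := h.tc w (hH hw)
          calc w⁻¹ * t = w⁻¹ * (t * w) * w⁻¹ := by group
            _ = w⁻¹ * (w * t) * w⁻¹ := by rw [this]
            _ = _ := by group
        have e4 : x * w⁻¹ = w⁻¹ * t * x := by
          calc x * w⁻¹ = t⁻¹ * (w⁻¹ * (t * (w * x)) * w⁻¹) := by
                calc x * w⁻¹ = t⁻¹ * (t * (w⁻¹ * (w * x))) * w⁻¹ := by group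
                  _ = t⁻¹ * ((t * w⁻¹) * (w * x)) * w⁻¹ := by group
                  _ = t⁻¹ * ((w⁻¹ * t) * (w * x)) * w⁻¹ := by rw [e3]
                  _ = _ := by group
            _ = t⁻¹ * (w⁻¹ * (t * (t * (x * w))) * w⁻¹) := by rw [e2]
            _ = t⁻¹ * (w⁻¹ * t * t * x) := by group
            _ = t⁻¹ * ((t * w⁻¹) * t * x) := by rw [e3]
            _ = _ := by group
        calc w⁻¹ * y * x = w⁻¹ * (y * x) := by group
          _ = w⁻¹ * (t * (x * y)) := by rw [e1]
          _ = (w⁻¹ * t * x) * y := by group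
          _ = (x * w⁻¹) * y := by rw [e4]
          _ = _ := by group
    -- count
    have hsurj : Function.Surjective (fun p : Bool × K =>
        (⟨if p.1 then w * p.2 else p.2, by
          split
          · exact H.mul_mem hw p.2.2.1
          · exact p.2.2.1⟩ : H)) := by
      rintro ⟨y, hy⟩
      rcases hK y hy with h1 | h1
      · exact ⟨(false, ⟨y, h1⟩), by simp⟩
      · exact ⟨(true, ⟨w⁻¹ * y, h1⟩), by simp⟩
    have hfinK : Finite K := Finite.of_injective (Subgroup.inclusion (inf_le_left : K ≤ H))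
      (Subgroup.inclusion_injective _)
    have := Nat.card_le_card_of_surjective _ hsurj
    rw [Nat.card_prod, Nat.card_eq_fintype_card (α := Bool), Fintype.card_bool] at this
    exact this

/-- In `E` of order 32 the centraliser of any element is not abelian. -/
theorem exists_comm_ne (h : Ext E t) (hE : Nat.card E = 32) (v : C) (hv : v ∈ E) :
    ∃ x ∈ E, ∃ y ∈ E, x * v = v * x ∧ y * v = v * y ∧ x * y * x⁻¹ * y⁻¹ = t := by
  by_contra hcon
  push Not at hcon
  have hfin : Finite E := Nat.finite_of_card_ne_zero (by rw [hE]; norm_num)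
  let A := E ⊓ Subgroup.centralizer ({v} : Set C)
  have hA : Nat.card E ≤ 2 * Nat.card A := card_le_two h E le_rfl v hv
  -- A is abelian
  have hab : ∀ x ∈ A, ∀ y ∈ A, x * y = y * x := by
    intro x hx y hy
    have hx2 := Subgroup.mem_centralizer_singleton_iff.1 hx.2
    have hy2 := Subgroup.mem_centralizer_singleton_iff.1 hy.2
    have h1 := hcon x hx.1 y hy.1 hx2 hy2
    rcases h.comm x hx.1 y hy.1 with h2 | h2
    · have h3 := mul_eq_one_iff_eq_inv.1 h2
      rw [inv_inv] at h3
      exact mul_inv_eq_iff_eq_mul.1 h3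
    · exact absurd h2 h1
  -- an element outside A, or E = A
  have hZ : ∃ B : Subgroup C, Nat.card A ≤ 2 * Nat.card B ∧ B ≤ A ∧ ∀ b ∈ B, ∀ y ∈ E, b * y = y * b := by
    by_cases hEA : ∀ y ∈ E, y ∈ A
    · refine ⟨A, by omega, le_rfl, fun b hb y hy => hab b hb y (hEA y hy)⟩
    · push Not at hEA
      obtain ⟨w, hw, hwA⟩ := hEA
      refine ⟨A ⊓ Subgroup.centralizer ({w} : Set C), card_le_two h A inf_le_left w hw,
        inf_le_left, ?_⟩
      intro b hb y hy
      have hbw := Subgroup.mem_centralizer_singleton_iff.1 hb.2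
      -- y ∈ A or w⁻¹ y ∈ A
      have hvw : w * v ≠ v * w := by
        intro h1
        exact hwA ⟨hw, Subgroup.mem_centralizer_singleton_iff.2 h1⟩
      have e2 : w * v = t * (v * w) := by
        rcases h.comm w hw v hv with h2 | h2
        · exfalso; apply hvw
          have h3 := mul_eq_one_iff_eq_inv.1 h2
          rw [inv_inv] at h3
          exact mul_inv_eq_iff_eq_mul.1 h3
        · calc w * v = (w * v * w⁻¹ * v⁻¹) * (v * w) := by group
            _ = _ := by rw [h2]
      rcases h.comm y hy v hv with h1 | h1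
      · have h3 := mul_eq_one_iff_eq_inv.1 h1
        rw [inv_inv] at h3
        have h4 := mul_inv_eq_iff_eq_mul.1 h3
        exact hab b hb.1 y ⟨hy, Subgroup.mem_centralizer_singleton_iff.2 h4⟩
      · have e1 : y * v = t * (v * y) := by
          calc y * v = (y * v * y⁻¹ * v⁻¹) * (v * y) := by group
            _ = _ := by rw [h1]
        -- w⁻¹ y ∈ A
        have e3 : (w⁻¹ * y) * v = v * (w⁻¹ * y) := by
          have e4 : t * w = w * t := h.tc w hw
          have e5 : w⁻¹ * t = t * w⁻¹ := by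
            calc w⁻¹ * t = w⁻¹ * (t * w) * w⁻¹ := by group
              _ = w⁻¹ * (w * t) * w⁻¹ := by rw [e4]
              _ = _ := by group
          have e6 : v * w⁻¹ = t * (w⁻¹ * v) := by
            have htt : t * v = v * t := h.tc v hv
            calc v * w⁻¹ = w⁻¹ * (w * v) * w⁻¹ := by group
              _ = w⁻¹ * (t * (v * w)) * w⁻¹ := by rw [e2]
              _ = (w⁻¹ * t) * v := by group
              _ = (t * w⁻¹) * v := by rw [e5]
              _ = _ := by group
          calc w⁻¹ * y * v = w⁻¹ * (y * v) := by group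
            _ = w⁻¹ * (t * (v * y)) := by rw [e1]
            _ = (w⁻¹ * t) * v * y := by group
            _ = (t * w⁻¹) * v * y := by rw [e5]
            _ = (t * (w⁻¹ * v)) * y := by group
            _ = (v * w⁻¹) * y := by rw [e6]
            _ = _ := by group
        have h6 := hab b hb.1 (w⁻¹ * y) ⟨E.mul_mem (E.inv_mem hw) hy,
          Subgroup.mem_centralizer_singleton_iff.2 e3⟩
        calc b * y = (b * w) * (w⁻¹ * y) := by group
          _ = (w * b) * (w⁻¹ * y) := by rw [hbw]
          _ = w * (b * (w⁻¹ * y)) := by group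
          _ = w * ((w⁻¹ * y) * b) := by rw [h6]
          _ = _ := by group
  obtain ⟨B, hB1, hB2, hB3⟩ := hZ
  -- |B| ≤ 2
  have hB4 : Nat.card B ≤ 2 := by
    classical
    have hinj : Function.Injective (fun b : B => decide ((b : C) = 1)) := by
      rintro ⟨a, ha⟩ ⟨b, hb⟩ hab'
      have ha' := h.cen a (hB2 ha).1 (hB3 a ha)
      have hb' := h.cen b (hB2 hb).1 (hB3 b hb)
      apply Subtype.ext
      show a = b
      have hab'' : decide (a = 1) = decide (b = 1) := hab'
      rcases ha' with rfl | rfl <;> rcases hb' with rfl | rfl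
      · rfl
      · simp [h.ne] at hab''
      · simp [h.ne] at hab''
      · rfl
    have := Nat.card_le_card_of_injective _ hinj
    simpa using this
  omega

end extra

/-! ### the main argument inside `C` -/

section main

variable {C : Type*} [Group C]

/-- the set `W(v)` -/
def W (v : C) : Set C :=
  {x | x * v = v * x ∧ ∀ d : C, d * v = v * d → Odd (orderOf d) → x * d = d * x}

variable {E : Subgroup C} {t : C}

theorem t_sq (h : Ext E t) : t * t = 1 := by
  rcases h.cen (t * t) (E.mul_mem h.mem h.mem)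
    (fun y hy => by rw [mul_assoc, h.tc y hy, ← mul_assoc, h.tc y hy, mul_assoc]) with h1 | h1
  · exact h1
  · exact absurd (mul_eq_left.1 h1) h.ne

/-- elements of odd order commute with `E` -/
theorem odd_comm (hE : Nat.card E = 32)
    (hcov : ∀ c : C, ∃ e ∈ E, ∃ n : C, (∀ x ∈ E, n * x = x * n) ∧ c = e * n)
    (d : C) (hd : Odd (orderOf d)) : ∀ x ∈ E, d * x = x * d := by
  obtain ⟨e, he, n, hn, rfl⟩ := hcov d
  set k := orderOf (e * n) with hk
  have hen : Commute e n := (hn e he).symm
  have h1 : e ^ k * n ^ k = 1 := by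
    rw [← hen.mul_pow, hk]; exact pow_orderOf_eq_one _
  have h2 : ∀ x ∈ E, e ^ k * x = x * e ^ k := by
    intro x hx
    have h3 : Commute (n ^ k) x := Commute.pow_left (hn x hx) k
    have h4 : e ^ k = (n ^ k)⁻¹ := mul_eq_one_iff_eq_inv.1 h1
    rw [h4]
    exact h3.inv_left
  have h5 : e ^ 32 = 1 := by
    have : (⟨e, he⟩ : E) ^ 32 = 1 := by
      rw [← hE]; exact pow_card_eq_one'
    exact congrArg Subtype.val this
  have hcop : Nat.Coprime k 32 := by
    rw [show (32 : ℕ) = 2 ^ 5 by norm_num]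
    exact Nat.Coprime.pow_right _ (Nat.coprime_two_right.2 hd)
  have h6 : ∀ x ∈ E, Commute e x := by
    intro x hx
    have h7 : e = (e ^ k) ^ (Int.gcdA k 32) := by
      have hb : (1 : ℤ) = k * Int.gcdA k 32 + 32 * Int.gcdB k 32 := by
        have := Int.gcd_eq_gcd_ab k 32
        rw [show Int.gcd (k : ℤ) 32 = 1 from hcop] at this
        exact_mod_cast this
      calc e = e ^ (1 : ℤ) := (zpow_one e).symm
        _ = e ^ ((k : ℤ) * Int.gcdA k 32 + 32 * Int.gcdB k 32) := by rw [← hb]
        _ = _ := by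
          rw [zpow_add, zpow_mul, zpow_mul, zpow_natCast]
          rw [show (e ^ (32 : ℤ)) = 1 by exact_mod_cast h5, one_zpow, mul_one]
    rw [h7]
    exact Commute.zpow_left (h2 x hx) _
  intro x hx
  calc e * n * x = e * (n * x) := by group
    _ = e * (x * n) := by rw [hn x hx]
    _ = (e * x) * n := by group
    _ = (x * e) * n := by rw [(h6 x hx).eq]
    _ = _ := by group

/-- (b) -/
theorem exists_W (h : Ext E t) (hE : Nat.card E = 32)
    (hcov : ∀ c : C, ∃ e ∈ E, ∃ n : C, (∀ x ∈ E, n * x = x * n) ∧ c = e * n) (v : C) :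
    ∃ x ∈ W v, ∃ y ∈ W v, x * y * x⁻¹ * y⁻¹ = t := by
  obtain ⟨e, he, n, hn, rfl⟩ := hcov v
  obtain ⟨x, hx, y, hy, hxe, hye, hxy⟩ := exists_comm_ne h hE e he
  refine ⟨x, ⟨?_, ?_⟩, y, ⟨?_, ?_⟩, hxy⟩
  · calc x * (e * n) = (x * e) * n := by group
      _ = (e * x) * n := by rw [hxe]
      _ = e * (x * n) := by group
      _ = e * (n * x) := by rw [hn x hx]
      _ = _ := by group
  · intro d _ hd
    exact (odd_comm hE hcov d hd x hx).symm
  · calc y * (e * n) = (y * e) * n := by group
      _ = (e * y) * n := by rw [hye]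
      _ = e * (y * n) := by group
      _ = e * (n * y) := by rw [hn y hy]
      _ = _ := by group
  · intro d _ hd
    exact (odd_comm hE hcov d hd y hy).symm

/-- (a) -/
theorem comm_W [Finite C] (h : Ext E t) (hE : Nat.card E = 32) (φ : C →* alternatingGroup (Fin 5))
    (hφ : ∀ c, φ c = 1 ↔ c ∈ E) (hφs : Function.Surjective φ)
    (hcov : ∀ c : C, ∃ e ∈ E, ∃ n : C, (∀ x ∈ E, n * x = x * n) ∧ c = e * n)
    (v : C) (hv : v * v = 1) (x y : C) (hx : x ∈ W v) (hy : y ∈ W v) :
    x * y * x⁻¹ * y⁻¹ = 1 ∨ x * y * x⁻¹ * y⁻¹ = t := by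
  by_cases hvE : v ∈ E
  · -- W v ⊆ E
    have key : ∀ w ∈ W v, w ∈ E := by
      intro w hw
      rw [← hφ]
      apply alt5_center (φ w) {s | ∃ d : C, Odd (orderOf d) ∧ φ d = s}
      · rintro g s ⟨d, hd, rfl⟩
        obtain ⟨c, rfl⟩ := hφs g
        refine ⟨c * d * c⁻¹, ?_, by simp⟩
        have : orderOf (c * d * c⁻¹) = orderOf d := by
          have := orderOf_injective (MulAut.conj c).toMonoidHom (MulAut.conj c).injective d
          simpa using this
        rw [this]; exact hd
      · -- an element of order 3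
        have h3 : Fact (Nat.Prime 3) := ⟨by norm_num⟩
        have hcard : 3 ∣ Nat.card C := by
          have h60 := alt5_card
          have h1 : Nat.card φ.range ∣ Nat.card C := by
            rw [← Subgroup.index_ker φ]
            exact Subgroup.index_dvd_card _
          rw [MonoidHom.range_eq_top.2 hφs, Subgroup.card_top, h60] at h1
          exact dvd_trans (by norm_num) h1
        obtain ⟨d, hd⟩ := exists_prime_orderOf_dvd_card' (G := C) 3 hcard
        refine ⟨φ d, ⟨d, by rw [hd]; decide, rfl⟩, ?_⟩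
        intro h1
        rw [hφ] at h1
        have h2 : (⟨d, h1⟩ : E) ^ 32 = 1 := by
          rw [← hE]; exact pow_card_eq_one'
        have h4 : d ^ 32 = 1 := congrArg Subtype.val h2
        have h5 := orderOf_dvd_of_pow_eq_one h4
        rw [hd] at h5
        revert h5; decide
      · rintro s ⟨d, hd, rfl⟩
        have h1 := odd_comm hE hcov d hd v hvE
        have h2 := hw.2 d h1 hd
        rw [← map_mul, h2, map_mul]
    exact h.comm x (key x hx) y (key y hy)
  · have hφv : φ v ≠ 1 := fun h1 => hvE ((hφ v).1 h1)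
    have hφvv : φ v * φ v = 1 := by rw [← map_mul, hv, map_one]
    have hxv : φ x * φ v = φ v * φ x := by rw [← map_mul, hx.1, map_mul]
    have hyv : φ y * φ v = φ v * φ y := by rw [← map_mul, hy.1, map_mul]
    have hxy := alt5_comm (φ v) (φ x) (φ y) hφv hφvv hxv hyv
    obtain ⟨e, he, n, hn, rfl⟩ := hcov x
    obtain ⟨e', he', n', hn', rfl⟩ := hcov y
    have he1 : φ e = 1 := (hφ e).2 he
    have he1' : φ e' = 1 := (hφ e').2 he'
    rw [map_mul, map_mul, he1, he1', one_mul, one_mul] at hxy
    have hnn : n * n' * n⁻¹ * n'⁻¹ ∈ E := by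
      rw [← hφ, map_mul, map_mul, map_mul, map_inv, map_inv, hxy]; group
    have hnc : ∀ z ∈ E, (n * n' * n⁻¹ * n'⁻¹) * z = z * (n * n' * n⁻¹ * n'⁻¹) := by
      intro z hz
      have a1 : Commute n z := hn z hz
      have a2 : Commute n' z := hn' z hz
      exact ((((a1.mul_left a2).mul_left a1.inv_left)).mul_left a2.inv_left).eq
    have hc := h.cen _ hnn hnc
    have heq : (e * n) * (e' * n') * (e * n)⁻¹ * (e' * n')⁻¹ =
        (e * e' * e⁻¹ * e'⁻¹) * (n * n' * n⁻¹ * n'⁻¹) := by
      have b1 : n * e' = e' * n := hn e' he'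
      have b2 : n' * e = e * n' := hn' e he
      have b3 : n⁻¹ * e = e * n⁻¹ := (Commute.inv_left (hn e he)).eq
      have b4 : n'⁻¹ * e' = e' * n'⁻¹ := (Commute.inv_left (hn' e' he')).eq
      have c1 : ∀ u ∈ E, Commute n u := fun u hu => hn u hu
      have c2 : ∀ u ∈ E, Commute n' u := fun u hu => hn' u hu
      have hie : e⁻¹ ∈ E := E.inv_mem he
      have hie' : e'⁻¹ ∈ E := E.inv_mem he'
      have d1 : n * (e' * n' * n⁻¹ * e⁻¹ * n'⁻¹ * e'⁻¹) =
          e' * e⁻¹ * e'⁻¹ * (n * n' * n⁻¹ * n'⁻¹) := by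
        calc n * (e' * n' * n⁻¹ * e⁻¹ * n'⁻¹ * e'⁻¹)
            = (n * e') * n' * (n⁻¹ * e⁻¹) * (n'⁻¹ * e'⁻¹) := by group
          _ = (e' * n) * n' * (e⁻¹ * n⁻¹) * (e'⁻¹ * n'⁻¹) := by
              rw [b1, (Commute.inv_left (c1 _ hie)).eq, (Commute.inv_left (c2 _ hie')).eq]
          _ = e' * n * (n' * e⁻¹) * (n⁻¹ * e'⁻¹) * n'⁻¹ := by group
          _ = e' * n * (e⁻¹ * n') * (e'⁻¹ * n⁻¹) * n'⁻¹ := by
              rw [(c2 _ hie).eq, (Commute.inv_left (c1 _ hie')).eq]
          _ = e' * (n * e⁻¹) * (n' * e'⁻¹) * n⁻¹ * n'⁻¹ := by group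
          _ = e' * (e⁻¹ * n) * (e'⁻¹ * n') * n⁻¹ * n'⁻¹ := by
              rw [(c1 _ hie).eq, (c2 _ hie').eq]
          _ = e' * e⁻¹ * (n * e'⁻¹) * n' * n⁻¹ * n'⁻¹ := by group
          _ = e' * e⁻¹ * (e'⁻¹ * n) * n' * n⁻¹ * n'⁻¹ := by rw [(c1 _ hie').eq]
          _ = _ := by group
      calc (e * n) * (e' * n') * (e * n)⁻¹ * (e' * n')⁻¹
          = e * (n * (e' * n' * n⁻¹ * e⁻¹ * n'⁻¹ * e'⁻¹)) := by group
        _ = e * (e' * e⁻¹ * e'⁻¹ * (n * n' * n⁻¹ * n'⁻¹)) := by rw [d1]
        _ = _ := by group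
    rw [heq]
    rcases h.comm e he e' he' with h1 | h1 <;> rcases hc with h2 | h2
    · left; rw [h1, h2, mul_one]
    · right; rw [h1, h2, one_mul]
    · right; rw [h1, h2, mul_one]
    · left; rw [h1, h2, t_sq h]

end main

/-! ### the theorem -/

/-- If `C = C_G(t)` has a normal extraspecial subgroup `E` of order 32 with `C/E ≅ A₅` and `t` commutes
with one of its conjugates `≠ t`, then `C_C(E) ≤ E`. -/
theorem centralizer_le {G : Type*} [Group G] [Finite G] (t : G) (ht : orderOf t = 2)
    (E : Subgroup (Subgroup.centralizer ({t} : Set G))) [E.Normal] (hE : Nat.card E = 32)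
    (hX : Cfsg.IsExtraspecial 2 E)
    (e : (Subgroup.centralizer ({t} : Set G)) ⧸ E ≃* alternatingGroup (Fin 5))
    (g : G) (hg : g * t * g⁻¹ ≠ t) (hgc : (g * t * g⁻¹) * t = t * (g * t * g⁻¹)) :
    Subgroup.centralizer (E : Set (Subgroup.centralizer ({t} : Set G))) ≤ E := by
  by_contra hcon
  obtain ⟨z, hz⟩ := ext_of_extraspecial E hX
  let φ : Subgroup.centralizer ({t} : Set G) →* alternatingGroup (Fin 5) :=
    e.toMonoidHom.comp (QuotientGroup.mk' E)
  have hφ : ∀ c, φ c = 1 ↔ c ∈ E := by
    intro c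
    show e (QuotientGroup.mk' E c) = 1 ↔ c ∈ E
    rw [map_eq_one_iff e e.injective]
    exact QuotientGroup.eq_one_iff c
  have hφs : Function.Surjective φ := by
    intro a
    obtain ⟨b, hb⟩ := e.surjective a
    obtain ⟨c, hc⟩ := QuotientGroup.mk'_surjective E b
    exact ⟨c, by show e (QuotientGroup.mk' E c) = a; rw [hc, hb]⟩
  have htt : t * t = 1 := by
    have := pow_orderOf_eq_one t
    rw [ht, sq] at this; exact this
  have ht1 : t ≠ 1 := by
    intro h1; rw [h1, orderOf_one] at ht; norm_num at ht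
  let tC : Subgroup.centralizer ({t} : Set G) := ⟨t, Subgroup.mem_centralizer_singleton_iff.2 rfl⟩
  have htc : ∀ c : Subgroup.centralizer ({t} : Set G), c * tC = tC * c := by
    intro c
    apply Subtype.ext
    exact Subgroup.mem_centralizer_singleton_iff.1 c.2
  have htE : tC ∈ E := by
    rw [← hφ]
    apply alt5_center (φ tC) Set.univ (fun _ _ _ => Set.mem_univ _)
    · refine ⟨⟨Equiv.swap 0 1 * Equiv.swap 0 2, ?_⟩, Set.mem_univ _, ?_⟩
      · rw [Equiv.Perm.mem_alternatingGroup]; decide
      · intro h; have := congrArg Subtype.val h; revert this; decide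
    · intro s _
      obtain ⟨c, rfl⟩ := hφs s
      rw [← map_mul, ← htc c, map_mul]
  have htz : tC = z := by
    rcases hz.cen tC htE (fun y _ => (htc y).symm) with h1 | h1
    · exact absurd (congrArg Subtype.val h1) ht1
    · exact h1
  subst htz
  -- the covering
  have hcov : ∀ c : Subgroup.centralizer ({t} : Set G), ∃ e ∈ E,
      ∃ n : Subgroup.centralizer ({t} : Set G), (∀ x ∈ E, n * x = x * n) ∧ c = e * n := by
    have hN : (Subgroup.centralizer (E : Set (Subgroup.centralizer ({t} : Set G)))).Normal := by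
      infer_instance
    have hNm : ((Subgroup.centralizer (E : Set (Subgroup.centralizer ({t} : Set G)))).map φ).Normal :=
      hN.map φ hφs
    have h5 : 5 ≤ Nat.card (Fin 5) := by simp
    have htop : (Subgroup.centralizer (E : Set (Subgroup.centralizer ({t} : Set G)))).map φ = ⊤ := by
      rcases hNm.eq_bot_or_eq_top with h1 | h1
      · exfalso; apply hcon
        intro n hn
        rw [← hφ]
        have : φ n ∈ (Subgroup.centralizer (E : Set (Subgroup.centralizer ({t} : Set G)))).map φ :=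
          Subgroup.mem_map_of_mem φ hn
        rw [h1] at this
        exact Subgroup.mem_bot.1 this
      · exact h1
    intro c
    have hc : φ c ∈ (Subgroup.centralizer (E : Set (Subgroup.centralizer ({t} : Set G)))).map φ := by
      rw [htop]; exact Subgroup.mem_top _
    obtain ⟨n, hn, hnc⟩ := hc
    refine ⟨c * n⁻¹, ?_, n, ?_, by group⟩
    · rw [← hφ, map_mul, map_inv, hnc, mul_inv_cancel]
    · intro x hx
      exact ((Subgroup.mem_centralizer_iff.1 hn) x hx).symm
  -- the two involutions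
  let v₁ : Subgroup.centralizer ({t} : Set G) := ⟨g * t * g⁻¹, Subgroup.mem_centralizer_singleton_iff.2 hgc⟩
  have hgc2 : (g⁻¹ * t * g) * t = t * (g⁻¹ * t * g) := by
    calc (g⁻¹ * t * g) * t = g⁻¹ * (t * (g * t * g⁻¹)) * g := by group
      _ = g⁻¹ * ((g * t * g⁻¹) * t) * g := by rw [hgc]
      _ = _ := by group
  let v₂ : Subgroup.centralizer ({t} : Set G) := ⟨g⁻¹ * t * g, Subgroup.mem_centralizer_singleton_iff.2 hgc2⟩
  have hv₂ : v₂ * v₂ = 1 := by
    apply Subtype.ext
    show (g⁻¹ * t * g) * (g⁻¹ * t * g) = 1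
    calc (g⁻¹ * t * g) * (g⁻¹ * t * g) = g⁻¹ * (t * t) * g := by group
      _ = 1 := by rw [htt]; group
  obtain ⟨x, hx, y, hy, hxy⟩ := exists_W hz hE hcov v₁
  -- transport by g⁻¹
  have tr : ∀ w : Subgroup.centralizer ({t} : Set G), w ∈ W v₁ →
      ∃ w' : Subgroup.centralizer ({t} : Set G), (w' : G) = g⁻¹ * w * g ∧ w' ∈ W v₂ := by
    rintro ⟨w, hwt⟩ ⟨h1, h2⟩
    have hwt' := Subgroup.mem_centralizer_singleton_iff.1 hwt
    have h1' : w * (g * t * g⁻¹) = (g * t * g⁻¹) * w := congrArg Subtype.val h1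
    refine ⟨⟨g⁻¹ * w * g, Subgroup.mem_centralizer_singleton_iff.2 ?_⟩, rfl, ?_, ?_⟩
    · calc (g⁻¹ * w * g) * t = g⁻¹ * (w * (g * t * g⁻¹)) * g := by group
        _ = g⁻¹ * ((g * t * g⁻¹) * w) * g := by rw [h1']
        _ = _ := by group
    · apply Subtype.ext
      show (g⁻¹ * w * g) * (g⁻¹ * t * g) = (g⁻¹ * t * g) * (g⁻¹ * w * g)
      calc (g⁻¹ * w * g) * (g⁻¹ * t * g) = g⁻¹ * (w * t) * g := by group
        _ = g⁻¹ * (t * w) * g := by rw [hwt']
        _ = _ := by group
    · rintro ⟨d, hdt⟩ hdv hdo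
      have hdt' := Subgroup.mem_centralizer_singleton_iff.1 hdt
      have hdv' : d * (g⁻¹ * t * g) = (g⁻¹ * t * g) * d := congrArg Subtype.val hdv
      have hm : g * d * g⁻¹ ∈ Subgroup.centralizer ({t} : Set G) := by
        rw [Subgroup.mem_centralizer_singleton_iff]
        calc (g * d * g⁻¹) * t = g * (d * (g⁻¹ * t * g)) * g⁻¹ := by group
          _ = g * ((g⁻¹ * t * g) * d) * g⁻¹ := by rw [hdv']
          _ = _ := by group
      have h3 := h2 ⟨g * d * g⁻¹, hm⟩ (by
        apply Subtype.ext
        show (g * d * g⁻¹) * (g * t * g⁻¹) = (g * t * g⁻¹) * (g * d * g⁻¹)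
        calc (g * d * g⁻¹) * (g * t * g⁻¹) = g * (d * t) * g⁻¹ := by group
          _ = g * (t * d) * g⁻¹ := by rw [hdt']
          _ = _ := by group) (by
        rw [Subgroup.orderOf_mk] at hdo ⊢
        have : orderOf (g * d * g⁻¹) = orderOf d := by
          have := orderOf_injective (MulAut.conj g).toMonoidHom (MulAut.conj g).injective d
          simpa using this
        rw [this]; exact hdo)
      have h4 : w * (g * d * g⁻¹) = (g * d * g⁻¹) * w := congrArg Subtype.val h3
      apply Subtype.ext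
      show (g⁻¹ * w * g) * d = d * (g⁻¹ * w * g)
      calc (g⁻¹ * w * g) * d = g⁻¹ * (w * (g * d * g⁻¹)) * g := by group
        _ = g⁻¹ * ((g * d * g⁻¹) * w) * g := by rw [h4]
        _ = _ := by group
  obtain ⟨x', hx', hxW⟩ := tr x hx
  obtain ⟨y', hy', hyW⟩ := tr y hy
  have hxyG : (x : G) * y * (x : G)⁻¹ * (y : G)⁻¹ = t := congrArg Subtype.val hxy
  have hfin := comm_W hz hE φ hφ hφs hcov v₂ hv₂ x' y' hxW hyW
  have hval : ((x' * y' * x'⁻¹ * y'⁻¹ : Subgroup.centralizer ({t} : Set G)) : G) = g⁻¹ * t * g := by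
    show (x' : G) * y' * (x' : G)⁻¹ * (y' : G)⁻¹ = _
    rw [hx', hy']
    calc g⁻¹ * x * g * (g⁻¹ * y * g) * (g⁻¹ * x * g)⁻¹ * (g⁻¹ * y * g)⁻¹
        = g⁻¹ * ((x : G) * y * (x : G)⁻¹ * (y : G)⁻¹) * g := by group
      _ = _ := by rw [hxyG]
  rcases hfin with h1 | h1
  · have h2 : g⁻¹ * t * g = 1 := by rw [← hval, h1]; rfl
    apply ht1
    calc t = g * (g⁻¹ * t * g) * g⁻¹ := by group
      _ = 1 := by rw [h2]; group
  · have h2 : g⁻¹ * t * g = t := by rw [← hval, h1]
    apply hg
    calc g * t * g⁻¹ = g * (g⁻¹ * t * g) * g⁻¹ := by rw [h2]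
      _ = t := by group

end Cfsg.Agent.J3Type.Reduce
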