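import Mathlib
import Cfsg.Agent.J3Type.CharOrder
import Cfsg.Agent.J3Type.CodeExists
import Cfsg.Agent.J3Type.Kappa
import Cfsg.Agent.J3Type.OneClass
import Cfsg.Agent.J3Type.HasModelOf
import Cfsg.Agent.J3Type.Reduce

/-!
# The order of Janko's third group from the involution centralizer

`card_of_hasModel`: a finite group with one class of involutions whose centralizer has the signed
permutation model has order 50232960.
-/

set_option autoImplicit false

namespace Cfsg.Agent.J3Type.CardOneClass

open Cfsg.Agent.J2Type.Model Cfsg.Agent.J2Type.CStruct Cfsg.Agent.J3Type.OneClass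

universe u

/-- **The order from one class of involutions and the model.** -/
theorem card_of_hasModel {G : Type u} [Group G] [Finite G] {t : G} (hm : HasModel t)
    (hall : ∀ g : G, orderOf g = 2 → IsConj t g) : Nat.card G = 50232960 := by
  obtain ⟨ht, h1920, Q, v, ρ, M⟩ := hm
  have htt : t * t = 1 := by
    have := pow_orderOf_eq_one t
    rw [ht, pow_two] at this
    exact this
  have hv : ∃ g, g * t * g⁻¹ = ((v 0 : Subgroup.centralizer ({t} : Set G)) : G) := by
    apply isConj_iff.1
    apply hall
    rw [orderOf_eq_prime_iff, pow_two]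
    refine ⟨congrArg Subtype.val (M.v_sq 0), ?_⟩
    intro h1
    apply v_ne_one M 0 0
    rw [zp_zero, one_mul]
    exact Subtype.ext h1
  obtain ⟨u, hu, huQ⟩ := exists_outer M 0 hv
  obtain ⟨κ, hκ⟩ := Cfsg.Agent.J3Type.Kappa.exists_kappa M u huQ hu
  obtain ⟨D, hD⟩ := Cfsg.Agent.J3Type.CodeExists.exists_coded htt M rfl h1920 κ hκ
  exact Cfsg.Agent.J3Type.CharOrder.card_of_coded hD hall

/-- The order, from the printed hypotheses and one more conjugate of `t` commuting with `t`. -/
theorem card_of_one_class {G : Type u} [Group G] [Finite G]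
    (hone : ∀ x y : G, orderOf x = 2 → orderOf y = 2 → IsConj x y) (t : G) (ht : orderOf t = 2)
    (E : Subgroup (Subgroup.centralizer ({t} : Set G))) [E.Normal] (hE : Nat.card E = 32)
    (hX : Cfsg.IsExtraspecial 2 E)
    (e : (Subgroup.centralizer ({t} : Set G)) ⧸ E ≃* alternatingGroup (Fin 5))
    (g : G) (hg : g * t * g⁻¹ ≠ t) (hgc : (g * t * g⁻¹) * t = t * (g * t * g⁻¹)) :
    Nat.card G = 50232960 := by
  have h2c := Cfsg.Agent.J3Type.Reduce.centralizer_le t ht E hE hX e g hg hgc
  exact card_of_hasModel (Cfsg.Agent.J3Type.HasModelOf.hasModel t ht E hX hE h2c e)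
    (fun g hg => hone t g ht hg)

end Cfsg.Agent.J3Type.CardOneClass
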