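import Mathlib
import Cfsg.Agent.J2Type.COdd

set_option autoImplicit false

/-!
# The cube relation in `2^{1+4}_-:A₅`
-/

namespace Cfsg.Agent.J3Type.CubeRel

open Cfsg.Agent.J2Type.Model Cfsg.Agent.J2Type.SPFacts Cfsg.Agent.J2Type.CStruct
open Cfsg.Agent.J2Type.COdd

/-- permutations inverting `τ3` -/
def wσ (k : Fin 3) : Equiv.Perm (Fin 5) :=
  if k = 0 then Equiv.swap 0 1 * Equiv.swap 3 4
  else if k = 1 then Equiv.swap 1 2 * Equiv.swap 3 4 else Equiv.swap 0 2 * Equiv.swap 3 4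

/-- Klein four-group involutions on `{0,1,2,3}` and `{0,1,2,4}` -/
def xσ (k : Fin 3) (l : Fin 2) : Equiv.Perm (Fin 5) :=
  let m : Fin 5 := if l = 0 then 3 else 4
  if k = 0 then Equiv.swap 0 1 * Equiv.swap 2 m
  else if k = 1 then Equiv.swap 1 2 * Equiv.swap 0 m else Equiv.swap 0 2 * Equiv.swap 1 m

/-- candidates for `w` -/
def LW : Finset SP :=
  (Finset.univ : Finset (Fin 3 × ZMod 2)).image fun p =>
    ⟨wσ p.1, fun i => if i = 3 ∨ i = 4 then p.2 else 0⟩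

/-- candidates for `x` -/
def LX : Finset SP :=
  (Finset.univ : Finset (Fin 3 × Fin 2 × ZMod 2)).image fun p =>
    ⟨xσ p.1 p.2.1, fun i =>
      if i = (if p.2.1 = 0 then 3 else 4) ∨ i = (xσ p.1 p.2.1) (if p.2.1 = 0 then 3 else 4) then p.2.2
      else 0⟩

theorem W_aux1 : ∀ σ : Equiv.Perm (Fin 5), Equiv.Perm.sign σ = 1 → σ * σ = 1 →
    σ * τ3 = τ3⁻¹ * σ → ∃ k : Fin 3, σ = wσ k := by decide +kernel

theorem W_aux2 : ∀ (k : Fin 3) (s : Fin 5 → ZMod 2), ∑ i, s i = 0 →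
    (⟨wσ k, s⟩ : SP) * ⟨wσ k, s⟩ = 1 → (⟨wσ k, s⟩ : SP) * g3 = g3⁻¹ * ⟨wσ k, s⟩ →
    (⟨wσ k, s⟩ : SP) ∈ LW := by decide +kernel

theorem W_mem {W : SP} (h1 : Equiv.Perm.sign W.σ = 1) (h2 : ∑ i, W.s i = 0) (h3 : W * W = 1)
    (h4 : W * g3 = g3⁻¹ * W) : W ∈ LW := by
  obtain ⟨σ, s⟩ := W
  obtain ⟨k, rfl⟩ := W_aux1 σ h1 (congrArg SP.σ h3) (congrArg SP.σ h4)
  exact W_aux2 k s h2 h3 h4

theorem X_aux1 : ∀ σ : Equiv.Perm (Fin 5), Equiv.Perm.sign σ = 1 → σ * σ = 1 → σ ≠ 1 →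
    σ * (τ3 * σ * τ3⁻¹) = τ3 * τ3 * σ * τ3⁻¹ * τ3⁻¹ → ∃ (k : Fin 3) (l : Fin 2), σ = xσ k l := by
  decide +kernel

theorem X_aux2 : ∀ (k : Fin 3) (l : Fin 2) (s : Fin 5 → ZMod 2), ∑ i, s i = 0 →
    (⟨xσ k l, s⟩ : SP) * ⟨xσ k l, s⟩ = 1 →
    (⟨xσ k l, s⟩ : SP) * (g3 * ⟨xσ k l, s⟩ * g3⁻¹) = g3 * g3 * ⟨xσ k l, s⟩ * g3⁻¹ * g3⁻¹ →
    (⟨xσ k l, s⟩ : SP) ∈ LX := by decide +kernel

theorem X_mem {X : SP} (h1 : Equiv.Perm.sign X.σ = 1) (h2 : ∑ i, X.s i = 0) (h3 : X * X = 1)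
    (hne : X.σ ≠ 1) (h4 : X * (g3 * X * g3⁻¹) = g3 * g3 * X * g3⁻¹ * g3⁻¹) : X ∈ LX := by
  obtain ⟨σ, s⟩ := X
  obtain ⟨k, l, rfl⟩ := X_aux1 σ h1 (congrArg SP.σ h3) hne (congrArg SP.σ h4)
  exact X_aux2 k l s h2 h3 h4

theorem cube_aux : ∀ W ∈ LW, ∀ X ∈ LX, ∃ i : Fin 3,
    (W * (g3 ^ (i : ℕ) * X * (g3 ^ (i : ℕ))⁻¹)) * (W * (g3 ^ (i : ℕ) * X * (g3 ^ (i : ℕ))⁻¹)) *
      (W * (g3 ^ (i : ℕ) * X * (g3 ^ (i : ℕ))⁻¹)) = 1 := by decide +kernel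

theorem LW_ne : ∀ W ∈ LW, W.σ ≠ 1 := by decide +kernel

variable {C : Type*} [Group C] [Finite C] {Q : Subgroup C} {z : C} {v : Fin 5 → C} {ρ : C →* SP}

/-- **P4**: the cube relation. -/
theorem cube (M : IsModel Q z v ρ) (hcard : Nat.card C = 1920) {u : C} (hu : u * u = 1)
    (huQ : u ∉ Q) {g w x : C} (hg : orderOf g = 3) (hw : w * w = 1 ∨ w * w = z)
    (hwg : w * g * w⁻¹ = g⁻¹) (hx : x * x = 1) (hxQ : x ∉ Q)
    (hxg : x * (g * x * g⁻¹) = g * g * x * g⁻¹ * g⁻¹) :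
    w * w = 1 ∧ ∃ i < 3, (w * (g ^ i * x * (g ^ i)⁻¹)) ^ 3 = 1 ∨
      (z * w * (g ^ i * x * (g ^ i)⁻¹)) ^ 3 = 1 := by
  obtain ⟨c3, h3, h33⟩ := exists_odd_lift M (n := 3) (by decide) g3_E g3_pow3
  obtain ⟨k, hk⟩ := conj_three M hcard hg h3 h33
  -- SP-level elements
  set W : SP := ρ (k * w * k⁻¹) with hW
  set X : SP := ρ (k * x * k⁻¹) with hX
  have hWE := (M.range W).1 ⟨_, rfl⟩
  have hXE := (M.range X).1 ⟨_, rfl⟩
  have hWW : W * W = 1 := by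
    rw [hW, ← map_mul]
    have e : k * w * k⁻¹ * (k * w * k⁻¹) = k * (w * w) * k⁻¹ := by group
    rw [e]
    rcases hw with h | h
    · rw [h]
      have : k * 1 * k⁻¹ = 1 := by group
      rw [this, map_one]
    · rw [h, M.z_comm]
      have : z * k * k⁻¹ = z := by group
      rw [this]; exact rho_z M
  have hXX : X * X = 1 := by
    rw [hX, ← map_mul]
    have e : k * x * k⁻¹ * (k * x * k⁻¹) = k * (x * x) * k⁻¹ := by group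
    rw [e, hx]
    have : k * 1 * k⁻¹ = 1 := by group
    rw [this, map_one]
  have hWg : W * g3 = g3⁻¹ * W := by
    rw [hW, ← h3, ← hk, ← map_mul, ← map_inv, ← map_mul]
    congr 1
    calc k * w * k⁻¹ * (k * g * k⁻¹) = k * (w * g * w⁻¹) * w * k⁻¹ := by group
      _ = k * g⁻¹ * w * k⁻¹ := by rw [hwg]
      _ = _ := by group
  have hXne : X.σ ≠ 1 := by
    intro h
    apply hxQ
    rw [M.mem_Q]
    have h2 : X.σ = (ρ k).σ * (ρ x).σ * (ρ k).σ⁻¹ := by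
      rw [hX, map_mul, map_mul, map_inv, mul_σ, mul_σ, inv_σ]
    rw [h2] at h
    calc (ρ x).σ = (ρ k).σ⁻¹ * ((ρ k).σ * (ρ x).σ * (ρ k).σ⁻¹) * (ρ k).σ := by group
      _ = 1 := by rw [h]; group
  have hXg : X * (g3 * X * g3⁻¹) = g3 * g3 * X * g3⁻¹ * g3⁻¹ := by
    rw [hX, ← h3, ← hk]
    simp only [← map_mul, ← map_inv]
    congr 1
    calc k * x * k⁻¹ * (k * g * k⁻¹ * (k * x * k⁻¹) * (k * g * k⁻¹)⁻¹)
        = k * (x * (g * x * g⁻¹)) * k⁻¹ := by group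
      _ = k * (g * g * x * g⁻¹ * g⁻¹) * k⁻¹ := by rw [hxg]
      _ = _ := by group
  have hWm := W_mem hWE.1 hWE.2 hWW hWg
  have hXm := X_mem hXE.1 hXE.2 hXX hXne hXg
  obtain ⟨i, hi⟩ := cube_aux W hWm X hXm
  have hW1 : (ρ w).σ ≠ 1 := by
    intro h
    apply LW_ne W hWm
    rw [hW, map_mul, map_mul, map_inv, mul_σ, mul_σ, inv_σ, h]
    group
  have hρw : ρ w * ρ w = 1 := by
    rw [← map_mul]
    rcases hw with h | h
    · rw [h, map_one]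
    · rw [h]; exact rho_z M
  have hww : w * w = 1 := sq_of_rho_sq M hu huQ hρw hW1
  refine ⟨hww, (i : ℕ), i.2, ?_⟩
  have hcube : ρ ((w * (g ^ (i : ℕ) * x * (g ^ (i : ℕ))⁻¹)) ^ 3) = 1 := by
    have e1 : ρ (k * ((w * (g ^ (i : ℕ) * x * (g ^ (i : ℕ))⁻¹)) ^ 3) * k⁻¹) = 1 := by
      rw [← hi, hW, hX, ← h3, ← hk]
      simp only [← map_mul, ← map_inv, ← map_pow]
      congr 1
      rw [conj_pow, pow_succ, pow_two]
      group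
    rw [map_mul, map_mul, map_inv, mul_inv_eq_one] at e1
    exact mul_eq_left.mp e1
  rcases (M.ker _).1 hcube with h | h
  · left; exact h
  · right
    have hc : Commute z (w * (g ^ (i : ℕ) * x * (g ^ (i : ℕ))⁻¹)) := (M.z_comm _).symm
    rw [mul_assoc, hc.mul_pow, h, pow_succ, pow_two, M.z_sq, one_mul, M.z_sq]

end Cfsg.Agent.J3Type.CubeRel
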