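import Mathlib

/-!
Package P2 of the S1652 plan: the normaliser of the elementary abelian subgroup of order 16 attached to a
far pair of commuting involutions.
-/

set_option autoImplicit false
set_option linter.style.haveILetI false

namespace Cfsg.Agent.J3Type.NormA

open Subgroup

/-- Two commuting involutions whose centralisers meet in a subgroup of order 16. -/
def far {G : Type*} [Group G] (s r : G) : Prop :=
  orderOf s = 2 ∧ orderOf r = 2 ∧ s * r = r * s ∧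
    Nat.card (Subgroup.centralizer ({s} : Set G) ⊓ Subgroup.centralizer ({r} : Set G) : Subgroup G) = 16

/-- The combinatorial configuration that is used in the argument. -/
structure Cfg {G : Type*} [Group G] (A : Subgroup G) (R : G → G → Prop) : Prop where
  card : Nat.card A = 16
  sq : ∀ x ∈ A, x * x = 1
  ne : ∀ a b, R a b → a ≠ 1 ∧ b ≠ 1
  symm : ∀ a b, R a b → R b a
  conj : ∀ n a b, R a b → R (n * a * n⁻¹) (n * b * n⁻¹)
  cent : ∀ a ∈ A, ∀ b ∈ A, R a b → ∀ x, x * a = a * x → x * b = b * x → x ∈ A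
  blk : ∀ a ∈ A, a ≠ 1 → ∃ V : Subgroup G, Nat.card V = 4 ∧ ∀ x, x ∈ V ↔ (x ∈ A ∧ ¬ R a x)
  self : ∀ a ∈ A, ¬ R a a
  trans : ∀ a ∈ A, ∀ b ∈ A, ∀ c ∈ A, a ≠ 1 → b ≠ 1 → c ≠ 1 → ¬ R a b → ¬ R b c → ¬ R a c
  tr : ∀ a b a' b', R a b → R a' b' → ∃ g : G, g * a * g⁻¹ = a' ∧ g * b * g⁻¹ = b'

section

variable {G : Type*} [Group G] {A : Subgroup G} {R : G → G → Prop}

theorem comm_of_sq (sq : ∀ x ∈ A, x * x = 1) {a b : G} (ha : a ∈ A) (hb : b ∈ A) : a * b = b * a := by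
  have h1 := sq _ (A.mul_mem ha hb)
  have ha2 := sq a ha
  have hb2 := sq b hb
  have ea : a⁻¹ = a := inv_eq_of_mul_eq_one_left ha2
  have eb : b⁻¹ = b := inv_eq_of_mul_eq_one_left hb2
  have : (a * b)⁻¹ = a * b := inv_eq_of_mul_eq_one_left h1
  rw [mul_inv_rev, ea, eb] at this
  exact this.symm

theorem Cfg.conj_iff (h : Cfg A R) (n a b : G) : R (n * a * n⁻¹) (n * b * n⁻¹) ↔ R a b := by
  refine ⟨fun hr => ?_, h.conj n a b⟩
  have := h.conj n⁻¹ _ _ hr
  simpa [mul_assoc] using this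

theorem Cfg.mem_iff (h : Cfg A R) {a b : G} (ha : a ∈ A) (hb : b ∈ A) (hr : R a b) (x : G) :
    x ∈ A ↔ x * a = a * x ∧ x * b = b * x :=
  ⟨fun hx => ⟨comm_of_sq h.sq hx ha, comm_of_sq h.sq hx hb⟩, fun hx => h.cent a ha b hb hr x hx.1 hx.2⟩

theorem conj_comm_iff (g x a : G) : (g * x * g⁻¹) * (g * a * g⁻¹) = (g * a * g⁻¹) * (g * x * g⁻¹) ↔
    x * a = a * x := by
  constructor
  · intro h
    have : g * (x * a) * g⁻¹ = g * (a * x) * g⁻¹ := by
      simpa [mul_assoc] using h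
    simpa using this
  · intro h
    have : g * (x * a) * g⁻¹ = g * (a * x) * g⁻¹ := by rw [h]
    simpa [mul_assoc] using this

theorem Cfg.mem_normalizer (h : Cfg A R) {a b a' b' g : G} (ha : a ∈ A) (hb : b ∈ A) (hr : R a b)
    (ha' : a' ∈ A) (hb' : b' ∈ A) (hr' : R a' b') (h1 : g * a * g⁻¹ = a') (h2 : g * b * g⁻¹ = b') :
    g ∈ normalizer (A : Set G) := by
  rw [Subgroup.mem_normalizer_iff]
  intro x
  rw [h.mem_iff ha hb hr x, h.mem_iff ha' hb' hr', ← h1, ← h2, conj_comm_iff, conj_comm_iff]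

theorem Cfg.finA (h : Cfg A R) : Finite A := by
  apply Nat.finite_of_card_ne_zero
  rw [h.card]; norm_num

theorem Cfg.V_le (_ : Cfg A R) {a : G} {V : Subgroup G} (hV : ∀ x, x ∈ V ↔ (x ∈ A ∧ ¬ R a x)) : V ≤ A :=
  fun x hx => ((hV x).mp hx).1

/-- twelve elements of `A` are far from a given involution of `A`. -/
theorem Cfg.card_far (h : Cfg A R) {a : G} (ha : a ∈ A) (ha1 : a ≠ 1) :
    Nat.card {b : A // R a b} = 12 := by
  classical
  have := h.finA
  obtain ⟨V, hVc, hV⟩ := h.blk a ha ha1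
  have h1 : Nat.card {b : A // ¬ R a b} = 4 := by
    rw [← hVc]
    refine Nat.card_congr
      { toFun := fun b => ⟨b.1.1, (hV _).mpr ⟨b.1.2, b.2⟩⟩
        invFun := fun v => ⟨⟨v.1, ((hV _).mp v.2).1⟩, ((hV _).mp v.2).2⟩
        left_inv := fun b => rfl
        right_inv := fun v => rfl }
  have h2 : Nat.card {b : A // R a b} + Nat.card {b : A // ¬ R a b} = Nat.card A := by
    rw [← Nat.card_sum]
    exact Nat.card_congr (Equiv.sumCompl _)
  rw [h1, h.card] at h2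
  omega

theorem Cfg.exists_far (h : Cfg A R) {a : G} (ha : a ∈ A) (ha1 : a ≠ 1) : ∃ b ∈ A, R a b := by
  have h1 := h.card_far ha ha1
  have : Nonempty {b : A // R a b} := by
    by_contra hc
    rw [not_nonempty_iff] at hc
    rw [Nat.card_of_isEmpty] at h1
    omega
  obtain ⟨b⟩ := this
  exact ⟨b.1.1, b.1.2, b.2⟩

theorem Cfg.exists_ne (h : Cfg A R) : ∃ a ∈ A, a ≠ 1 := by
  by_contra hc
  push Not at hc
  have : Nat.card A ≤ 1 := by
    have : Subsingleton A := ⟨fun x y => Subtype.ext (by rw [hc _ x.2, hc _ y.2])⟩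
    exact Finite.card_le_one_iff_subsingleton.mpr this
  rw [h.card] at this
  omega

theorem Cfg.card_ne_one (h : Cfg A R) : Nat.card {a : A // a.1 ≠ 1} = 15 := by
  classical
  have := h.finA
  have h2 : Nat.card {b : A // b.1 ≠ 1} + Nat.card {b : A // ¬ b.1 ≠ 1} = Nat.card A := by
    rw [← Nat.card_sum]
    exact Nat.card_congr (Equiv.sumCompl _)
  have h3 : Nat.card {b : A // ¬ b.1 ≠ 1} = 1 := by
    rw [Nat.card_eq_one_iff_unique]
    refine ⟨⟨fun x y => ?_⟩, ⟨⟨1, by simp⟩⟩⟩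
    have hx := x.2
    have hy := y.2
    push Not at hx hy
    exact Subtype.ext (Subtype.ext (hx.trans hy.symm))
  rw [h3, h.card] at h2
  omega

/-- The far pairs of `A`. -/
theorem Cfg.card_pairs (h : Cfg A R) : Nat.card (Σ a : {a : A // a.1 ≠ 1}, {b : A // R a.1 b}) = 180 := by
  classical
  have := h.finA
  have : Fintype {a : A // a.1 ≠ 1} := Fintype.ofFinite _
  rw [Nat.card_sigma]
  rw [Finset.sum_congr rfl (fun a _ => h.card_far a.1.2 a.2), Finset.sum_const, Finset.card_univ,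
    ← Nat.card_eq_fintype_card, h.card_ne_one]
  rfl

theorem Cfg.le_normalizer (_ : Cfg A R) : A ≤ normalizer (A : Set G) := Subgroup.le_normalizer

theorem Cfg.card_normalizer (h : Cfg A R) : Nat.card (normalizer (A : Set G)) = 2880 := by
  classical
  have := h.finA
  obtain ⟨a, ha, ha1⟩ := h.exists_ne
  obtain ⟨b, hb, hab⟩ := h.exists_far ha ha1
  -- the transversal
  have htr : ∀ q : (Σ a : {a : A // a.1 ≠ 1}, {b : A // R a.1 b}),
      ∃ g : G, g * a * g⁻¹ = q.1.1 ∧ g * b * g⁻¹ = q.2.1 := fun q => h.tr a b _ _ hab q.2.2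
  choose t ht1 ht2 using htr
  have htN : ∀ q, t q ∈ normalizer (A : Set G) := fun q =>
    h.mem_normalizer ha hb hab q.1.1.2 q.2.1.2 q.2.2 (ht1 q) (ht2 q)
  let f : (Σ a : {a : A // a.1 ≠ 1}, {b : A // R a.1 b}) × A → normalizer (A : Set G) :=
    fun p => ⟨t p.1 * p.2.1, mul_mem (htN p.1) (h.le_normalizer p.2.2)⟩
  have hf : Function.Bijective f := by
    constructor
    · rintro ⟨q, x⟩ ⟨q', x'⟩ hqx
      have e1 : t q * x.1 = t q' * x'.1 := congrArg Subtype.val hqx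
      have hx : ∀ x : A, ∀ c ∈ A, x.1 * c * x.1⁻¹ = c := by
        intro x c hc
        rw [comm_of_sq h.sq x.2 hc, mul_inv_cancel_right]
      have e2 : ∀ q : (Σ a : {a : A // a.1 ≠ 1}, {b : A // R a.1 b}), ∀ x : A,
          (t q * x.1) * a * (t q * x.1)⁻¹ = q.1.1 ∧ (t q * x.1) * b * (t q * x.1)⁻¹ = q.2.1 := by
        intro q x
        constructor
        · rw [← ht1 q]
          conv_rhs => rw [← hx x a ha]
          group
        · rw [← ht2 q]
          conv_rhs => rw [← hx x b hb]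
          group
      have e3 := e2 q x
      rw [e1] at e3
      have e4 := e2 q' x'
      have e5 : q.1.1.1 = q'.1.1.1 := e3.1.symm.trans e4.1
      have e6 : q.2.1.1 = q'.2.1.1 := e3.2.symm.trans e4.2
      have e7 : q = q' := by
        obtain ⟨⟨⟨u, hu⟩, hu1⟩, ⟨⟨v, hv⟩, huv⟩⟩ := q
        obtain ⟨⟨⟨u', hu'⟩, hu1'⟩, ⟨⟨v', hv'⟩, huv'⟩⟩ := q'
        simp only at e5 e6
        subst e5
        subst e6
        rfl
      subst e7
      have e8 : x = x' := Subtype.ext (mul_left_cancel e1)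
      rw [e8]
    · rintro ⟨n, hn⟩
      have hna : n * a * n⁻¹ ∈ A := (Subgroup.mem_normalizer_iff.mp hn a).mp ha
      have hnb : n * b * n⁻¹ ∈ A := (Subgroup.mem_normalizer_iff.mp hn b).mp hb
      have hr := h.conj n a b hab
      let q : (Σ a : {a : A // a.1 ≠ 1}, {b : A // R a.1 b}) :=
        ⟨⟨⟨n * a * n⁻¹, hna⟩, (h.ne _ _ hr).1⟩, ⟨⟨n * b * n⁻¹, hnb⟩, hr⟩⟩
      have hq1 : t q * a * (t q)⁻¹ = n * a * n⁻¹ := ht1 q
      have hq2 : t q * b * (t q)⁻¹ = n * b * n⁻¹ := ht2 q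
      have hx : (t q)⁻¹ * n ∈ A := by
        apply h.cent a ha b hb hab
        · have : (t q)⁻¹ * (t q * a * (t q)⁻¹) * n = (t q)⁻¹ * (n * a * n⁻¹) * n := by rw [hq1]
          have h3 : a * ((t q)⁻¹ * n) = (t q)⁻¹ * n * a := by
            simpa [mul_assoc] using this
          exact h3.symm
        · have : (t q)⁻¹ * (t q * b * (t q)⁻¹) * n = (t q)⁻¹ * (n * b * n⁻¹) * n := by rw [hq2]
          have h3 : b * ((t q)⁻¹ * n) = (t q)⁻¹ * n * b := by
            simpa [mul_assoc] using this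
          exact h3.symm
      refine ⟨⟨q, ⟨_, hx⟩⟩, Subtype.ext ?_⟩
      show t q * ((t q)⁻¹ * n) = n
      group
  rw [← Nat.card_congr (Equiv.ofBijective f hf), Nat.card_prod, h.card_pairs, h.card]

/-- The nonidentity elements of `A`. -/
abbrev Pts (A : Subgroup G) := {a : A // a.1 ≠ 1}

/-- The normaliser acts on the nonidentity elements. -/
instance actPts : MulAction (normalizer (A : Set G)) (Pts A) where
  smul n a := ⟨⟨n.1 * a.1.1 * n.1⁻¹, (Subgroup.mem_normalizer_iff.mp n.2 _).mp a.1.2⟩, by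
    intro h
    apply a.2
    have : n.1 * a.1.1 * n.1⁻¹ = n.1 * 1 * n.1⁻¹ := by simpa using h
    exact mul_left_cancel (mul_right_cancel this)⟩
  one_smul a := by
    apply Subtype.ext
    apply Subtype.ext
    show (1 : G) * a.1.1 * (1 : G)⁻¹ = a.1.1
    simp
  mul_smul n m a := by
    apply Subtype.ext
    apply Subtype.ext
    show (n.1 * m.1) * a.1.1 * (n.1 * m.1)⁻¹ = n.1 * (m.1 * a.1.1 * m.1⁻¹) * n.1⁻¹
    group

theorem coe_smul (n : normalizer (A : Set G)) (a : Pts A) : ((n • a).1 : G) = n.1 * a.1.1 * n.1⁻¹ := rfl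

/-- Being equal or not far is an equivalence relation on `A`. -/
def Cfg.setoid (h : Cfg A R) : Setoid (Pts A) where
  r a b := ¬ R a.1 b.1
  iseqv :=
    { refl := fun a => h.self _ a.1.2
      symm := fun {a b} hab hba => hab (h.symm _ _ hba)
      trans := fun {a b c} hab hbc => h.trans _ a.1.2 _ b.1.2 _ c.1.2 a.2 b.2 c.2 hab hbc }

/-- The blocks. -/
def Cfg.Blk (h : Cfg A R) := Quotient h.setoid

/-- The block of an element. -/
def Cfg.cls (h : Cfg A R) (a : Pts A) : h.Blk := Quotient.mk h.setoid a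

theorem Cfg.cls_eq (h : Cfg A R) {a b : Pts A} : h.cls a = h.cls b ↔ ¬ R a.1 b.1 :=
  ⟨fun e => Quotient.exact e, fun e => Quotient.sound (s := h.setoid) e⟩

instance Cfg.actBlk (h : Cfg A R) : MulAction (normalizer (A : Set G)) h.Blk where
  smul n := Quotient.map (sa := h.setoid) (sb := h.setoid) (fun a => n • a) (fun a b hab hr => by
    apply hab
    rw [coe_smul, coe_smul, h.conj_iff] at hr
    exact hr)
  one_smul q := by
    induction q using Quotient.inductionOn with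
    | _ a =>
      show Quotient.mk h.setoid ((1 : normalizer (A : Set G)) • a) = _
      rw [one_smul]
  mul_smul n m q := by
    induction q using Quotient.inductionOn with
    | _ a =>
      show Quotient.mk h.setoid ((n * m) • a) = Quotient.mk h.setoid (n • m • a)
      rw [mul_smul]

theorem Cfg.smul_cls (h : Cfg A R) (n : normalizer (A : Set G)) (a : Pts A) :
    n • h.cls a = h.cls (n • a) := rfl

theorem Cfg.card_fiber (h : Cfg A R) (q : h.Blk) : Nat.card {x : Pts A // h.cls x = q} = 3 := by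
  classical
  have := h.finA
  obtain ⟨a, rfl⟩ : ∃ a, h.cls a = q := Quotient.exists_rep q
  have h1 : Nat.card {x : Pts A // R a.1 x.1} = 12 := by
    rw [← h.card_far a.1.2 a.2]
    exact Nat.card_congr
      { toFun := fun x => ⟨x.1.1, x.2⟩
        invFun := fun x => ⟨⟨x.1, (h.ne _ _ x.2).2⟩, x.2⟩
        left_inv := fun x => rfl
        right_inv := fun x => rfl }
  have h2 : Nat.card {x : Pts A // R a.1 x.1} + Nat.card {x : Pts A // ¬ R a.1 x.1} = Nat.card (Pts A) := by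
    rw [← Nat.card_sum]
    exact Nat.card_congr (Equiv.sumCompl _)
  rw [h1, h.card_ne_one] at h2
  have h3 : Nat.card {x : Pts A // ¬ R a.1 x.1} = 3 := by omega
  rw [← h3]
  refine Nat.card_congr (Equiv.subtypeEquivRight fun x => ?_)
  rw [h.cls_eq]
  exact ⟨fun hx hr => hx (h.symm _ _ hr), fun hx hr => hx (h.symm _ _ hr)⟩

instance Cfg.finBlk (h : Cfg A R) : Finite h.Blk := by
  have := h.finA
  exact Quotient.finite h.setoid

theorem Cfg.card_blk (h : Cfg A R) : Nat.card h.Blk = 5 := by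
  classical
  have := h.finA
  have : Fintype h.Blk := Fintype.ofFinite _
  have e := Nat.card_congr (Equiv.sigmaFiberEquiv (fun x : Pts A => h.cls x))
  rw [Nat.card_sigma, h.card_ne_one, Finset.sum_congr rfl (fun q _ => h.card_fiber q), Finset.sum_const,
    Finset.card_univ, ← Nat.card_eq_fintype_card, smul_eq_mul] at e
  omega

/-- The permutation representation on the five blocks. -/
theorem Cfg.exists_hom (h : Cfg A R) : ∃ ρ : normalizer (A : Set G) →* Equiv.Perm (Fin 5),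
    ∀ n : normalizer (A : Set G), n ∈ ρ.ker ↔ ∀ a ∈ A, a ≠ 1 → ¬ R a (n.1 * a * n.1⁻¹) := by
  classical
  have : Fintype h.Blk := Fintype.ofFinite _
  have hc : Fintype.card h.Blk = 5 := by rw [← Nat.card_eq_fintype_card, h.card_blk]
  let e : h.Blk ≃ Fin 5 := Fintype.equivFinOfCardEq hc
  refine ⟨(e.permCongrHom.toMonoidHom).comp (MulAction.toPermHom (normalizer (A : Set G)) h.Blk), fun n => ?_⟩
  rw [MonoidHom.mem_ker]
  have key : (e.permCongrHom.toMonoidHom).comp (MulAction.toPermHom (normalizer (A : Set G)) h.Blk) n = 1 ↔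
      ∀ q : h.Blk, n • q = q := by
    constructor
    · intro h1 q
      have h2 : e.permCongrHom (MulAction.toPermHom (normalizer (A : Set G)) h.Blk n) = e.permCongrHom 1 := by
        rw [map_one]; exact h1
      have h3 := e.permCongrHom.injective h2
      exact congrArg (fun σ : Equiv.Perm h.Blk => σ q) h3
    · intro h1
      have h3 : MulAction.toPermHom (normalizer (A : Set G)) h.Blk n = 1 := Equiv.ext h1
      show e.permCongrHom (MulAction.toPermHom (normalizer (A : Set G)) h.Blk n) = 1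
      rw [h3, map_one]
  rw [key]
  constructor
  · intro h1 a ha ha1
    have := h1 (h.cls ⟨⟨a, ha⟩, ha1⟩)
    rw [h.smul_cls, h.cls_eq] at this
    exact fun hr => this (h.symm _ _ hr)
  · intro h1 q
    obtain ⟨a, rfl⟩ : ∃ a, h.cls a = q := Quotient.exists_rep q
    rw [h.smul_cls, h.cls_eq]
    exact fun hr => h1 _ a.1.2 a.2 (h.symm _ _ hr)

/-- An element fixing all blocks and a nonidentity element of `A` lies in `A`. -/
theorem Cfg.mem_of_fix (h : Cfg A R) {k : G} (hk : ∀ a ∈ A, a ≠ 1 → ¬ R a (k * a * k⁻¹))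
    (hkA : ∀ a ∈ A, k * a * k⁻¹ ∈ A) {s : G} (hs : s ∈ A) (hs1 : s ≠ 1) (hks : k * s * k⁻¹ = s) : k ∈ A := by
  obtain ⟨s', hs', hr⟩ := h.exists_far hs hs1
  have hs'1 : s' ≠ 1 := (h.ne _ _ hr).2
  have hne : s ≠ s' := by
    rintro rfl
    exact h.self _ hs hr
  have hinv : ∀ x ∈ A, x⁻¹ = x := fun x hx => inv_eq_of_mul_eq_one_left (h.sq x hx)
  set u := k * s' * k⁻¹ with hu
  have huA : u ∈ A := hkA s' hs'
  set t := s * s' with ht
  have htA : t ∈ A := A.mul_mem hs hs'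
  have ht1 : t ≠ 1 := by
    intro h1
    apply hne
    have : s = s'⁻¹ := eq_inv_of_mul_eq_one_left h1
    rw [this, hinv _ hs']
  obtain ⟨V, _, hV⟩ := h.blk s' hs' hs'1
  obtain ⟨W, _, hW⟩ := h.blk t htA ht1
  have hdV : s' * u ∈ V := V.mul_mem ((hV _).mpr ⟨hs', h.self _ hs'⟩) ((hV _).mpr ⟨huA, hk s' hs' hs'1⟩)
  have hkt : k * t * k⁻¹ = s * u := by
    have : k * t * k⁻¹ = (k * s * k⁻¹) * (k * s' * k⁻¹) := by rw [ht]; group
    rw [this, hks]
  have hdW : s' * u ∈ W := by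
    have h1 : t * (k * t * k⁻¹) ∈ W :=
      W.mul_mem ((hW _).mpr ⟨htA, h.self _ htA⟩) ((hW _).mpr ⟨hkA t htA, hk t htA ht1⟩)
    rw [hkt, ht] at h1
    have h2 : s * s' * (s * u) = s' * u := by
      rw [comm_of_sq h.sq hs hs', mul_assoc, ← mul_assoc s s u, h.sq s hs, one_mul]
    rwa [h2] at h1
  have hd1 : s' * u = 1 := by
    by_contra hd
    have h1 : ¬ R s' (s' * u) := ((hV _).mp hdV).2
    have h2 : ¬ R (s' * u) t := fun hr2 => ((hW _).mp hdW).2 (h.symm _ _ hr2)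
    have h3 : ¬ R s' t := h.trans _ hs' _ (A.mul_mem hs' huA) _ htA hs'1 hd ht1 h1 h2
    have h4 : t * s' ∈ V := V.mul_mem ((hV _).mpr ⟨htA, h3⟩) ((hV _).mpr ⟨hs', h.self _ hs'⟩)
    rw [ht, mul_assoc, h.sq s' hs', mul_one] at h4
    exact ((hV _).mp h4).2 (h.symm _ _ hr)
  have hus : u = s' := by
    have : s' = u⁻¹ := eq_inv_of_mul_eq_one_left hd1
    rw [hinv _ huA] at this
    exact this.symm
  apply h.cent s hs s' hs' hr
  · rw [mul_inv_eq_iff_eq_mul] at hks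
    exact hks
  · rw [hu, mul_inv_eq_iff_eq_mul] at hus
    exact hus

theorem Cfg.ker_card_le (h : Cfg A R) [Finite G] {ρ : normalizer (A : Set G) →* Equiv.Perm (Fin 5)}
    (hρ : ∀ n : normalizer (A : Set G), n ∈ ρ.ker ↔ ∀ a ∈ A, a ≠ 1 → ¬ R a (n.1 * a * n.1⁻¹)) :
    Nat.card ρ.ker ≤ 48 := by
  classical
  have := h.finA
  obtain ⟨a, ha, ha1⟩ := h.exists_ne
  let a' : Pts A := ⟨⟨a, ha⟩, ha1⟩
  let F : Type _ := {x : Pts A // h.cls x = h.cls a'}
  have hF : Nat.card F = 3 := h.card_fiber _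
  let f : ρ.ker → F := fun k => ⟨k.1 • a', by
    rw [h.cls_eq]
    intro hr
    exact (hρ k.1).mp k.2 a ha ha1 (h.symm _ _ hr)⟩
  let t : Set.range f → ρ.ker := Set.rangeSplitting f
  have ht : ∀ v, f (t v) = v.1 := Set.apply_rangeSplitting f
  have hA : ∀ k k' : ρ.ker, f k = f k' → ((k.1.1)⁻¹ * k'.1.1 : G) ∈ A := by
    intro k k' e
    have e1 : k.1.1 * a * k.1.1⁻¹ = k'.1.1 * a * k'.1.1⁻¹ :=
      congrArg (fun z : F => z.1.1.1) e
    have hm : k⁻¹ * k' ∈ (⊤ : Subgroup ρ.ker) := trivial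
    have hmem := (hρ (k⁻¹ * k').1).mp (k⁻¹ * k').2
    have hval : (k⁻¹ * k').1.1 = (k.1.1)⁻¹ * k'.1.1 := rfl
    rw [hval] at hmem
    refine h.mem_of_fix hmem (fun b hb => ?_) ha ha1 ?_
    · have := (Subgroup.mem_normalizer_iff.mp (k⁻¹ * k').1.2 b).mp hb
      rwa [hval] at this
    · have : (k.1.1)⁻¹ * k'.1.1 * a * ((k.1.1)⁻¹ * k'.1.1)⁻¹ = (k.1.1)⁻¹ * (k'.1.1 * a * k'.1.1⁻¹) * k.1.1 := by
        group
      rw [this, ← e1]
      group
  let F2 : ρ.ker → F × A := fun k => ⟨f k, ⟨((t ⟨f k, k, rfl⟩).1.1)⁻¹ * k.1.1, hA _ _ (ht _)⟩⟩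
  have hinj : Function.Injective F2 := by
    intro k k' e
    have e1 : f k = f k' := congrArg Prod.fst e
    have e2 : ((t ⟨f k, k, rfl⟩).1.1)⁻¹ * k.1.1 = ((t ⟨f k', k', rfl⟩).1.1)⁻¹ * k'.1.1 :=
      congrArg (fun z : F × A => z.2.1) e
    have e3 : t ⟨f k, k, rfl⟩ = t ⟨f k', k', rfl⟩ := by
      congr 1
      exact Subtype.ext e1
    rw [e3] at e2
    exact Subtype.ext (Subtype.ext (mul_left_cancel e2))
  have := Nat.card_le_card_of_injective F2 hinj
  rw [Nat.card_prod, hF, h.card] at this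
  exact this

theorem Cfg.cards (h : Cfg A R) [Finite G] {ρ : normalizer (A : Set G) →* Equiv.Perm (Fin 5)}
    (hρ : ∀ n : normalizer (A : Set G), n ∈ ρ.ker ↔ ∀ a ∈ A, a ≠ 1 → ¬ R a (n.1 * a * n.1⁻¹)) :
    Nat.card ρ.ker = 48 ∧ ρ.range = alternatingGroup (Fin 5) := by
  classical
  have h1 : Nat.card ρ.range * Nat.card ρ.ker = 2880 := by
    rw [← h.card_normalizer, Subgroup.card_eq_card_quotient_mul_card_subgroup ρ.ker]
    congr 1
    exact Nat.card_congr (QuotientGroup.quotientKerEquivRange ρ).symm.toEquiv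
  have h2 : A.subgroupOf (normalizer (A : Set G)) ≤ ρ.ker := by
    intro n hn
    rw [Subgroup.mem_subgroupOf] at hn
    rw [hρ]
    intro a ha _
    rw [comm_of_sq h.sq hn ha, mul_inv_cancel_right]
    exact h.self a ha
  have h3 : 16 ∣ Nat.card ρ.ker := by
    have := Subgroup.card_dvd_of_le h2
    rwa [Nat.card_congr (Subgroup.subgroupOfEquivOfLe h.le_normalizer).toEquiv, h.card] at this
  have h4 : Nat.card ρ.range ∣ 120 := by
    have := Subgroup.card_subgroup_dvd_card ρ.range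
    rwa [Nat.card_eq_fintype_card (α := Equiv.Perm (Fin 5)), Fintype.card_perm, Fintype.card_fin] at this
  have h5 := h.ker_card_le hρ
  obtain ⟨c, hc⟩ := h3
  rw [hc] at h1 h5 ⊢
  have h6 : Nat.card ρ.range * c = 180 := by
    have : 16 * (Nat.card ρ.range * c) = 16 * 180 := by
      rw [← mul_assoc, mul_comm 16 (Nat.card ρ.range), mul_assoc, h1]
    omega
  have hc3 : c ≤ 3 := by omega
  obtain ⟨m, hm⟩ := h4
  have h7 : c = 3 ∧ Nat.card ρ.range = 60 := by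
    interval_cases c
    · omega
    · exfalso
      have : Nat.card ρ.range = 180 := by omega
      rw [this] at hm; omega
    · exfalso
      have : Nat.card ρ.range = 90 := by omega
      rw [this] at hm; omega
    · exact ⟨rfl, by omega⟩
  refine ⟨by omega, ?_⟩
  apply Equiv.Perm.eq_alternatingGroup_of_index_eq_two
  have h8 := ρ.range.card_mul_index
  rw [h7.2, Nat.card_eq_fintype_card (α := Equiv.Perm (Fin 5)), Fintype.card_perm, Fintype.card_fin] at h8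
  have : (Nat.factorial 5) = 120 := rfl
  omega

theorem alt_prod : ∀ s : alternatingGroup (Fin 5), ∃ u : alternatingGroup (Fin 5), u ^ 3 = 1 ∧
    (u⁻¹ * s) ^ 3 = 1 := by
  decide +kernel

theorem alt_inv : ∃ c s : alternatingGroup (Fin 5), c ^ 5 = 1 ∧ c ≠ 1 ∧ s ^ 2 = 1 ∧ s ≠ 1 ∧ s * c * s⁻¹ = c⁻¹ := by
  decide +kernel

/-- If `g` acts fixed point freely on the finite abelian group `A` then every element of the coset `A g` is
conjugate to `g` under `A`. -/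
theorem conj_coset [Finite A] (g : G) (hgA : ∀ x ∈ A, g * x * g⁻¹ ∈ A)
    (hfix : ∀ x ∈ A, g * x * g⁻¹ = x → x = 1) (a : G) (ha : a ∈ A) : ∃ b ∈ A, b * g * b⁻¹ = a * g := by
  let f : A → A := fun b => ⟨b.1 * (g * b.1⁻¹ * g⁻¹), A.mul_mem b.2 (hgA _ (A.inv_mem b.2))⟩
  have hinj : Function.Injective f := by
    intro b c e
    have e1 : b.1 * (g * b.1⁻¹ * g⁻¹) = c.1 * (g * c.1⁻¹ * g⁻¹) := congrArg Subtype.val e
    have e2 : c.1⁻¹ * b.1 = 1 := by
      apply hfix _ (A.mul_mem (A.inv_mem c.2) b.2)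
      have e3 : c.1⁻¹ * (b.1 * (g * b.1⁻¹ * g⁻¹)) * (g * b.1 * g⁻¹) =
          c.1⁻¹ * (c.1 * (g * c.1⁻¹ * g⁻¹)) * (g * b.1 * g⁻¹) := by rw [e1]
      have e4 : c.1⁻¹ * (b.1 * (g * b.1⁻¹ * g⁻¹)) * (g * b.1 * g⁻¹) = c.1⁻¹ * b.1 := by group
      have e5 : c.1⁻¹ * (c.1 * (g * c.1⁻¹ * g⁻¹)) * (g * b.1 * g⁻¹) = g * (c.1⁻¹ * b.1) * g⁻¹ := by group
      rw [e4, e5] at e3
      exact e3.symm
    exact Subtype.ext (inv_mul_eq_one.mp e2).symm
  have hsurj : Function.Surjective f := Finite.surjective_of_injective hinj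
  obtain ⟨b, hb⟩ := hsurj ⟨a, ha⟩
  have e : b.1 * (g * b.1⁻¹ * g⁻¹) = a := congrArg Subtype.val hb
  refine ⟨b.1, b.2, ?_⟩
  rw [← e]
  group

theorem mem_N {n : normalizer (A : Set G)} {x : G} (hx : x ∈ A) : n.1 * x * n.1⁻¹ ∈ A :=
  (Subgroup.mem_normalizer_iff.mp n.2 x).mp hx

theorem Cfg.fpf (h : Cfg A R) {ρ : normalizer (A : Set G) →* Equiv.Perm (Fin 5)}
    (hρ : ∀ n : normalizer (A : Set G), n ∈ ρ.ker ↔ ∀ a ∈ A, a ≠ 1 → ¬ R a (n.1 * a * n.1⁻¹))
    {g : normalizer (A : Set G)} (hg : g ∈ ρ.ker) (ho : orderOf g = 3) :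
    ∀ x ∈ A, g.1 * x * g.1⁻¹ = x → x = 1 := by
  intro x hx hgx
  by_contra hx1
  have h1 : g.1 ∈ A := h.mem_of_fix ((hρ g).mp hg) (fun a ha => mem_N ha) hx hx1 hgx
  have h2 : g ^ 2 = 1 := Subtype.ext (by
    show g.1 ^ 2 = 1
    rw [pow_two]; exact h.sq _ h1)
  have h3 := orderOf_dvd_of_pow_eq_one h2
  rw [ho] at h3
  norm_num at h3

/-- Elements of `A` commuting with `g`. -/
theorem pow_fpf {g : G} (h3 : g ^ 3 = 1) (hfix : ∀ x ∈ A, g * x * g⁻¹ = x → x = 1) :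
    ∀ x ∈ A, g ^ 2 * x * (g ^ 2)⁻¹ = x → x = 1 := by
  intro x hx hx2
  apply hfix x hx
  have h4 : (g ^ 2)⁻¹ = g := by
    rw [inv_eq_iff_mul_eq_one, ← pow_succ]
    exact h3
  have h5 : g⁻¹ = g ^ 2 := by
    rw [inv_eq_iff_mul_eq_one, ← pow_succ']
    exact h3
  rw [h4] at hx2
  rw [h5]
  -- x = g^2 x g
  calc g * x * g ^ 2 = g * (g ^ 2 * x * g) * g ^ 2 := by rw [hx2]
    _ = g ^ 3 * x * g ^ 3 := by group
    _ = x := by rw [h3]; group

theorem Cfg.ker_form (h : Cfg A R) [Finite G] {ρ : normalizer (A : Set G) →* Equiv.Perm (Fin 5)}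
    (hρ : ∀ n : normalizer (A : Set G), n ∈ ρ.ker ↔ ∀ a ∈ A, a ≠ 1 → ¬ R a (n.1 * a * n.1⁻¹))
    {g : normalizer (A : Set G)} (hg : g ∈ ρ.ker) (ho : orderOf g = 3) (k : normalizer (A : Set G))
    (hk : k ∈ ρ.ker) : ∃ a ∈ A, ∃ i < 3, k.1 = a * g.1 ^ i := by
  classical
  have := h.finA
  have hA : ∀ a : A, (⟨a.1, h.le_normalizer a.2⟩ : normalizer (A : Set G)) ∈ ρ.ker := by
    intro a
    rw [hρ]
    intro b hb _
    show ¬ R b (a.1 * b * a.1⁻¹)
    rw [comm_of_sq h.sq a.2 hb, mul_inv_cancel_right]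
    exact h.self b hb
  let f : A × Fin 3 → ρ.ker := fun p => ⟨⟨p.1.1, h.le_normalizer p.1.2⟩ * g ^ p.2.1,
    mul_mem (hA p.1) (pow_mem hg _)⟩
  have hinj : Function.Injective f := by
    rintro ⟨a, i⟩ ⟨b, j⟩ e
    have e1 : a.1 * g.1 ^ i.1 = b.1 * g.1 ^ j.1 := congrArg (fun z : ρ.ker => z.1.1) e
    have e2 : g.1 ^ i.1 * (g.1 ^ j.1)⁻¹ = a.1⁻¹ * b.1 := by
      have : a.1⁻¹ * (a.1 * g.1 ^ i.1) * (g.1 ^ j.1)⁻¹ = a.1⁻¹ * (b.1 * g.1 ^ j.1) * (g.1 ^ j.1)⁻¹ := by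
        rw [e1]
      simpa [mul_assoc] using this
    have e3 : g.1 ^ i.1 * (g.1 ^ j.1)⁻¹ = 1 := by
      apply h.fpf hρ hg ho
      · rw [e2]; exact A.mul_mem (A.inv_mem a.2) b.2
      · group
    have e4 : g.1 ^ i.1 = g.1 ^ j.1 := mul_inv_eq_one.mp e3
    have e5 : a = b := by
      rw [e4] at e1
      exact Subtype.ext (mul_right_cancel e1)
    have e6 : g ^ i.1 = g ^ j.1 := Subtype.ext e4
    have e7 : i.1 = j.1 := by
      apply pow_injOn_Iio_orderOf (x := g) _ _ e6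
      · show i.1 < orderOf g
        rw [ho]; exact i.2
      · show j.1 < orderOf g
        rw [ho]; exact j.2
    rw [e5, Fin.ext e7]
  have hbij : Function.Bijective f := by
    have hcd : Nat.card (A × Fin 3) = Nat.card ρ.ker := by
      rw [Nat.card_prod, h.card, (h.cards hρ).1, Nat.card_eq_fintype_card, Fintype.card_fin]
    exact (Nat.bijective_iff_injective_and_card f).mpr ⟨hinj, hcd⟩
  obtain ⟨⟨a, i⟩, hai⟩ := hbij.2 ⟨k, hk⟩
  refine ⟨a.1, a.2, i.1, i.2, ?_⟩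
  exact (congrArg (fun z : ρ.ker => z.1.1) hai).symm

theorem Cfg.conj_form (h : Cfg A R) [Finite G] {ρ : normalizer (A : Set G) →* Equiv.Perm (Fin 5)}
    (hρ : ∀ n : normalizer (A : Set G), n ∈ ρ.ker ↔ ∀ a ∈ A, a ≠ 1 → ¬ R a (n.1 * a * n.1⁻¹))
    {g : normalizer (A : Set G)} (hg : g ∈ ρ.ker) (ho : orderOf g = 3) (n : normalizer (A : Set G)) :
    ∃ m : normalizer (A : Set G), ρ m = ρ n ∧ (m * g * m⁻¹ = g ∨ m * g * m⁻¹ = g ^ 2) := by
  have := h.finA
  have hg3 : g ^ 3 = 1 := by rw [← ho]; exact pow_orderOf_eq_one g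
  have hg3' : g.1 ^ 3 = 1 := congrArg Subtype.val hg3
  have hfix := h.fpf hρ hg ho
  have hA : ∀ a : G, ∀ ha : a ∈ A, ρ (⟨a, h.le_normalizer ha⟩ : normalizer (A : Set G)) = 1 := by
    intro a ha
    rw [← MonoidHom.mem_ker, hρ]
    intro b hb _
    show ¬ R b (a * b * a⁻¹)
    rw [comm_of_sq h.sq ha hb, mul_inv_cancel_right]
    exact h.self b hb
  have hmem : n * g * n⁻¹ ∈ ρ.ker := by
    have : ρ.ker.Normal := inferInstance
    exact this.conj_mem g hg n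
  obtain ⟨a, ha, i, hi, hai⟩ := h.ker_form hρ hg ho _ hmem
  have hval : (n * g * n⁻¹).1 = n.1 * g.1 * n.1⁻¹ := rfl
  rw [hval] at hai
  have key : ∀ j, (∀ x ∈ A, g.1 ^ j * x * (g.1 ^ j)⁻¹ = x → x = 1) → n.1 * g.1 * n.1⁻¹ = a * g.1 ^ j →
      ∃ m : normalizer (A : Set G), ρ m = ρ n ∧ m * g * m⁻¹ = g ^ j := by
    intro j hj hnj
    obtain ⟨b, hb, hbj⟩ := conj_coset (A := A) (g.1 ^ j) (fun x hx => mem_N (n := g ^ j) hx) hj a ha
    refine ⟨⟨b, h.le_normalizer hb⟩⁻¹ * n, ?_, ?_⟩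
    · rw [map_mul, map_inv, hA b hb, inv_one, one_mul]
    · apply Subtype.ext
      show b⁻¹ * n.1 * g.1 * (b⁻¹ * n.1)⁻¹ = g.1 ^ j
      have : b⁻¹ * n.1 * g.1 * (b⁻¹ * n.1)⁻¹ = b⁻¹ * (n.1 * g.1 * n.1⁻¹) * b := by group
      rw [this, hnj, ← hbj]
      group
  have hi3 : i = 0 ∨ i = 1 ∨ i = 2 := by omega
  rcases hi3 with rfl | rfl | rfl
  · exfalso
    rw [pow_zero, mul_one] at hai
    have h1 : (n.1 * g.1 * n.1⁻¹) * (n.1 * g.1 * n.1⁻¹) = 1 := by rw [hai]; exact h.sq a ha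
    have h2 : n.1 * (g.1 * g.1) * n.1⁻¹ = 1 := by
      rw [← h1]; group
    have h3 : g.1 * g.1 = 1 := by
      have : n.1 * (g.1 * g.1) * n.1⁻¹ = n.1 * 1 * n.1⁻¹ := by rw [h2]; simp
      exact mul_left_cancel (mul_right_cancel this)
    have h4 : g ^ 2 = 1 := Subtype.ext (by
      show g.1 ^ 2 = 1
      rw [pow_two]; exact h3)
    have h5 := orderOf_dvd_of_pow_eq_one h4
    rw [ho] at h5
    norm_num at h5
  · obtain ⟨m, hm, hm2⟩ := key 1 (by simpa using hfix) hai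
    exact ⟨m, hm, Or.inl (by simpa using hm2)⟩
  · obtain ⟨m, hm, hm2⟩ := key 2 (pow_fpf hg3' hfix) hai
    exact ⟨m, hm, Or.inr hm2⟩

theorem Cfg.lift3 (h : Cfg A R) [Finite G] {ρ : normalizer (A : Set G) →* Equiv.Perm (Fin 5)}
    (hρ : ∀ n : normalizer (A : Set G), n ∈ ρ.ker ↔ ∀ a ∈ A, a ≠ 1 → ¬ R a (n.1 * a * n.1⁻¹))
    {g : normalizer (A : Set G)} (hg : g ∈ ρ.ker) (ho : orderOf g = 3)
    (u : alternatingGroup (Fin 5)) (hu : u ^ 3 = 1) :
    ∃ l : normalizer (A : Set G), ρ l = u.1 ∧ l * g = g * l := by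
  have hmem : u.1 ∈ ρ.range := by rw [(h.cards hρ).2]; exact u.2
  obtain ⟨n, hn⟩ := hmem
  obtain ⟨m, hm, hm2⟩ := h.conj_form hρ hg ho n
  have hg3 : g ^ 3 = 1 := by rw [← ho]; exact pow_orderOf_eq_one g
  have h2 : m ^ 2 * g * (m ^ 2)⁻¹ = g := by
    have e1 : m ^ 2 * g * (m ^ 2)⁻¹ = m * (m * g * m⁻¹) * m⁻¹ := by simp [pow_two, mul_assoc]
    rcases hm2 with h1 | h1
    · rw [e1, h1, h1]
    · rw [e1, h1]
      have e2 : m * g ^ 2 * m⁻¹ = (m * g * m⁻¹) ^ 2 := by rw [conj_pow]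
      rw [e2, h1]
      have : (g ^ 2) ^ 2 = g ^ 3 * g := by group
      rw [this, hg3, one_mul]
  have h3 : m ^ 2 * g = g * m ^ 2 := by rwa [mul_inv_eq_iff_eq_mul] at h2
  refine ⟨m ^ 4, ?_, ?_⟩
  · rw [map_pow, hm, hn]
    have : u ^ 4 = u := by rw [pow_succ, hu, one_mul]
    exact congrArg Subtype.val this
  · have : m ^ 4 = m ^ 2 * m ^ 2 := by group
    rw [this, mul_assoc, h3, ← mul_assoc, h3, mul_assoc]

theorem Cfg.lift (h : Cfg A R) [Finite G] {ρ : normalizer (A : Set G) →* Equiv.Perm (Fin 5)}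
    (hρ : ∀ n : normalizer (A : Set G), n ∈ ρ.ker ↔ ∀ a ∈ A, a ≠ 1 → ¬ R a (n.1 * a * n.1⁻¹))
    {g : normalizer (A : Set G)} (hg : g ∈ ρ.ker) (ho : orderOf g = 3)
    (u : alternatingGroup (Fin 5)) : ∃ l : normalizer (A : Set G), ρ l = u.1 ∧ l * g = g * l := by
  obtain ⟨v, hv, hw⟩ := alt_prod u
  obtain ⟨l, hl, hl2⟩ := h.lift3 hρ hg ho v hv
  obtain ⟨m, hm, hm2⟩ := h.lift3 hρ hg ho (v⁻¹ * u) hw
  refine ⟨l * m, ?_, ?_⟩
  · rw [map_mul, hl, hm]
    show v.1 * (v⁻¹ * u).1 = u.1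
    have : v * (v⁻¹ * u) = u := by group
    exact congrArg Subtype.val this
  · rw [mul_assoc, hm2, ← mul_assoc, hl2, mul_assoc]

theorem Cfg.ker_cent (h : Cfg A R) [Finite G] {ρ : normalizer (A : Set G) →* Equiv.Perm (Fin 5)}
    (hρ : ∀ n : normalizer (A : Set G), n ∈ ρ.ker ↔ ∀ a ∈ A, a ≠ 1 → ¬ R a (n.1 * a * n.1⁻¹))
    {g : normalizer (A : Set G)} (hg : g ∈ ρ.ker) (ho : orderOf g = 3) (k : normalizer (A : Set G))
    (hk : k ∈ ρ.ker) (hc : k * g = g * k) : ∃ i, k = g ^ i := by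
  obtain ⟨a, ha, i, _, hai⟩ := h.ker_form hρ hg ho k hk
  refine ⟨i, ?_⟩
  have h1 : a = 1 := by
    apply h.fpf hρ hg ho a ha
    have h2 : k.1 * g.1 = g.1 * k.1 := congrArg Subtype.val hc
    rw [hai] at h2
    have h3 : g.1 * a = a * g.1 := by
      have h4 : a * g.1 * g.1 ^ i = g.1 * a * g.1 ^ i := by
        rw [mul_assoc, mul_assoc g.1, ← h2, mul_assoc, ← pow_succ', pow_succ]
      exact (mul_right_cancel h4).symm
    rw [h3]
    group
  apply Subtype.ext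
  show k.1 = g.1 ^ i
  rw [hai, h1, one_mul]

theorem inj_of_prime {N α : Type*} [Group N] [MulAction N α] {z : N} {p : ℕ} (hp : p.Prime)
    (hz : orderOf z = p) {a : α} (ha : z • a ≠ a) {i k : ℕ} (hi : i < p) (hk : k < p)
    (e : z ^ i • a = z ^ k • a) : i = k := by
  wlog hik : i ≤ k generalizing i k with H
  · exact (H hk hi e.symm (by omega)).symm
  by_contra hne
  have h1 : z ^ (k - i) ∈ MulAction.stabilizer N a := by
    rw [MulAction.mem_stabilizer_iff]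
    have h2 : z ^ k = z ^ i * z ^ (k - i) := by rw [← pow_add]; congr 1; omega
    rw [h2, mul_smul] at e
    exact (smul_left_cancel _ e).symm
  have hco : (k - i).Coprime (orderOf z) := by
    rw [hz]
    exact Nat.Coprime.symm ((Nat.Prime.coprime_iff_not_dvd hp).mpr
      (Nat.not_dvd_of_pos_of_lt (by omega) (by omega)))
  obtain ⟨m, hm⟩ := exists_pow_eq_self_of_coprime hco
  have h3 : z ∈ MulAction.stabilizer N a := by
    rw [← hm]
    exact pow_mem h1 m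
  exact ha (MulAction.mem_stabilizer_iff.mp h3)

theorem Cfg.fix_five (h : Cfg A R) {y : normalizer (A : Set G)} (hy : orderOf y = 5) (hyA : y.1 ∉ A)
    (a : Pts A) : y • a ≠ a := by
  classical
  intro hfix
  have := h.finA
  have hpg : IsPGroup 5 (zpowers y) := by
    apply IsPGroup.of_card (n := 1)
    rw [Nat.card_zpowers, hy, pow_one]
  have hF : Fact (Nat.Prime 5) := ⟨by norm_num⟩
  have hmod := hpg.card_modEq_card_fixedPoints (Pts A)
  rw [h.card_ne_one] at hmod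
  have hmemfix : a ∈ MulAction.fixedPoints (zpowers y) (Pts A) := by
    rintro ⟨z, hz⟩
    obtain ⟨i, rfl⟩ := Subgroup.mem_zpowers_iff.mp hz
    have : y ^ i ∈ MulAction.stabilizer (normalizer (A : Set G)) a :=
      zpow_mem (MulAction.mem_stabilizer_iff.mpr hfix) i
    exact MulAction.mem_stabilizer_iff.mp this
  have hfar : ∀ b ∈ MulAction.fixedPoints (zpowers y) (Pts A), ¬ R a.1 b.1 := by
    intro b hb hr
    apply hyA
    have e1 : y • b = b := hb ⟨y, mem_zpowers y⟩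
    have e2 : y.1 * b.1.1 * y.1⁻¹ = b.1.1 := congrArg (fun z : Pts A => z.1.1) e1
    have e3 : y.1 * a.1.1 * y.1⁻¹ = a.1.1 := congrArg (fun z : Pts A => z.1.1) hfix
    exact h.cent _ a.1.2 _ b.1.2 hr _ (mul_inv_eq_iff_eq_mul.mp e3) (mul_inv_eq_iff_eq_mul.mp e2)
  have hle : Nat.card (MulAction.fixedPoints (zpowers y) (Pts A)) ≤ 3 := by
    rw [← h.card_fiber (h.cls a)]
    refine Nat.card_le_card_of_injective (fun b => ⟨b.1, ?_⟩) ?_
    · rw [h.cls_eq]
      intro hr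
      exact hfar b.1 b.2 (h.symm _ _ hr)
    · intro b c e
      exact Subtype.ext (congrArg (fun z : {x : Pts A // h.cls x = h.cls a} => z.1) e)
  have hpos : 0 < Nat.card (MulAction.fixedPoints (zpowers y) (Pts A)) := by
    have : Nonempty (MulAction.fixedPoints (zpowers y) (Pts A)) := ⟨⟨a, hmemfix⟩⟩
    exact Nat.card_pos
  have h5 : Nat.card (MulAction.fixedPoints (zpowers y) (Pts A)) % 5 = 0 := by
    rw [← hmod]
  omega

theorem Cfg.block_orbit (h : Cfg A R) {g : normalizer (A : Set G)} (ho : orderOf g = 3)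
    (hblk : ∀ a ∈ A, a ≠ 1 → ¬ R a (g.1 * a * g.1⁻¹)) (hfix : ∀ x ∈ A, g.1 * x * g.1⁻¹ = x → x = 1)
    {x z : G} (hx : x ∈ A) (hx1 : x ≠ 1) (hz : z ∈ A) (hz1 : z ≠ 1) (hxz : ¬ R x z) :
    ∃ i < 3, z = g.1 ^ i * x * (g.1 ^ i)⁻¹ := by
  classical
  have := h.finA
  let x' : Pts A := ⟨⟨x, hx⟩, hx1⟩
  let z' : Pts A := ⟨⟨z, hz⟩, hz1⟩
  have hcls : ∀ i : ℕ, h.cls (g ^ i • x') = h.cls x' := by
    intro i
    induction i with
    | zero => rw [pow_zero, one_smul]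
    | succ n ih =>
      rw [pow_succ', mul_smul, ← ih, h.cls_eq]
      intro hr
      exact hblk _ (g ^ n • x').1.2 (g ^ n • x').2 (h.symm _ _ hr)
  let f : Fin 3 → {w : Pts A // h.cls w = h.cls x'} := fun i => ⟨g ^ i.1 • x', hcls i.1⟩
  have hinj : Function.Injective f := by
    intro i j e
    have e1 : g ^ i.1 • x' = g ^ j.1 • x' := congrArg (fun w : {w : Pts A // h.cls w = h.cls x'} => w.1) e
    refine Fin.ext (inj_of_prime (by norm_num : Nat.Prime 3) ho (a := x') ?_ i.2 j.2 e1)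
    intro e2
    exact hx1 (hfix x hx (congrArg (fun w : Pts A => w.1.1) e2))
  have hbij : Function.Bijective f := by
    refine (Nat.bijective_iff_injective_and_card f).mpr ⟨hinj, ?_⟩
    rw [h.card_fiber, Nat.card_eq_fintype_card, Fintype.card_fin]
  obtain ⟨i, hi⟩ := hbij.2 ⟨z', by rw [h.cls_eq]; exact fun hr => hxz (h.symm _ _ hr)⟩
  refine ⟨i.1, i.2, ?_⟩
  exact (congrArg (fun w : {w : Pts A // h.cls w = h.cls x'} => w.1.1.1) hi).symm

theorem Cfg.orbit (h : Cfg A R) {g y : normalizer (A : Set G)} (ho : orderOf g = 3) (hy : orderOf y = 5)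
    (hc : g * y = y * g) (hyA : y.1 ∉ A) (hfix : ∀ x ∈ A, g.1 * x * g.1⁻¹ = x → x = 1)
    {a b : G} (ha : a ∈ A) (ha1 : a ≠ 1) (hb : b ∈ A) (hb1 : b ≠ 1) :
    ∃ i < 3, ∃ j < 5, (g.1 ^ i * y.1 ^ j) * a * (g.1 ^ i * y.1 ^ j)⁻¹ = b := by
  classical
  have := h.finA
  have hg3 : g ^ 3 = 1 := by rw [← ho]; exact pow_orderOf_eq_one g
  have hy5 : y ^ 5 = 1 := by rw [← hy]; exact pow_orderOf_eq_one y
  let a' : Pts A := ⟨⟨a, ha⟩, ha1⟩
  let b' : Pts A := ⟨⟨b, hb⟩, hb1⟩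
  have hcom : Commute g y := hc
  have h10 : ∀ i j : ℕ, (g ^ i * y ^ j) ^ 10 = g ^ i := by
    intro i j
    have e1 : g ^ 10 = g := by
      calc g ^ 10 = (g ^ 3) ^ 3 * g := by rw [← pow_mul, ← pow_succ]
        _ = g := by rw [hg3, one_pow, one_mul]
    have e2 : y ^ 10 = 1 := by
      calc y ^ 10 = (y ^ 5) ^ 2 := by rw [← pow_mul]
        _ = 1 := by rw [hy5, one_pow]
    rw [(hcom.pow_pow i j).mul_pow, ← pow_mul, ← pow_mul, mul_comm i, mul_comm j, pow_mul, pow_mul, e1, e2,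
      one_pow, mul_one]
  have h6 : ∀ i j : ℕ, (g ^ i * y ^ j) ^ 6 = y ^ j := by
    intro i j
    have e1 : g ^ 6 = 1 := by
      calc g ^ 6 = (g ^ 3) ^ 2 := by rw [← pow_mul]
        _ = 1 := by rw [hg3, one_pow]
    have e2 : y ^ 6 = y := by
      calc y ^ 6 = y ^ 5 * y := by rw [← pow_succ]
        _ = y := by rw [hy5, one_mul]
    rw [(hcom.pow_pow i j).mul_pow, ← pow_mul, ← pow_mul, mul_comm i, mul_comm j, pow_mul, pow_mul, e1, e2,
      one_pow, one_mul]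
  let f : Fin 3 × Fin 5 → Pts A := fun p => (g ^ p.1.1 * y ^ p.2.1) • a'
  have hinj : Function.Injective f := by
    rintro ⟨i, j⟩ ⟨k, l⟩ e
    have e1 : (g ^ i.1 * y ^ j.1) • a' = (g ^ k.1 * y ^ l.1) • a' := e
    have hcc : Commute (g ^ i.1 * y ^ j.1) (g ^ k.1 * y ^ l.1) := by
      apply Commute.mul_left
      · apply Commute.mul_right
        · exact (Commute.refl g).pow_pow _ _
        · exact hcom.pow_pow _ _
      · apply Commute.mul_right
        · exact hcom.symm.pow_pow _ _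
        · exact (Commute.refl y).pow_pow _ _
    have hst : (g ^ k.1 * y ^ l.1)⁻¹ * (g ^ i.1 * y ^ j.1) ∈ MulAction.stabilizer (normalizer (A : Set G)) a' := by
      rw [MulAction.mem_stabilizer_iff, mul_smul, e1, inv_smul_smul]
    have hpw : ∀ m : ℕ, (g ^ i.1 * y ^ j.1) ^ m • a' = (g ^ k.1 * y ^ l.1) ^ m • a' := by
      intro m
      have h1 := pow_mem hst m
      rw [(hcc.symm.inv_left).mul_pow, MulAction.mem_stabilizer_iff, mul_smul, inv_pow, inv_smul_eq_iff] at h1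
      exact h1
    have eg : g ^ i.1 • a' = g ^ k.1 • a' := by
      have := hpw 10
      rwa [h10, h10] at this
    have ey : y ^ j.1 • a' = y ^ l.1 • a' := by
      have := hpw 6
      rwa [h6, h6] at this
    have hik : i.1 = k.1 := by
      refine inj_of_prime (by norm_num : Nat.Prime 3) ho (a := a') ?_ i.2 k.2 eg
      intro e2
      exact ha1 (hfix a ha (congrArg (fun w : Pts A => w.1.1) e2))
    have hjl : j.1 = l.1 :=
      inj_of_prime (by norm_num : Nat.Prime 5) hy (a := a') (h.fix_five hy hyA a') j.2 l.2 ey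
    rw [Fin.ext hik, Fin.ext hjl]
  have hbij : Function.Bijective f := by
    refine (Nat.bijective_iff_injective_and_card f).mpr ⟨hinj, ?_⟩
    rw [h.card_ne_one, Nat.card_eq_fintype_card, Fintype.card_prod, Fintype.card_fin, Fintype.card_fin]
  obtain ⟨⟨i, j⟩, hij⟩ := hbij.2 b'
  refine ⟨i.1, i.2, j.1, j.2, ?_⟩
  exact congrArg (fun w : Pts A => w.1.1) hij

/-- The structure of the normaliser, in terms of elements. -/
theorem Cfg.main (h : Cfg A R) [Finite G] : Nat.card (normalizer (A : Set G)) = 2880 ∧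
    ∃ g y φ : G, orderOf g = 3 ∧ orderOf y = 5 ∧ orderOf φ = 2 ∧ g * y = y * g ∧ g * φ = φ * g ∧
      φ * y * φ⁻¹ = y⁻¹ ∧ (∀ x ∈ A, g * x * g⁻¹ ∈ A ∧ y * x * y⁻¹ ∈ A ∧ φ * x * φ⁻¹ ∈ A) ∧ φ ∉ A ∧
      (∀ x ∈ A, x ≠ 1 → g * x * g⁻¹ ≠ x ∧ ¬ R x (g * x * g⁻¹)) ∧
      (∀ a ∈ A, ∀ b ∈ A, a ≠ 1 → b ≠ 1 → ∃ i < 3, ∃ j < 5, (g ^ i * y ^ j) * a * (g ^ i * y ^ j)⁻¹ = b) ∧
      (∀ x ∈ A, x * φ = φ * x → x ≠ 1 → ∀ z ∈ A, z * φ = φ * z → z ≠ 1 →
        ∃ i < 3, z = g ^ i * x * (g ^ i)⁻¹) := by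
  classical
  refine ⟨h.card_normalizer, ?_⟩
  obtain ⟨ρ, hρ⟩ := h.exists_hom
  have h3 : (3 : ℕ) ∣ Nat.card ρ.ker := by rw [(h.cards hρ).1]; norm_num
  have hF3 : Fact (Nat.Prime 3) := ⟨by norm_num⟩
  have hF5 : Fact (Nat.Prime 5) := ⟨by norm_num⟩
  have hF2 : Fact (Nat.Prime 2) := ⟨by norm_num⟩
  obtain ⟨⟨g, hg⟩, hgo⟩ := exists_prime_orderOf_dvd_card' 3 h3
  have ho : orderOf g = 3 := by
    rw [← hgo]
    exact (Subgroup.orderOf_mk g hg).symm
  have hg3 : g ^ 3 = 1 := by rw [← ho]; exact pow_orderOf_eq_one g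
  have hfix := h.fpf hρ hg ho
  have hker3 : ∀ k : normalizer (A : Set G), ρ k = 1 → k * g = g * k → k ^ 3 = 1 := by
    intro k hk hkg
    obtain ⟨i, rfl⟩ := h.ker_cent hρ hg ho k (MonoidHom.mem_ker.mpr hk) hkg
    rw [← pow_mul, mul_comm, pow_mul, hg3, one_pow]
  obtain ⟨c, s, hc5, hc1, hs2, hs1, hsc⟩ := alt_inv
  obtain ⟨y0, hy0, hy0g⟩ := h.lift hρ hg ho c
  obtain ⟨f0, hf0, hf0g⟩ := h.lift hρ hg ho s
  have hc5' : c.1 ^ 5 = 1 := congrArg Subtype.val hc5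
  have hc1' : c.1 ≠ 1 := fun e => hc1 (Subtype.ext e)
  have hs2' : s.1 ^ 2 = 1 := congrArg Subtype.val hs2
  have hs1' : s.1 ≠ 1 := fun e => hs1 (Subtype.ext e)
  have hsc' : s.1 * c.1 * s.1⁻¹ = c.1⁻¹ := congrArg Subtype.val hsc
  have hy0c : Commute y0 g := hy0g
  have hf0c : Commute f0 g := hf0g
  -- the element of order five
  set y := y0 ^ 6 with hydef
  set f := f0 ^ 3 with hfdef
  have hρy : ρ y = c.1 := by
    rw [hydef, map_pow, hy0]
    calc c.1 ^ 6 = c.1 ^ 5 * c.1 := by rw [← pow_succ]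
      _ = c.1 := by rw [hc5', one_mul]
  have hρf : ρ f = s.1 := by
    rw [hfdef, map_pow, hf0]
    calc s.1 ^ 3 = s.1 ^ 2 * s.1 := by rw [← pow_succ]
      _ = s.1 := by rw [hs2', one_mul]
  have hy5 : y ^ 5 = 1 := by
    have h1 : (y0 ^ 5) ^ 3 = 1 := by
      apply hker3
      · rw [map_pow, hy0, hc5']
      · exact (hy0c.pow_left 5)
    calc y ^ 5 = ((y0 ^ 5) ^ 3) ^ 2 := by rw [hydef, ← pow_mul, ← pow_mul, ← pow_mul]
      _ = 1 := by rw [h1, one_pow]
  have hf2 : f ^ 2 = 1 := by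
    have h1 : (f0 ^ 2) ^ 3 = 1 := by
      apply hker3
      · rw [map_pow, hf0, hs2']
      · exact (hf0c.pow_left 2)
    calc f ^ 2 = (f0 ^ 2) ^ 3 := by rw [hfdef, ← pow_mul, ← pow_mul]
      _ = 1 := h1
  have hy1 : y ≠ 1 := by
    intro e
    rw [e, map_one] at hρy
    exact hc1' hρy.symm
  have hf1 : f ≠ 1 := by
    intro e
    rw [e, map_one] at hρf
    exact hs1' hρf.symm
  have hoy : orderOf y = 5 := orderOf_eq_prime hy5 hy1
  have hof : orderOf f = 2 := orderOf_eq_prime hf2 hf1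
  have hyg : Commute y g := hy0c.pow_left 6
  have hfg : Commute f g := hf0c.pow_left 3
  have hconj : f * y * f⁻¹ = y⁻¹ := by
    have hz : ρ (f * y * f⁻¹ * y) = 1 := by
      rw [map_mul, map_mul, map_mul, map_inv, hρf, hρy, hsc', inv_mul_cancel]
    have hzg : Commute (f * y * f⁻¹ * y) g := ((hfg.mul_left hyg).mul_left hfg.inv_left).mul_left hyg
    obtain ⟨i, hi⟩ := h.ker_cent hρ hg ho _ (MonoidHom.mem_ker.mpr hz) hzg
    have hz3 : (f * y * f⁻¹ * y) ^ 3 = 1 := hker3 _ hz hzg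
    have hzy : Commute (f * y * f⁻¹ * y) y := by
      rw [hi]
      exact (hyg.symm.pow_left i)
    have e1 : f * y * f⁻¹ = (f * y * f⁻¹ * y) * y⁻¹ := by group
    have e2 : (f * y * f⁻¹) ^ 5 = 1 := by rw [conj_pow, hy5]; group
    have hz5 : (f * y * f⁻¹ * y) ^ 5 = 1 := by
      rw [e1, (hzy.inv_right).mul_pow, inv_pow, hy5, inv_one, mul_one] at e2
      exact e2
    have hz1 : f * y * f⁻¹ * y = 1 := by
      have e3 : (f * y * f⁻¹ * y) = ((f * y * f⁻¹ * y) ^ 3) ^ 2 * ((f * y * f⁻¹ * y) ^ 5)⁻¹ := by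
        generalize (f * y * f⁻¹ * y) = z
        group
      rw [e3, hz3, hz5]
      group
    exact eq_inv_of_mul_eq_one_left hz1
  have hA1 : ∀ n : normalizer (A : Set G), n.1 ∈ A → ρ n = 1 := by
    intro n hn
    rw [← MonoidHom.mem_ker, hρ]
    intro b hb _
    rw [comm_of_sq h.sq hn hb, mul_inv_cancel_right]
    exact h.self b hb
  have hyA : y.1 ∉ A := by
    intro e
    rw [hA1 y e] at hρy
    exact hc1' hρy.symm
  have hfA : f.1 ∉ A := by
    intro e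
    rw [hA1 f e] at hρf
    exact hs1' hρf.symm
  refine ⟨g.1, y.1, f.1, ?_, ?_, ?_, ?_, ?_, ?_, ?_, hfA, ?_, ?_, ?_⟩
  · rw [Subgroup.orderOf_coe]; exact ho
  · rw [Subgroup.orderOf_coe]; exact hoy
  · rw [Subgroup.orderOf_coe]; exact hof
  · exact congrArg Subtype.val hyg.symm.eq
  · exact congrArg Subtype.val hfg.symm.eq
  · exact congrArg Subtype.val hconj
  · exact fun x hx => ⟨mem_N hx, mem_N hx, mem_N hx⟩
  · intro x hx hx1
    exact ⟨fun e => hx1 (hfix x hx e), (hρ g).mp hg x hx hx1⟩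
  · intro a ha b hb ha1 hb1
    exact h.orbit ho hoy hyg.symm.eq hyA hfix ha ha1 hb hb1
  · intro x hx hxf hx1 z hz hzf hz1
    refine h.block_orbit ho ((hρ g).mp hg) hfix hx hx1 hz hz1 ?_
    intro hr
    exact hfA (h.cent x hx z hz hr _ hxf.symm hzf.symm)

end

section

variable {G : Type*} [Group G]

theorem far_symm {s r : G} (h : far s r) : far r s := by
  obtain ⟨h1, h2, h3, h4⟩ := h
  refine ⟨h2, h1, h3.symm, ?_⟩
  rw [inf_comm]
  exact h4

theorem mem_cc {s r x : G} : x ∈ (Subgroup.centralizer ({s} : Set G) ⊓ Subgroup.centralizer ({r} : Set G) :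
    Subgroup G) ↔ x * s = s * x ∧ x * r = r * x := by
  rw [Subgroup.mem_inf, Subgroup.mem_centralizer_singleton_iff, Subgroup.mem_centralizer_singleton_iff]

theorem orderOf_conj (n s : G) : orderOf (n * s * n⁻¹) = orderOf s := by
  have := MulEquiv.orderOf_eq (MulAut.conj n) s
  rwa [MulAut.conj_apply] at this

theorem far_conj (n : G) {s r : G} (h : far s r) : far (n * s * n⁻¹) (n * r * n⁻¹) := by
  obtain ⟨h1, h2, h3, h4⟩ := h
  refine ⟨by rw [orderOf_conj, h1], by rw [orderOf_conj, h2], (conj_comm_iff n s r).mpr h3, ?_⟩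
  rw [← h4]
  refine Nat.card_congr
    { toFun := fun x => ⟨n⁻¹ * x.1 * n, mem_cc.mpr ?_⟩
      invFun := fun x => ⟨n * x.1 * n⁻¹, mem_cc.mpr ?_⟩
      left_inv := fun x => Subtype.ext (by show n * (n⁻¹ * x.1 * n) * n⁻¹ = x.1; group)
      right_inv := fun x => Subtype.ext (by show n⁻¹ * (n * x.1 * n⁻¹) * n = x.1; group) }
  · have h5 := mem_cc.mp x.2
    have e : x.1 = n * (n⁻¹ * x.1 * n) * n⁻¹ := by group
    rw [e, conj_comm_iff, conj_comm_iff] at h5
    exact h5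
  · have h5 := mem_cc.mp x.2
    rw [conj_comm_iff, conj_comm_iff]
    exact h5

theorem cfg_of_far [Finite G]
    (hconj : ∀ s r s' r' : G, far s r → far s' r' → ∃ g : G, g * s * g⁻¹ = s' ∧ g * r * g⁻¹ = r')
    (hsq : ∀ s r x : G, far s r → x * s = s * x → x * r = r * x → x * x = 1)
    (hV : ∀ s r : G, far s r → ∃ V : Subgroup G, Nat.card V = 4 ∧
      ∀ x, x ∈ V ↔ (x * s = s * x ∧ x * r = r * x ∧ ¬ far s x))
    (hnear : ∀ a s r : G, orderOf a = 2 → orderOf s = 2 → orderOf r = 2 → a * s = s * a → a * r = r * a →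
      s * r = r * s → a ≠ s → a ≠ r → ¬ far a s → ¬ far a r → r = s ∨ r = a * s)
    (s0 r0 : G) (h0 : far s0 r0) :
    Cfg (Subgroup.centralizer ({s0} : Set G) ⊓ Subgroup.centralizer ({r0} : Set G)) far := by
  set A : Subgroup G := Subgroup.centralizer ({s0} : Set G) ⊓ Subgroup.centralizer ({r0} : Set G) with hA
  have hcard : Nat.card A = 16 := h0.2.2.2
  have hAsq : ∀ x ∈ A, x * x = 1 := fun x hx => hsq s0 r0 x h0 (mem_cc.mp hx).1 (mem_cc.mp hx).2
  have hord : ∀ x ∈ A, x ≠ 1 → orderOf x = 2 := fun x hx hx1 =>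
    orderOf_eq_prime (by rw [pow_two]; exact hAsq x hx) hx1
  have hne : ∀ a b : G, far a b → a ≠ 1 ∧ b ≠ 1 := by
    intro a b hab
    constructor
    · rintro rfl
      have := hab.1
      rw [orderOf_one] at this
      omega
    · rintro rfl
      have := hab.2.1
      rw [orderOf_one] at this
      omega
  -- nothing is far from itself
  have hself : ∀ a : G, ¬ far a a := by
    intro a haa
    obtain ⟨V, hVc, hV⟩ := hV a a haa
    have hsq' : ∀ x ∈ (Subgroup.centralizer ({a} : Set G) ⊓ Subgroup.centralizer ({a} : Set G) : Subgroup G),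
        x * x = 1 := fun x hx => hsq a a x haa (mem_cc.mp hx).1 (mem_cc.mp hx).2
    have hbot : ∀ x ∈ V, x = 1 := by
      intro x hx
      by_contra hx1
      obtain ⟨h1, _, h2⟩ := (hV x).mp hx
      apply h2
      have hxm : x ∈ (Subgroup.centralizer ({a} : Set G) ⊓ Subgroup.centralizer ({a} : Set G) : Subgroup G) :=
        mem_cc.mpr ⟨h1, h1⟩
      refine ⟨haa.1, orderOf_eq_prime (by rw [pow_two]; exact hsq' x hxm) hx1, h1.symm, ?_⟩
      rw [← haa.2.2.2]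
      congr 2
      apply le_antisymm
      · intro z hz
        exact mem_cc.mpr ⟨(mem_cc.mp hz).1, (mem_cc.mp hz).1⟩
      · intro z hz
        exact mem_cc.mpr ⟨(mem_cc.mp hz).1, comm_of_sq hsq' hz hxm⟩
    have : Nat.card V ≤ 1 := by
      have : Subsingleton V := ⟨fun x y => Subtype.ext (by rw [hbot _ x.2, hbot _ y.2])⟩
      exact Finite.card_le_one_iff_subsingleton.mpr this
    omega
  have hs0 : s0 ∈ A := mem_cc.mpr ⟨rfl, h0.2.2.1⟩
  have hr0 : r0 ∈ A := mem_cc.mpr ⟨h0.2.2.1.symm, rfl⟩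
  have hs01 : s0 ≠ 1 := (hne _ _ h0).1
  -- far pairs of A determine A
  have hAeq : ∀ a ∈ A, ∀ b ∈ A, far a b →
      A = Subgroup.centralizer ({a} : Set G) ⊓ Subgroup.centralizer ({b} : Set G) := by
    intro a ha b hb hab
    apply Subgroup.eq_of_le_of_card_ge
    · intro x hx
      exact mem_cc.mpr ⟨comm_of_sq hAsq hx ha, comm_of_sq hAsq hx hb⟩
    · rw [hab.2.2.2, hcard]
  have hcent : ∀ a ∈ A, ∀ b ∈ A, far a b → ∀ x, x * a = a * x → x * b = b * x → x ∈ A := by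
    intro a ha b hb hab x hxa hxb
    rw [hAeq a ha b hb hab]
    exact mem_cc.mpr ⟨hxa, hxb⟩
  -- every involution of A has a far partner in A
  have hpart : ∀ a ∈ A, a ≠ 1 → ∃ b ∈ A, far a b := by
    intro a ha ha1
    by_cases hs : far s0 a
    · exact ⟨s0, hs0, far_symm hs⟩
    refine ⟨r0, hr0, ?_⟩
    by_contra hr
    by_cases has : a = s0
    · exact hr (has ▸ h0)
    have har : a ≠ r0 := by
      rintro rfl
      exact hs h0
    have h1 := hnear a s0 r0 (hord a ha ha1) h0.1 h0.2.1 (comm_of_sq hAsq ha hs0) (comm_of_sq hAsq ha hr0)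
      h0.2.2.1 has har (fun h => hs (far_symm h)) hr
    rcases h1 with h1 | h1
    · exact hself s0 (h1 ▸ h0)
    · obtain ⟨V, _, hV'⟩ := hV s0 r0 h0
      have haV : a ∈ V := (hV' a).mpr ⟨(mem_cc.mp ha).1, (mem_cc.mp ha).2, hs⟩
      have hsV : s0 ∈ V := (hV' s0).mpr ⟨rfl, h0.2.2.1, hself s0⟩
      have hrV : r0 ∈ V := by rw [h1]; exact V.mul_mem haV hsV
      exact ((hV' r0).mp hrV).2.2 h0
  have hblk : ∀ a ∈ A, a ≠ 1 → ∃ V : Subgroup G, Nat.card V = 4 ∧ ∀ x, x ∈ V ↔ (x ∈ A ∧ ¬ far a x) := by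
    intro a ha ha1
    obtain ⟨b, hb, hab⟩ := hpart a ha ha1
    obtain ⟨V, hVc, hV'⟩ := hV a b hab
    refine ⟨V, hVc, fun x => ?_⟩
    rw [hV' x]
    constructor
    · rintro ⟨h1, h2, h3⟩
      exact ⟨hcent a ha b hb hab x h1 h2, h3⟩
    · rintro ⟨h1, h2⟩
      exact ⟨comm_of_sq hAsq h1 ha, comm_of_sq hAsq h1 hb, h2⟩
  refine
    { card := hcard
      sq := hAsq
      ne := hne
      symm := fun a b => far_symm
      conj := fun n a b => far_conj n
      cent := hcent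
      blk := hblk
      self := fun a _ => hself a
      trans := ?_
      tr := hconj }
  intro a ha b hb c hc ha1 hb1 hc1 hab hbc hac
  by_cases hba : b = a
  · exact hbc (hba ▸ hac)
  by_cases hbc' : b = c
  · exact hab (hbc' ▸ hac)
  have h1 := hnear b a c (hord b hb hb1) (hord a ha ha1) (hord c hc hc1) (comm_of_sq hAsq hb ha)
    (comm_of_sq hAsq hb hc) (comm_of_sq hAsq ha hc) hba hbc' (fun h => hab (far_symm h)) hbc
  rcases h1 with h1 | h1
  · exact hself a (h1 ▸ hac)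
  · obtain ⟨V, _, hV'⟩ := hblk a ha ha1
    have hbV : b ∈ V := (hV' b).mpr ⟨hb, hab⟩
    have haV : a ∈ V := (hV' a).mpr ⟨ha, hself a⟩
    have hcV : c ∈ V := by rw [h1]; exact V.mul_mem hbV haV
    exact ((hV' c).mp hcV).2 hac

/-- Package P2: the normaliser of the subgroup of order 16 attached to a far pair. -/
theorem P2 {G : Type*} [Group G] [Finite G]
    (_hone : ∀ s r : G, orderOf s = 2 → orderOf r = 2 → IsConj s r)
    (hconj : ∀ s r s' r' : G, far s r → far s' r' → ∃ g : G, g * s * g⁻¹ = s' ∧ g * r * g⁻¹ = r')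
    (hsq : ∀ s r x : G, far s r → x * s = s * x → x * r = r * x → x * x = 1)
    (hV : ∀ s r : G, far s r → ∃ V : Subgroup G, Nat.card V = 4 ∧
      ∀ x, x ∈ V ↔ (x * s = s * x ∧ x * r = r * x ∧ ¬ far s x))
    (hnear : ∀ a s r : G, orderOf a = 2 → orderOf s = 2 → orderOf r = 2 → a * s = s * a → a * r = r * a →
      s * r = r * s → a ≠ s → a ≠ r → ¬ far a s → ¬ far a r → r = s ∨ r = a * s)
    (s0 r0 : G) (h0 : far s0 r0) :
    let A : Subgroup G := Subgroup.centralizer ({s0} : Set G) ⊓ Subgroup.centralizer ({r0} : Set G)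
    Nat.card (Subgroup.normalizer (A : Set G)) = 2880 ∧ ∃ g y φ : G, orderOf g = 3 ∧ orderOf y = 5 ∧
      orderOf φ = 2 ∧ g * y = y * g ∧ g * φ = φ * g ∧ φ * y * φ⁻¹ = y⁻¹ ∧
      (∀ x ∈ A, g * x * g⁻¹ ∈ A ∧ y * x * y⁻¹ ∈ A ∧ φ * x * φ⁻¹ ∈ A) ∧ φ ∉ A ∧
      (∀ x ∈ A, x ≠ 1 → g * x * g⁻¹ ≠ x ∧ ¬ far x (g * x * g⁻¹)) ∧
      (∀ a ∈ A, ∀ b ∈ A, a ≠ 1 → b ≠ 1 → ∃ i < 3, ∃ j < 5, (g ^ i * y ^ j) * a * (g ^ i * y ^ j)⁻¹ = b) ∧
      (∀ x ∈ A, x * φ = φ * x → x ≠ 1 → ∀ z ∈ A, z * φ = φ * z → z ≠ 1 →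
        ∃ i < 3, z = g ^ i * x * (g ^ i)⁻¹) := by
  intro A
  exact (cfg_of_far hconj hsq hV hnear s0 r0 h0).main

end

end Cfsg.Agent.J3Type.NormA
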