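import Mathlib
import Cfsg.Agent.J3Type.OneClass
import Cfsg.Agent.J3Type.NormA
import Cfsg.Agent.J2Type.Fusion

set_option autoImplicit false

/-!
# Far pairs of involutions in a group all of whose involution centralisers are split `2^{1+4}_-:A₅`
-/

namespace Cfsg.Agent.J3Type.FarPairs

open Cfsg.Agent.J2Type.Model Cfsg.Agent.J2Type.SPFacts Cfsg.Agent.J2Type.CStruct
open Cfsg.Agent.J3Type.OneClass Cfsg.Agent.J3Type.NormA

variable {G : Type*} [Group G]

/-- the element `r` as an element of the centraliser of `s` -/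
abbrev toC {s r : G} (h : r * s = s * r) : Subgroup.centralizer ({s} : Set G) :=
  ⟨r, Subgroup.mem_centralizer_singleton_iff.2 h⟩

theorem sq_one_of_orderOf {s : G} (h : orderOf s = 2) : s * s = 1 := by
  have := pow_orderOf_eq_one s
  rwa [h, pow_two] at this

theorem ne_one_of_orderOf {s : G} (h : orderOf s = 2) : s ≠ 1 := by
  rintro rfl
  rw [orderOf_one] at h
  norm_num at h

theorem orderOf_eq_two {s : G} (h : s * s = 1) (h1 : s ≠ 1) : orderOf s = 2 :=
  (Cfsg.Agent.J2Type.Fusion.orderOf_two_iff s).2 ⟨h, h1⟩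

/-- cardinality of a common centraliser computed inside the first centraliser -/
theorem card_inf {s r : G} (h : r * s = s * r) :
    Nat.card (Subgroup.centralizer ({s} : Set G) ⊓ Subgroup.centralizer ({r} : Set G) : Subgroup G)
      = Nat.card {x : Subgroup.centralizer ({s} : Set G) // x * toC h = toC h * x} := by
  have := Cfsg.Agent.J2Type.Fusion.card_transfer (G := G) (Subgroup.centralizer ({s} : Set G))
    (fun x => x ∈ (Subgroup.centralizer ({s} : Set G) ⊓ Subgroup.centralizer ({r} : Set G) :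
      Subgroup G))
    (fun x => x * toC h = toC h * x) (fun x hx => hx.1) (by
      intro x
      constructor
      · intro hx
        exact ⟨x.2, Subgroup.mem_centralizer_singleton_iff.2 (congrArg Subtype.val hx)⟩
      · intro hx
        exact Subtype.ext (Subgroup.mem_centralizer_singleton_iff.1 hx.2))
  exact this

variable [Finite G]

/-- far means outside `Q` -/
theorem far_iff {s r : G} (hs : orderOf s = 2) (hr : orderOf r = 2)
    (hcard : Nat.card (Subgroup.centralizer ({s} : Set G)) = 1920)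
    {Q : Subgroup (Subgroup.centralizer ({s} : Set G))}
    {v : Fin 5 → Subgroup.centralizer ({s} : Set G)}
    {ρ : Subgroup.centralizer ({s} : Set G) →* SP} (M : IsModel Q (zc s) v ρ)
    (h : r * s = s * r) : far s r ↔ toC h ∉ Q := by
  have hr' : toC h * toC h = 1 := Subtype.ext (sq_one_of_orderOf hr)
  have hr1 : toC h ≠ 1 := by
    intro h1
    exact ne_one_of_orderOf hr (congrArg Subtype.val h1)
  constructor
  · rintro ⟨-, -, -, h16⟩ hQ
    rw [card_inf h] at h16
    have h1 := card_conj (toC h)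
    rw [h16, hcard] at h1
    haveI := normal_Q M
    have h11 := card_invol_Q M
    have hle : Nat.card {y : Subgroup.centralizer ({s} : Set G) // ∃ k, k * toC h * k⁻¹ = y} ≤
        Nat.card {x : Subgroup.centralizer ({s} : Set G) // x ∈ Q ∧ x * x = 1 ∧ x ≠ 1} := by
      apply Nat.card_le_card_of_injective
        (fun y => (⟨y.1, by
          obtain ⟨k, hk⟩ := y.2
          rw [← hk]
          refine ⟨Subgroup.Normal.conj_mem inferInstance _ hQ k, ?_, ?_⟩
          · calc k * toC h * k⁻¹ * (k * toC h * k⁻¹) = k * (toC h * toC h) * k⁻¹ := by group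
              _ = 1 := by rw [hr']; group
          · intro h2
            apply hr1
            calc toC h = k⁻¹ * (k * toC h * k⁻¹) * k := by group
              _ = 1 := by rw [h2]; group⟩ :
          {x : Subgroup.centralizer ({s} : Set G) // x ∈ Q ∧ x * x = 1 ∧ x ≠ 1}))
      intro a b hab
      apply Subtype.ext
      have h5 := congrArg Subtype.val hab
      exact h5
    rw [h11] at hle
    omega
  · intro hQ
    refine ⟨hs, hr, h.symm, ?_⟩
    rw [card_inf h]
    exact card_cent_outer M hr' hQ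

/-- hypotheses: every involution has a split model -/
def AllSplit (G : Type*) [Group G] : Prop :=
  ∀ s : G, orderOf s = 2 → Nat.card (Subgroup.centralizer ({s} : Set G)) = 1920 ∧
    ∃ (Q : Subgroup (Subgroup.centralizer ({s} : Set G)))
      (v : Fin 5 → Subgroup.centralizer ({s} : Set G))
      (ρ : Subgroup.centralizer ({s} : Set G) →* SP), IsModel Q (zc s) v ρ ∧
      ∃ u : Subgroup.centralizer ({s} : Set G), u * u = 1 ∧ u ∉ Q

theorem far_symm {s r : G} (h : far s r) : far r s := by
  obtain ⟨h1, h2, h3, h4⟩ := h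
  exact ⟨h2, h1, h3.symm, by rw [inf_comm]; exact h4⟩

theorem far_sq (hA : AllSplit G) (s r x : G) (h : far s r) (hxs : x * s = s * x)
    (hxr : x * r = r * x) : x * x = 1 := by
  obtain ⟨hc, Q, v, ρ, M, -⟩ := hA s h.1
  have hQ := (far_iff h.1 h.2.1 hc M h.2.2.1.symm).1 h
  have hr' : toC h.2.2.1.symm * toC h.2.2.1.symm = 1 := Subtype.ext (sq_one_of_orderOf h.2.1)
  have h1 : toC hxs * toC h.2.2.1.symm = toC h.2.2.1.symm * toC hxs := Subtype.ext hxr
  exact congrArg Subtype.val (sq_cent_outer M hr' hQ h1)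

theorem far_conj (hA : AllSplit G) (hone : ∀ s r : G, orderOf s = 2 → orderOf r = 2 → IsConj s r)
    (s r s' r' : G) (h : far s r) (h' : far s' r') :
    ∃ g : G, g * s * g⁻¹ = s' ∧ g * r * g⁻¹ = r' := by
  obtain ⟨hc, Q, v, ρ, M, -⟩ := hA s h.1
  obtain ⟨g, hg⟩ := isConj_iff.1 (hone s s' h.1 h'.1)
  set e := conjEquiv g s s' hg with he
  have M' := transport e M
  have hz : e (zc s) = zc s' := Subtype.ext hg
  rw [hz] at M'
  have hc' : Nat.card (Subgroup.centralizer ({s'} : Set G)) = 1920 := by
    rw [← hc]; exact (Nat.card_congr e.toEquiv).symm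
  have hQ := (far_iff h.1 h.2.1 hc M h.2.2.1.symm).1 h
  have hQ' := (far_iff h'.1 h'.2.1 hc' M' h'.2.2.1.symm).1 h'
  have h1 : e (toC h.2.2.1.symm) * e (toC h.2.2.1.symm) = 1 := by
    rw [← map_mul]
    have : toC h.2.2.1.symm * toC h.2.2.1.symm = 1 := Subtype.ext (sq_one_of_orderOf h.2.1)
    rw [this, map_one]
  have h2 : e (toC h.2.2.1.symm) ∉ Q.map e.toMonoidHom := by
    rintro ⟨q, hq, hqe⟩
    have : q = toC h.2.2.1.symm := e.injective hqe
    rw [this] at hq
    exact hQ hq
  have h3 : toC h'.2.2.1.symm * toC h'.2.2.1.symm = 1 :=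
    Subtype.ext (sq_one_of_orderOf h'.2.1)
  obtain ⟨k, hk⟩ := outer_conj M' h1 h2 h3 hQ'
  refine ⟨k * g, ?_, ?_⟩
  · have hk2 := Subgroup.mem_centralizer_singleton_iff.1 k.2
    calc (k : G) * g * s * ((k : G) * g)⁻¹ = k * (g * s * g⁻¹) * (k : G)⁻¹ := by group
      _ = k * s' * (k : G)⁻¹ := by rw [hg]
      _ = s' := by rw [hk2]; group
  · have hk3 : (k : G) * (g * r * g⁻¹) * (k : G)⁻¹ = r' := congrArg Subtype.val hk
    rw [← hk3]; group

theorem far_V (hA : AllSplit G) (s r : G) (h : far s r) : ∃ V : Subgroup G, Nat.card V = 4 ∧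
    ∀ x, x ∈ V ↔ (x * s = s * x ∧ x * r = r * x ∧ ¬ far s x) := by
  obtain ⟨hc, Q, v, ρ, M, -⟩ := hA s h.1
  haveI := normal_Q M
  have hQ := (far_iff h.1 h.2.1 hc M h.2.2.1.symm).1 h
  set r' := toC h.2.2.1.symm with hr'
  have hr'2 : r' * r' = 1 := Subtype.ext (sq_one_of_orderOf h.2.1)
  refine ⟨(Q ⊓ Subgroup.centralizer {r'}).map (Subgroup.centralizer ({s} : Set G)).subtype, ?_, ?_⟩
  · rw [Nat.card_congr (Subgroup.equivMapOfInjective _ _ (Subgroup.subtype_injective _)).toEquiv.symm]
    have h3 := card_U_outer M hr'2 hQ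
    have e : Option {x : Subgroup.centralizer ({s} : Set G) //
        x ∈ Q ∧ x * x = 1 ∧ x ≠ 1 ∧ x * r' = r' * x} ≃
        (Q ⊓ Subgroup.centralizer {r'} : Subgroup (Subgroup.centralizer ({s} : Set G))) := by
      refine Equiv.ofBijective (fun o => match o with
        | none => 1
        | some x => ⟨x.1, x.2.1, Subgroup.mem_centralizer_singleton_iff.2 x.2.2.2.2⟩) ⟨?_, ?_⟩
      · rintro (_ | x) (_ | y) hxy
        · rfl
        · exact absurd (congrArg Subtype.val hxy).symm y.2.2.2.1
        · exact absurd (congrArg Subtype.val hxy) x.2.2.2.1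
        · congr 1
          apply Subtype.ext
          have := congrArg Subtype.val hxy
          exact this
      · rintro ⟨x, hx1, hx2⟩
        by_cases hx : x = 1
        · exact ⟨none, Subtype.ext hx.symm⟩
        · have hx3 := Subgroup.mem_centralizer_singleton_iff.1 hx2
          exact ⟨some ⟨x, hx1, sq_cent_outer M hr'2 hQ hx3, hx, hx3⟩, rfl⟩
    rw [← Nat.card_congr e, Finite.card_option, h3]
  · intro x
    constructor
    · rintro ⟨y, ⟨hy1, hy2⟩, rfl⟩
      have hys : (y : G) * s = s * y := Subgroup.mem_centralizer_singleton_iff.1 y.2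
      have hyr := Subgroup.mem_centralizer_singleton_iff.1 hy2
      refine ⟨hys, congrArg Subtype.val hyr, ?_⟩
      intro hf
      exact (far_iff h.1 hf.2.1 hc M hys).1 hf hy1
    · rintro ⟨h1, h2, h3⟩
      refine ⟨toC h1, ⟨?_, ?_⟩, rfl⟩
      · by_contra h4
        apply h3
        have hxx := far_sq hA s r x h h1 h2
        have hx1 : x ≠ 1 := by
          rintro rfl
          apply h4
          have : toC h1 = 1 := rfl
          rw [this]
          exact Q.one_mem
        exact (far_iff h.1 (orderOf_eq_two hxx hx1) hc M h1).2 h4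
      · exact Subgroup.mem_centralizer_singleton_iff.2 (Subtype.ext h2)

theorem far_near (hA : AllSplit G) (a s r : G) (ha : orderOf a = 2) (hs : orderOf s = 2)
    (hr : orderOf r = 2) (has : a * s = s * a) (har : a * r = r * a)
    (hsr : s * r = r * s) (hne1 : a ≠ s) (hne2 : a ≠ r) (h1 : ¬ far a s) (h2 : ¬ far a r) :
    r = s ∨ r = a * s := by
  obtain ⟨hc, Q, v, ρ, M, -⟩ := hA a ha
  rw [far_iff ha hs hc M has.symm, not_not] at h1
  rw [far_iff ha hr hc M har.symm, not_not] at h2
  have hs2 : toC has.symm * toC has.symm = 1 := Subtype.ext (sq_one_of_orderOf hs)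
  have hr2 : toC har.symm * toC har.symm = 1 := Subtype.ext (sq_one_of_orderOf hr)
  have hs1 : toC has.symm ≠ 1 := fun h => ne_one_of_orderOf hs (congrArg Subtype.val h)
  have hr1 : toC har.symm ≠ 1 := fun h => ne_one_of_orderOf hr (congrArg Subtype.val h)
  rcases invol_Q M h1 hs2 hs1 with h3 | ⟨b, i, h3⟩
  · exact absurd (congrArg Subtype.val h3).symm hne1
  rcases invol_Q M h2 hr2 hr1 with h4 | ⟨b', j, h4⟩
  · exact absurd (congrArg Subtype.val h4).symm hne2
  have h5 : toC has.symm * toC har.symm = toC har.symm * toC has.symm := Subtype.ext hsr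
  rw [h3, h4, zv_comm_iff M] at h5
  subst h5
  have h6 : toC har.symm = zp (zc a) (b' + b) * toC has.symm := by
    rw [h3, h4, zp_add _ M.z_sq, mul_assoc, ← mul_assoc (zp (zc a) b), zp_sq M, one_mul]
  rcases zmod2_cases (b' + b) with h7 | h7
  · left
    rw [h7, zp_zero, one_mul] at h6
    exact congrArg Subtype.val h6
  · right
    rw [h7, zp_one] at h6
    exact congrArg Subtype.val h6

end Cfsg.Agent.J3Type.FarPairs
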