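import Mathlib

set_option autoImplicit false

/-!
# Recognition of `SL₂(K)` in characteristic 2 from rank one data

`SL2Data K G`: a family of elements `u k` (root group), `h a` (torus), `w` of a group `G`
satisfying the Steinberg relations in characteristic 2. Then `φ : SL₂(K) →* G` exists.
-/

namespace Cfsg.Agent.J3Type.RankOneSL2

open Matrix

/-- Rank one data in characteristic two. -/
structure SL2Data (K G : Type*) [Field K] [Group G] where
  u : K → G
  h : Kˣ → G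
  w : G
  char2 : ∀ k : K, k + k = 0
  u_add : ∀ a b, u (a + b) = u a * u b
  h_mul : ∀ a b, h (a * b) = h a * h b
  hu : ∀ (a : Kˣ) (k : K), h a * u k = u ((a : K) * a * k) * h a
  ww : w * w = 1
  wh : ∀ a, w * h a = h a⁻¹ * w
  rel : w * u 1 * w = u 1 * w * u 1

namespace SL2Data

variable {K G : Type*} [Field K] [Group G] (D : SL2Data K G)

theorem u_zero : D.u 0 = 1 := by
  have := D.u_add 0 0
  rw [add_zero] at this
  exact (mul_eq_left.mp this.symm)

theorem h_one : D.h 1 = 1 := by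
  have := D.h_mul 1 1
  rw [mul_one] at this
  exact (mul_eq_left.mp this.symm)

include D in
theorem neg_eq (k : K) : -k = k := by
  rw [neg_eq_iff_add_eq_zero]; exact D.char2 k

theorem h_inv (a : Kˣ) : (D.h a)⁻¹ = D.h a⁻¹ := by
  rw [inv_eq_iff_mul_eq_one, ← D.h_mul, mul_inv_cancel, D.h_one]

/-- The key relation for all nonzero `k`, written with a square `a * a`. -/
theorem rel_sq (a : Kˣ) :
    D.w * D.u ((a : K) * a) * D.w
      = D.u ((a⁻¹ : Kˣ) * (a⁻¹ : Kˣ)) * D.w * D.h (a * a) * D.u ((a⁻¹ : Kˣ) * (a⁻¹ : Kˣ)) := by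
  have h1 : D.u ((a : K) * a) = D.h a * D.u 1 * D.h a⁻¹ := by
    rw [D.hu, mul_one, mul_assoc, ← D.h_mul, mul_inv_cancel, D.h_one, mul_one]
  have h2 : ∀ k : K, D.h a⁻¹ * D.u k = D.u ((a⁻¹ : Kˣ) * (a⁻¹ : Kˣ) * k) * D.h a⁻¹ := fun k =>
    D.hu a⁻¹ k
  have h3 : D.h a⁻¹ * D.w = D.w * D.h a := by
    rw [D.wh]
  have hd : D.h a * D.u ((a⁻¹ : Kˣ) * (a⁻¹ : Kˣ)) = D.u 1 * D.h a := by
    rw [D.hu]
    congr 2
    have : (a : K) * ((a⁻¹ : Kˣ) : K) = 1 := by simp
    calc (a : K) * a * (((a⁻¹ : Kˣ) : K) * ((a⁻¹ : Kˣ) : K))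
        = ((a : K) * ((a⁻¹ : Kˣ) : K)) * ((a : K) * ((a⁻¹ : Kˣ) : K)) := by ring
      _ = 1 := by rw [this, one_mul]
  have hc : D.h a⁻¹ * D.u 1 = D.u ((a⁻¹ : Kˣ) * (a⁻¹ : Kˣ)) * D.h a⁻¹ := by
    rw [h2, mul_one]
  calc D.w * D.u ((a : K) * a) * D.w
      = (D.w * D.h a) * D.u 1 * (D.h a⁻¹ * D.w) := by rw [h1]; group
    _ = (D.h a⁻¹ * D.w) * D.u 1 * (D.w * D.h a) := by rw [D.wh, h3]
    _ = D.h a⁻¹ * (D.w * D.u 1 * D.w) * D.h a := by group
    _ = D.h a⁻¹ * (D.u 1 * D.w * D.u 1) * D.h a := by rw [D.rel]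
    _ = (D.h a⁻¹ * D.u 1) * D.w * (D.u 1 * D.h a) := by group
    _ = D.u ((a⁻¹ : Kˣ) * (a⁻¹ : Kˣ)) * D.h a⁻¹ * D.w * (D.h a * D.u ((a⁻¹ : Kˣ) * (a⁻¹ : Kˣ))) := by
        rw [hc, hd]
    _ = D.u ((a⁻¹ : Kˣ) * (a⁻¹ : Kˣ)) * (D.h a⁻¹ * D.w) * D.h a
          * D.u ((a⁻¹ : Kˣ) * (a⁻¹ : Kˣ)) := by group
    _ = D.u ((a⁻¹ : Kˣ) * (a⁻¹ : Kˣ)) * D.w * (D.h a * D.h a)
          * D.u ((a⁻¹ : Kˣ) * (a⁻¹ : Kˣ)) := by rw [h3]; group
    _ = _ := by rw [← D.h_mul]

/-- The map on matrices, given on `Matrix (Fin 2) (Fin 2) K` with entries `a b c d`. -/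
noncomputable def fn (a b c d : K) : G :=
  open Classical in
  if hc : c = 0 then
    if ha : a = 0 then 1 else D.u (b * a) * D.h (Units.mk0 a ha)
  else D.u (a / c) * D.w * D.h (Units.mk0 c hc) * D.u (d / c)

theorem fn_c0 {a b c d : K} (hc : c = 0) (ha : a ≠ 0) :
    D.fn a b c d = D.u (b * a) * D.h (Units.mk0 a ha) := by
  unfold fn
  rw [dif_pos hc, dif_neg ha]

theorem fn_cne {a b c d : K} (hc : c ≠ 0) :
    D.fn a b c d = D.u (a / c) * D.w * D.h (Units.mk0 c hc) * D.u (d / c) := by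
  unfold fn
  rw [dif_neg hc]

/-- Left multiplication by a root element. -/
theorem fn_u (k : K) {a b c d : K} (hdet : a * d - b * c = 1) :
    D.fn (a + k * c) (b + k * d) c d = D.u k * D.fn a b c d := by
  by_cases hc : c = 0
  · subst hc
    have ha : a ≠ 0 := by rintro rfl; simp at hdet
    have ha' : a + k * 0 ≠ 0 := by simpa using ha
    rw [D.fn_c0 rfl ha', D.fn_c0 rfl ha, ← mul_assoc, ← D.u_add]
    have h1 : (b + k * d) * (a + k * 0) = k + b * a := by
      have : a * d = 1 := by simpa using hdet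
      linear_combination k * this
    rw [h1]
    congr 2
    ext; simp
  · rw [D.fn_cne hc, D.fn_cne hc]
    rw [← mul_assoc, ← mul_assoc, ← mul_assoc, ← D.u_add]
    congr 5
    field_simp
    ring

/-- Left multiplication by a torus element. -/
theorem fn_h (t : Kˣ) {a b c d : K} (hdet : a * d - b * c = 1) :
    D.fn (t * a) (t * b) ((t⁻¹ : Kˣ) * c) ((t⁻¹ : Kˣ) * d) = D.h t * D.fn a b c d := by
  by_cases hc : c = 0
  · subst hc
    have ha : a ≠ 0 := by rintro rfl; simp at hdet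
    have ha' : (t : K) * a ≠ 0 := mul_ne_zero t.ne_zero ha
    rw [D.fn_c0 (by simp) ha', D.fn_c0 rfl ha, ← mul_assoc (D.h t), D.hu, mul_assoc (D.u _) (D.h t),
      ← D.h_mul]
    congr 2
    · ring
    · ext; simp
  · have hc' : ((t⁻¹ : Kˣ) : K) * c ≠ 0 := mul_ne_zero (t⁻¹).ne_zero hc
    rw [D.fn_cne hc, D.fn_cne hc']
    have e1 : Units.mk0 (((t⁻¹ : Kˣ) : K) * c) hc' = t⁻¹ * Units.mk0 c hc := by ext; simp
    rw [e1, D.h_mul]
    have e2 : (t : K) * a / (((t⁻¹ : Kˣ) : K) * c) = t * t * (a / c) := by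
      have : (t : K) ≠ 0 := t.ne_zero
      rw [Units.val_inv_eq_inv_val]
      field_simp
    have e3 : ((t⁻¹ : Kˣ) : K) * d / (((t⁻¹ : Kˣ) : K) * c) = d / c := by
      have : (t : K) ≠ 0 := t.ne_zero
      rw [Units.val_inv_eq_inv_val]
      field_simp
    rw [e2, e3]
    calc D.u (t * t * (a / c)) * D.w * (D.h t⁻¹ * D.h (Units.mk0 c hc)) * D.u (d / c)
        = D.u (t * t * (a / c)) * (D.w * D.h t⁻¹) * D.h (Units.mk0 c hc) * D.u (d / c) := by group
      _ = (D.u (t * t * (a / c)) * D.h t) * D.w * D.h (Units.mk0 c hc) * D.u (d / c) := by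
          rw [D.wh, inv_inv]; group
      _ = _ := by rw [← D.hu]; group

/-- Left multiplication by `w`. Requires that every element of `K` is a square. -/
theorem fn_w (hsq : ∀ k : K, ∃ r : K, r * r = k) {a b c d : K} (hdet : a * d - b * c = 1) :
    D.fn c d a b = D.w * D.fn a b c d := by
  have hneg := D.neg_eq
  by_cases hc : c = 0
  · subst hc
    have ha : a ≠ 0 := by rintro rfl; simp at hdet
    rw [D.fn_cne ha, D.fn_c0 rfl ha]
    have h0 : (0 : K) / a = 0 := by simp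
    rw [h0, D.u_zero, one_mul, mul_assoc, D.hu]
    congr 3
    simp only [Units.val_mk0]
    field_simp
  · by_cases ha : a = 0
    · subst ha
      have hb : b ≠ 0 := by rintro rfl; simp at hdet
      rw [D.fn_c0 rfl hc, D.fn_cne hc]
      have h0 : (0 : K) / c = 0 := by simp
      rw [h0, D.u_zero, one_mul]
      rw [← mul_assoc, ← mul_assoc, D.ww, one_mul, D.hu]
      congr 2
      simp only [Units.val_mk0]
      field_simp
    · rw [D.fn_cne ha, D.fn_cne hc]
      obtain ⟨r, hr⟩ := hsq (a / c)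
      have hr0 : r ≠ 0 := by
        rintro rfl
        have : a / c ≠ 0 := div_ne_zero ha hc
        apply this; rw [← hr]; simp
      set R : Kˣ := Units.mk0 r hr0 with hR
      have hRv : (R : K) = r := rfl
      have hsqv : ((R⁻¹ : Kˣ) : K) * ((R⁻¹ : Kˣ) : K) = c / a := by
        rw [Units.val_inv_eq_inv_val, hRv, ← mul_inv, hr, inv_div]
      have key := D.rel_sq R
      rw [hRv, hr, hsqv] at key
      have hRR : R * R * Units.mk0 c hc = Units.mk0 a ha := by
        ext; simp only [Units.val_mul, Units.val_mk0, hRv, hr]; field_simp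
      calc D.u (c / a) * D.w * D.h (Units.mk0 a ha) * D.u (b / a)
          = D.u (c / a) * D.w * (D.h (R * R * Units.mk0 c hc)) * D.u (b / a) := by rw [hRR]
        _ = D.u (c / a) * D.w * (D.h (R * R) * D.h (Units.mk0 c hc)) * D.u (b / a) := by
            rw [D.h_mul (R * R)]
        _ = D.u (c / a) * D.w * D.h (R * R) * (D.h (Units.mk0 c hc) * D.u (1 / (a * c)))
              * D.u (d / c) := by
            have : b / a = 1 / (a * c) + d / c := by
              have hc2 : b * c = a * d + 1 := by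
                have h11 : (1 : K) + 1 = 0 := D.char2 1
                linear_combination -hdet - h11
              field_simp
              linear_combination hc2
            rw [this, D.u_add]; group
        _ = D.u (c / a) * D.w * D.h (R * R) * (D.u (c / a) * D.h (Units.mk0 c hc))
              * D.u (d / c) := by
            rw [D.hu]
            congr 4
            simp only [Units.val_mk0]
            field_simp
        _ = (D.u (c / a) * D.w * D.h (R * R) * D.u (c / a)) * D.h (Units.mk0 c hc)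
              * D.u (d / c) := by group
        _ = (D.w * D.u (a / c) * D.w) * D.h (Units.mk0 c hc) * D.u (d / c) := by rw [key]
        _ = _ := by group

/-- The map on `SL₂(K)`. -/
noncomputable def map (M : SpecialLinearGroup (Fin 2) K) : G :=
  D.fn (M.1 0 0) (M.1 0 1) (M.1 1 0) (M.1 1 1)

theorem det_eq (M : SpecialLinearGroup (Fin 2) K) : M.1 0 0 * M.1 1 1 - M.1 0 1 * M.1 1 0 = 1 := by
  have := M.det_coe
  rwa [Matrix.det_fin_two] at this

/-- Upper unitriangular matrix. -/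
def uM (k : K) : SpecialLinearGroup (Fin 2) K := ⟨!![1, k; 0, 1], by simp⟩

/-- Diagonal matrix. -/
def hM (t : Kˣ) : SpecialLinearGroup (Fin 2) K :=
  ⟨!![(t : K), 0; 0, ((t⁻¹ : Kˣ) : K)], by simp⟩

/-- The Weyl element. -/
def wM : SpecialLinearGroup (Fin 2) K :=
  ⟨!![0, 1; 1, 0], by
    have h := D.neg_eq (1 : K)
    simp [h]⟩

theorem map_uM (k : K) : D.map (uM k) = D.u k := by
  unfold map
  have : D.fn 1 k 0 1 = D.u k := by
    rw [D.fn_c0 rfl one_ne_zero]
    have : Units.mk0 (1 : K) one_ne_zero = 1 := by ext; simp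
    rw [this, D.h_one, mul_one, mul_one]
  simpa [uM] using this

theorem map_hM (t : Kˣ) : D.map (hM t) = D.h t := by
  unfold map
  have : D.fn (t : K) 0 0 ((t⁻¹ : Kˣ) : K) = D.h t := by
    rw [D.fn_c0 rfl t.ne_zero, zero_mul, D.u_zero, one_mul, Units.mk0_val]
  simpa [hM] using this

theorem map_wM : D.map D.wM = D.w := by
  unfold map
  have : D.fn 0 1 1 0 = D.w := by
    rw [D.fn_cne one_ne_zero]
    have : Units.mk0 (1 : K) one_ne_zero = 1 := by ext; simp
    rw [this, D.h_one, mul_one, zero_div, D.u_zero, one_mul, mul_one]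
  simpa [wM] using this

omit [Group G] in
theorem mul_entry (A B : SpecialLinearGroup (Fin 2) K) (i j : Fin 2) :
    (A * B).1 i j = A.1 i 0 * B.1 0 j + A.1 i 1 * B.1 1 j := by
  have : (A * B).1 = A.1 * B.1 := rfl
  rw [this, Matrix.mul_apply, Fin.sum_univ_two]

theorem map_uM_mul (k : K) (M : SpecialLinearGroup (Fin 2) K) :
    D.map (uM k * M) = D.map (uM k) * D.map M := by
  rw [map_uM]
  have := D.fn_u k (det_eq M)
  unfold map
  rw [← this]
  simp only [mul_entry]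
  simp [uM]

theorem map_hM_mul (t : Kˣ) (M : SpecialLinearGroup (Fin 2) K) :
    D.map (hM t * M) = D.map (hM t) * D.map M := by
  rw [map_hM]
  have := D.fn_h t (det_eq M)
  unfold map
  rw [← this]
  simp only [mul_entry]
  simp [hM]

theorem map_wM_mul (hsq : ∀ k : K, ∃ r : K, r * r = k) (M : SpecialLinearGroup (Fin 2) K) :
    D.map (D.wM * M) = D.map D.wM * D.map M := by
  rw [map_wM]
  have := D.fn_w hsq (det_eq M)
  unfold map
  rw [← this]
  simp only [mul_entry]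
  simp [wM]

theorem decomp_c0 (M : SpecialLinearGroup (Fin 2) K) (hc : M.1 1 0 = 0) :
    ∃ (k : K) (t : Kˣ), M = uM k * hM t := by
  have hdet := det_eq M
  rw [hc, mul_zero, sub_zero] at hdet
  have ha : M.1 0 0 ≠ 0 := by intro h; rw [h] at hdet; simp at hdet
  have hd : M.1 1 1 = (M.1 0 0)⁻¹ := eq_inv_of_mul_eq_one_right hdet
  refine ⟨M.1 0 1 * M.1 0 0, Units.mk0 (M.1 0 0) ha, ?_⟩
  apply Subtype.ext
  change M.1 = !![1, M.1 0 1 * M.1 0 0; 0, 1] *
    !![((Units.mk0 (M.1 0 0) ha : Kˣ) : K), 0; 0, (((Units.mk0 (M.1 0 0) ha)⁻¹ : Kˣ) : K)]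
  conv_lhs => rw [Matrix.eta_fin_two M.1]
  rw [Matrix.mul_fin_two, hc, hd]
  simp [ha]

theorem decomp_cne (M : SpecialLinearGroup (Fin 2) K) (hc : M.1 1 0 ≠ 0) :
    M = uM (M.1 0 0 / M.1 1 0) * D.wM * hM (Units.mk0 (M.1 1 0) hc) * uM (M.1 1 1 / M.1 1 0) := by
  have hdet := det_eq M
  have h11 : (1 : K) + 1 = 0 := D.char2 1
  apply Subtype.ext
  change M.1 = !![1, M.1 0 0 / M.1 1 0; 0, 1] * !![0, 1; 1, 0] *
    !![((Units.mk0 (M.1 1 0) hc : Kˣ) : K), 0; 0, (((Units.mk0 (M.1 1 0) hc)⁻¹ : Kˣ) : K)] *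
    !![1, M.1 1 1 / M.1 1 0; 0, 1]
  conv_lhs => rw [Matrix.eta_fin_two M.1]
  rw [Matrix.mul_fin_two, Matrix.mul_fin_two, Matrix.mul_fin_two]
  have e01 : M.1 0 1 = (M.1 1 0)⁻¹ + M.1 0 0 * (M.1 1 1 / M.1 1 0) := by
    field_simp
    linear_combination -hdet - h11
  have e11 : M.1 1 0 * (M.1 1 1 / M.1 1 0) = M.1 1 1 := by field_simp
  have e00 : M.1 0 0 / M.1 1 0 * M.1 1 0 = M.1 0 0 := by field_simp
  simp only [Units.val_mk0, Units.val_inv_eq_inv_val, mul_one, one_mul, mul_zero, zero_mul,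
    add_zero, zero_add]
  rw [e00, e11, ← e01.trans (add_comm _ _)]

theorem map_mul (hsq : ∀ k : K, ∃ r : K, r * r = k) (M N : SpecialLinearGroup (Fin 2) K) :
    D.map (M * N) = D.map M * D.map N := by
  have hP : ∀ g g' : SpecialLinearGroup (Fin 2) K,
      (∀ N, D.map (g * N) = D.map g * D.map N) → (∀ N, D.map (g' * N) = D.map g' * D.map N) →
      ∀ N, D.map (g * g' * N) = D.map (g * g') * D.map N := by
    intro g g' h1 h2 N
    rw [mul_assoc, h1, h2, h1, mul_assoc]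
  by_cases hc : M.1 1 0 = 0
  · obtain ⟨k, t, rfl⟩ := decomp_c0 M hc
    exact hP _ _ (D.map_uM_mul k) (D.map_hM_mul t) N
  · rw [D.decomp_cne M hc]
    exact hP _ _ (hP _ _ (hP _ _ (D.map_uM_mul _) (D.map_wM_mul hsq)) (D.map_hM_mul _))
      (D.map_uM_mul _) N

/-- The homomorphism `SL₂(K) →* G`. -/
noncomputable def hom (hsq : ∀ k : K, ∃ r : K, r * r = k) :
    SpecialLinearGroup (Fin 2) K →* G :=
  MonoidHom.mk' D.map (D.map_mul hsq)

theorem hom_apply (hsq : ∀ k : K, ∃ r : K, r * r = k) (M : SpecialLinearGroup (Fin 2) K) :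
    D.hom hsq M = D.map M := rfl

theorem hom_injective (hsq : ∀ k : K, ∃ r : K, r * r = k)
    (huh : ∀ k t, D.u k * D.h t = 1 → k = 0 ∧ t = 1)
    (hw : ∀ k t, D.w ≠ D.u k * D.h t) : Function.Injective (D.hom hsq) := by
  rw [injective_iff_map_eq_one]
  intro M hM1
  rw [hom_apply] at hM1
  by_cases hc : M.1 1 0 = 0
  · obtain ⟨k, t, rfl⟩ := decomp_c0 M hc
    rw [D.map_uM_mul, D.map_uM, D.map_hM] at hM1
    obtain ⟨rfl, rfl⟩ := huh k t hM1
    apply Subtype.ext
    change !![1, 0; 0, 1] * !![((1 : Kˣ) : K), 0; 0, (((1 : Kˣ)⁻¹ : Kˣ) : K)] =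
      (1 : Matrix (Fin 2) (Fin 2) K)
    rw [Matrix.mul_fin_two, Matrix.one_fin_two]
    simp
  · exfalso
    unfold map at hM1
    rw [D.fn_cne hc] at hM1
    set a := M.1 0 0 / M.1 1 0
    set d := M.1 1 1 / M.1 1 0
    set t := Units.mk0 (M.1 1 0) hc
    have h1 : D.w = (D.u a)⁻¹ * (D.h t * D.u d)⁻¹ := by
      have : D.u a * D.w * (D.h t * D.u d) = 1 := by rw [← hM1]; group
      rw [eq_inv_mul_iff_mul_eq, eq_inv_iff_mul_eq_one, this]
    have hinv : (D.u a)⁻¹ = D.u (-a) := by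
      rw [inv_eq_iff_mul_eq_one, ← D.u_add, add_neg_cancel, D.u_zero]
    have h2 : (D.h t * D.u d)⁻¹ = D.u (-d) * D.h t⁻¹ := by
      rw [_root_.mul_inv_rev, D.h_inv]
      congr 1
      rw [inv_eq_iff_mul_eq_one, ← D.u_add, add_neg_cancel, D.u_zero]
    rw [hinv, h2, ← mul_assoc, ← D.u_add] at h1
    exact hw _ _ h1

theorem hom_range (hsq : ∀ k : K, ∃ r : K, r * r = k) :
    (D.hom hsq).range = Subgroup.closure (Set.range D.u ∪ Set.range D.h ∪ {D.w}) := by
  apply le_antisymm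
  · rintro _ ⟨M, rfl⟩
    rw [hom_apply]
    have hu : ∀ k, D.u k ∈ Subgroup.closure (Set.range D.u ∪ Set.range D.h ∪ {D.w}) :=
      fun k => Subgroup.subset_closure (Or.inl (Or.inl ⟨k, rfl⟩))
    have hh : ∀ k, D.h k ∈ Subgroup.closure (Set.range D.u ∪ Set.range D.h ∪ {D.w}) :=
      fun k => Subgroup.subset_closure (Or.inl (Or.inr ⟨k, rfl⟩))
    have hw : D.w ∈ Subgroup.closure (Set.range D.u ∪ Set.range D.h ∪ {D.w}) :=
      Subgroup.subset_closure (Or.inr rfl)
    by_cases hc : M.1 1 0 = 0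
    · obtain ⟨k, t, rfl⟩ := decomp_c0 M hc
      rw [D.map_uM_mul, D.map_uM, D.map_hM]
      exact mul_mem (hu _) (hh _)
    · unfold map
      rw [D.fn_cne hc]
      exact mul_mem (mul_mem (mul_mem (hu _) hw) (hh _)) (hu _)
  · rw [Subgroup.closure_le]
    rintro _ ((⟨k, rfl⟩ | ⟨k, rfl⟩) | rfl)
    · exact ⟨uM k, D.map_uM k⟩
    · exact ⟨hM k, D.map_hM k⟩
    · exact ⟨D.wM, D.map_wM⟩

end SL2Data

end Cfsg.Agent.J3Type.RankOneSL2
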