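import Mathlib
import Cfsg.Agent.J3Type.RankOneSL2

set_option autoImplicit false

/-!
# From a sharply transitive abelian automorphism group to a field, and recognition of `SL₂(2^n)`
-/

namespace Cfsg.Agent.J3Type.RankOneField

section Fld

variable {T A : Type*} [CommGroup T] [AddCommGroup A] [DistribMulAction T A] (x : A)

/-- orbit map extended by zero -/
def toA : WithZero T → A
  | 0 => 0
  | (h : T) => h • x

theorem toA_zero : toA x (0 : WithZero T) = 0 := rfl

theorem toA_coe (h : T) : toA x (h : WithZero T) = h • x := rfl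

theorem toA_one : toA x (1 : WithZero T) = x := by
  change toA x ((1 : T) : WithZero T) = x
  rw [toA_coe, one_smul]

theorem toA_coe_mul (h : T) (k : WithZero T) : toA x ((h : WithZero T) * k) = h • toA x k := by
  induction k using WithZero.recZeroCoe with
  | zero => rw [mul_zero, toA_zero, smul_zero]
  | coe k => rw [← WithZero.coe_mul, toA_coe, toA_coe, mul_smul]

theorem toA_bijective (hx : x ≠ 0) (hreg : ∀ a : A, a ≠ 0 → ∃ h : T, h • x = a)
    (hinj : ∀ h : T, h • x = x → h = 1) : Function.Bijective (toA (T := T) x) := by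
  have hne : ∀ h : T, h • x ≠ 0 := by
    intro h h0
    apply hx
    have : h⁻¹ • (h • x) = h⁻¹ • (0 : A) := by rw [h0]
    rwa [smul_smul, inv_mul_cancel, one_smul, smul_zero] at this
  constructor
  · intro a b hab
    induction a using WithZero.recZeroCoe with
    | zero =>
      induction b using WithZero.recZeroCoe with
      | zero => rfl
      | coe b => exact absurd hab.symm (hne b)
    | coe a =>
      induction b using WithZero.recZeroCoe with
      | zero => exact absurd hab (hne a)
      | coe b =>
        rw [toA_coe, toA_coe] at hab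
        have : (b⁻¹ * a) • x = x := by
          rw [mul_smul, hab, smul_smul, inv_mul_cancel, one_smul]
        have := hinj _ this
        rw [inv_mul_eq_one] at this
        rw [this]
  · intro a
    by_cases ha : a = 0
    · exact ⟨0, by rw [toA_zero, ha]⟩
    · obtain ⟨h, hh⟩ := hreg a ha
      exact ⟨h, hh⟩

/-- The equivalence `WithZero T ≃ A`. -/
noncomputable def eqv (hb : Function.Bijective (toA (T := T) x)) : WithZero T ≃ A :=
  Equiv.ofBijective _ hb

theorem eqv_apply (hb : Function.Bijective (toA (T := T) x)) (k : WithZero T) :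
    eqv x hb k = toA x k := rfl

/-- The additive group structure on `WithZero T`. -/
@[reducible] noncomputable def acg (hb : Function.Bijective (toA (T := T) x)) :
    AddCommGroup (WithZero T) :=
  letI : Add (WithZero T) := ⟨fun a b => (eqv x hb).symm (eqv x hb a + eqv x hb b)⟩
  letI : Neg (WithZero T) := ⟨fun a => (eqv x hb).symm (- eqv x hb a)⟩
  { AddGroup.ofLeftAxioms (G := WithZero T)
      (by
        intro a b c
        change (eqv x hb).symm (eqv x hb ((eqv x hb).symm (eqv x hb a + eqv x hb b)) + eqv x hb c)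
          = (eqv x hb).symm (eqv x hb a + eqv x hb ((eqv x hb).symm (eqv x hb b + eqv x hb c)))
        rw [Equiv.apply_symm_apply, Equiv.apply_symm_apply, add_assoc])
      (by
        intro a
        change (eqv x hb).symm (eqv x hb 0 + eqv x hb a) = a
        rw [eqv_apply x hb 0, toA_zero, zero_add, Equiv.symm_apply_apply])
      (by
        intro a
        change (eqv x hb).symm (eqv x hb ((eqv x hb).symm (- eqv x hb a)) + eqv x hb a) = 0
        rw [Equiv.apply_symm_apply, neg_add_cancel, Equiv.symm_apply_eq, eqv_apply, toA_zero]) with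
    add_comm := by
      intro a b
      change (eqv x hb).symm (eqv x hb a + eqv x hb b) = (eqv x hb).symm (eqv x hb b + eqv x hb a)
      rw [add_comm] }

theorem acg_add (hb : Function.Bijective (toA (T := T) x)) (a b : WithZero T) :
    (acg x hb).add a b = (eqv x hb).symm (eqv x hb a + eqv x hb b) := rfl

/-- The field structure on `WithZero T`. -/
@[reducible] noncomputable def fld (hb : Function.Bijective (toA (T := T) x)) :
    Field (WithZero T) :=
  { (inferInstance : CommGroupWithZero (WithZero T)), acg x hb with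
    left_distrib := by
      intro a b c
      change a * (eqv x hb).symm (eqv x hb b + eqv x hb c)
        = (eqv x hb).symm (eqv x hb (a * b) + eqv x hb (a * c))
      rw [Equiv.eq_symm_apply]
      induction a using WithZero.recZeroCoe with
      | zero =>
        rw [zero_mul, zero_mul, zero_mul, eqv_apply x hb 0, toA_zero, add_zero]
      | coe a =>
        rw [eqv_apply x hb (_ * _), eqv_apply x hb (_ * b), eqv_apply x hb (_ * c), toA_coe_mul,
          toA_coe_mul, toA_coe_mul, ← eqv_apply x hb, Equiv.apply_symm_apply, smul_add,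
          eqv_apply, eqv_apply]
    right_distrib := by
      intro b c a
      change (eqv x hb).symm (eqv x hb b + eqv x hb c) * a
        = (eqv x hb).symm (eqv x hb (b * a) + eqv x hb (c * a))
      rw [mul_comm _ a, mul_comm b a, mul_comm c a, Equiv.eq_symm_apply]
      induction a using WithZero.recZeroCoe with
      | zero =>
        rw [zero_mul, zero_mul, zero_mul, eqv_apply x hb 0, toA_zero, add_zero]
      | coe a =>
        rw [eqv_apply x hb (_ * _), eqv_apply x hb (_ * b), eqv_apply x hb (_ * c), toA_coe_mul,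
          toA_coe_mul, toA_coe_mul, ← eqv_apply x hb, Equiv.apply_symm_apply, smul_add,
          eqv_apply, eqv_apply]
    nnqsmul := _
    nnqsmul_def := fun _ _ => rfl
    qsmul := _
    qsmul_def := fun _ _ => rfl }

theorem fld_add (hb : Function.Bijective (toA (T := T) x)) (a b : WithZero T) :
    toA x ((fld x hb).add a b) = toA x a + toA x b := by
  change toA x ((eqv x hb).symm (eqv x hb a + eqv x hb b)) = _
  rw [← eqv_apply x hb, Equiv.apply_symm_apply, eqv_apply, eqv_apply]

theorem fld_mul (hb : Function.Bijective (toA (T := T) x)) (a b : WithZero T) :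
    (fld x hb).mul a b = a * b := rfl

theorem fld_zero (hb : Function.Bijective (toA (T := T) x)) :
    (fld x hb).zero = 0 := rfl

theorem fld_one (hb : Function.Bijective (toA (T := T) x)) :
    (fld x hb).one = 1 := rfl

/-- Any finite field `K` of the right cardinality is identified with `WithZero T`. -/
theorem exists_sigma [Finite T] (hb : Function.Bijective (toA (T := T) x)) (K : Type*) [Field K]
    [Fintype K] (hK : Fintype.card K = Nat.card T + 1) :
    ∃ σ : K → WithZero T, Function.Bijective σ ∧ σ 0 = 0 ∧ σ 1 = 1 ∧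
      (∀ a b, σ (a * b) = σ a * σ b) ∧ (∀ a b, toA x (σ (a + b)) = toA x (σ a) + toA x (σ b)) := by
  classical
  haveI : Fintype T := Fintype.ofFinite T
  letI F : Field (WithZero T) := fld x hb
  letI : Fintype (WithZero T) := (inferInstance : Fintype (Option T))
  have hc : Fintype.card K = Fintype.card (WithZero T) := by
    have h2 : Fintype.card (WithZero T) = Fintype.card (Option T) := rfl
    rw [hK, Nat.card_eq_fintype_card, h2, Fintype.card_option]
  let e : K ≃+* WithZero T := FiniteField.ringEquivOfCardEq (K := K) (K' := WithZero T) hc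
  refine ⟨e, e.bijective, map_zero e, map_one e, fun a b => map_mul e a b, fun a b => ?_⟩
  have h : e (a + b) = (fld x hb).add (e a) (e b) := map_add e a b
  rw [h]
  exact fld_add x hb (e a) (e b)

end Fld

section Main

open Matrix

/-- Recognition of `SL₂(K)`, `K` of characteristic two, inside a group. -/
theorem exists_SL2 {G : Type*} [Group G] [Finite G] (A T : Subgroup G) (w x : G)
    (hA : ∀ a ∈ A, ∀ b ∈ A, a * b = b * a) (hA2 : ∀ a ∈ A, a * a = 1)
    (hT : ∀ a ∈ T, ∀ b ∈ T, a * b = b * a)
    (hTA : ∀ h ∈ T, ∀ a ∈ A, h * a * h⁻¹ ∈ A)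
    (hx : x ∈ A) (hx1 : x ≠ 1)
    (hreg : ∀ a ∈ A, a ≠ 1 → ∃ h ∈ T, h * x * h⁻¹ = a)
    (hinj : ∀ h ∈ T, h * x = x * h → h = 1)
    (hw : w * w = 1) (hwT : ∀ h ∈ T, w * h * w = h⁻¹) (hne : ∃ h ∈ T, h * h ≠ 1)
    (hrel : w * x * w = x * w * x)
    (K : Type) [Field K] [Fintype K] (hK : Fintype.card K = Nat.card T + 1) :
    ∃ φ : SpecialLinearGroup (Fin 2) K →* G, Function.Injective φ ∧
      φ.range = Subgroup.closure ((A : Set G) ∪ T ∪ {w}) ∧
      (∀ t : Kˣ, φ (RankOneSL2.SL2Data.hM t) ∈ T) ∧
      (∀ h ∈ T, ∃ t : Kˣ, φ (RankOneSL2.SL2Data.hM t) = h) ∧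
      (∀ k : K, φ (RankOneSL2.SL2Data.uM k) ∈ A) ∧
      (∀ a ∈ A, ∃ k : K, φ (RankOneSL2.SL2Data.uM k) = a) := by
  classical
  -- instances
  letI iT : CommGroup T := { (inferInstance : Group T) with
    mul_comm := fun a b => Subtype.ext (hT a a.2 b b.2) }
  letI iA : CommGroup A := { (inferInstance : Group A) with
    mul_comm := fun a b => Subtype.ext (hA a a.2 b b.2) }
  letI act : DistribMulAction T (Additive A) :=
    { smul := fun h a => Additive.ofMul ⟨h * (Additive.toMul a : A) * (h : G)⁻¹,
        hTA h h.2 _ (Additive.toMul a).2⟩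
      one_smul := by
        intro a
        apply Additive.toMul.injective
        apply Subtype.ext
        change ((1 : T) : G) * (Additive.toMul a : A) * ((1 : T) : G)⁻¹ = (Additive.toMul a : A)
        simp
      mul_smul := by
        intro h k a
        apply Additive.toMul.injective
        apply Subtype.ext
        change ((h * k : T) : G) * (Additive.toMul a : A) * ((h * k : T) : G)⁻¹
          = (h : G) * ((k : G) * (Additive.toMul a : A) * (k : G)⁻¹) * (h : G)⁻¹
        rw [Subgroup.coe_mul]; group
      smul_zero := by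
        intro h
        apply Additive.toMul.injective
        apply Subtype.ext
        change (h : G) * ((1 : A) : G) * (h : G)⁻¹ = ((1 : A) : G)
        simp
      smul_add := by
        intro h a b
        apply Additive.toMul.injective
        apply Subtype.ext
        change (h : G) * ((Additive.toMul a : A) * (Additive.toMul b : A)) * (h : G)⁻¹
          = ((h : G) * (Additive.toMul a : A) * (h : G)⁻¹) *
            ((h : G) * (Additive.toMul b : A) * (h : G)⁻¹)
        group }
  have smul_def : ∀ (h : T) (a : Additive A),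
      ((Additive.toMul (h • a) : A) : G) = h * (Additive.toMul a : A) * (h : G)⁻¹ :=
    fun h a => rfl
  let x' : Additive A := Additive.ofMul ⟨x, hx⟩
  have hx' : x' ≠ 0 := by
    intro h
    apply hx1
    have : (⟨x, hx⟩ : A) = 1 := h
    exact congrArg Subtype.val this
  have hb : Function.Bijective (toA (T := T) x') := by
    apply toA_bijective x' hx'
    · intro a ha
      have ha' : ((Additive.toMul a : A) : G) ≠ 1 := by
        intro h
        apply ha
        apply Additive.toMul.injective
        apply Subtype.ext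
        exact h
      obtain ⟨h, hh, e⟩ := hreg _ (Additive.toMul a).2 ha'
      refine ⟨⟨h, hh⟩, ?_⟩
      apply Additive.toMul.injective
      apply Subtype.ext
      exact e
    · intro h e
      have e' : ((Additive.toMul (h • x') : A) : G) = x := by rw [e]; rfl
      rw [smul_def] at e'
      apply Subtype.ext
      apply hinj h h.2
      have : (h : G) * x * (h : G)⁻¹ = x := e'
      rwa [mul_inv_eq_iff_eq_mul] at this
  obtain ⟨σ, hσb, hσ0, hσ1, hσm, hσa⟩ := exists_sigma x' hb K hK
  -- the torus element
  have hσne : ∀ t : Kˣ, σ t ≠ 0 := by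
    intro t h
    have : (t : K) = 0 := hσb.1 (h.trans hσ0.symm)
    exact t.ne_zero this
  let τ : Kˣ → T := fun t => WithZero.unzero (hσne t)
  have hτ : ∀ t : Kˣ, ((τ t : T) : WithZero T) = σ t := fun t => WithZero.coe_unzero (hσne t)
  have hτm : ∀ a b : Kˣ, τ (a * b) = τ a * τ b := by
    intro a b
    apply WithZero.coe_injective
    rw [WithZero.coe_mul, hτ, hτ, hτ, Units.val_mul, hσm]
  have hτ1 : τ 1 = 1 := by
    apply WithZero.coe_injective
    rw [hτ, Units.val_one, hσ1, WithZero.coe_one]
  let U : K → G := fun k => ((Additive.toMul (toA x' (σ k)) : A) : G)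
  have hU : ∀ k, U k ∈ A := fun k => (Additive.toMul (toA x' (σ k))).2
  have hUadd : ∀ a b, U (a + b) = U a * U b := by
    intro a b
    change ((Additive.toMul (toA x' (σ (a + b))) : A) : G) = _
    rw [hσa]; rfl
  have hU1 : U 1 = x := by
    change ((Additive.toMul (toA x' (σ 1)) : A) : G) = x
    rw [hσ1, toA_one]; rfl
  have hU0 : U 0 = 1 := by
    have := hUadd 0 0
    rw [add_zero] at this
    exact (mul_eq_left.mp this.symm)
  have hUsurj : ∀ a ∈ A, ∃ k, U k = a := by
    intro a ha
    obtain ⟨k', hk'⟩ := hb.2 (Additive.ofMul ⟨a, ha⟩)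
    obtain ⟨k, hk⟩ := hσb.2 k'
    refine ⟨k, ?_⟩
    change ((Additive.toMul (toA x' (σ k)) : A) : G) = a
    rw [hk, hk']; rfl
  have hUinj : Function.Injective U := by
    intro a b hab
    apply hσb.1
    apply hb.1
    apply Additive.toMul.injective
    exact Subtype.ext hab
  have hUmul : ∀ (t : Kˣ) (k : K), (τ t : G) * U k * (τ t : G)⁻¹ = U (t * k) := by
    intro t k
    change _ = ((Additive.toMul (toA x' (σ (t * k))) : A) : G)
    rw [hσm, ← hτ, toA_coe_mul, smul_def]
  have hchar : ∀ k : K, k + k = 0 := by
    intro k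
    apply hUinj
    rw [hUadd, hU0, hA2 _ (hU k)]
  -- squares
  have hsqinj : Function.Injective (fun k : K => k * k) := by
    intro a b hab
    have hab' : a * a = b * b := hab
    have h2 : (a + b) * (a + b) = 0 := by
      have e1 := hchar (a * b)
      have e2 := hchar (b * b)
      linear_combination hab' + e1 + e2
    have h3 : a + b = 0 := mul_self_eq_zero.mp h2
    have h4 := hchar b
    linear_combination h3 - h4
  have hsq : ∀ k : K, ∃ r : K, r * r = k := (Finite.injective_iff_surjective.mp hsqinj)
  have hTsurj : ∀ h : T, ∃ t : Kˣ, τ t * τ t = h := by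
    intro h
    obtain ⟨k, hk⟩ := hσb.2 (h : WithZero T)
    obtain ⟨r, hr⟩ := hsq k
    have hk0 : k ≠ 0 := by
      rintro rfl
      rw [hσ0] at hk
      exact WithZero.coe_ne_zero hk.symm
    have hr0 : r ≠ 0 := by
      rintro rfl
      rw [mul_zero] at hr
      exact hk0 hr.symm
    refine ⟨Units.mk0 r hr0, ?_⟩
    rw [← hτm]
    apply WithZero.coe_injective
    rw [hτ, Units.val_mul, Units.val_mk0, hr, hk]
  have hTA1 : ∀ h ∈ T, h ∈ A → h = 1 := fun h hh ha => hinj h hh (hA _ ha _ hx)
  let D : RankOneSL2.SL2Data K G :=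
    { u := U
      h := fun t => ((τ t * τ t : T) : G)
      w := w
      char2 := hchar
      u_add := hUadd
      h_mul := by
        intro a b
        rw [hτm, ← Subgroup.coe_mul]
        congr 1
        rw [mul_mul_mul_comm]
      hu := by
        intro a k
        rw [← mul_inv_eq_iff_eq_mul, mul_assoc (a : K), ← hUmul, ← hUmul, Subgroup.coe_mul]
        group
      ww := hw
      wh := by
        intro a
        have h1 := hwT _ (τ a * τ a).2
        have h2 : (((τ a⁻¹ * τ a⁻¹ : T)) : G) = ((τ a * τ a : T) : G)⁻¹ := by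
          rw [← Subgroup.coe_inv]
          congr 1
          rw [← hτm, ← hτm, eq_inv_iff_mul_eq_one, ← hτm]
          rw [show a⁻¹ * a⁻¹ * (a * a) = 1 by group, hτ1]
        rw [h2, ← h1]
        calc w * ((τ a * τ a : T) : G) = w * ((τ a * τ a : T) : G) * (w * w) := by
              rw [hw, mul_one]
          _ = _ := by group
      rel := by rw [hU1]; exact hrel }
  refine ⟨D.hom hsq, D.hom_injective hsq ?_ ?_, ?_, ?_, ?_, ?_, ?_⟩
  · intro k t h
    have h' : U k * ((τ t * τ t : T) : G) = 1 := h
    have h1 : ((τ t * τ t : T) : G) ∈ A := by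
      have : ((τ t * τ t : T) : G) = (U k)⁻¹ := eq_inv_of_mul_eq_one_right h'
      rw [this]; exact A.inv_mem (hU k)
    have h2 := hTA1 _ (τ t * τ t).2 h1
    rw [h2, mul_one] at h'
    constructor
    · apply hUinj; rw [h', hU0]
    · have h3 : τ (t * t) = 1 := by
        rw [hτm]; exact Subtype.ext h2
      have h4 : (t : K) * t = 1 * 1 := by
        apply hσb.1
        rw [← Units.val_mul, ← hτ, h3, mul_one, hσ1, WithZero.coe_one]
      exact Units.ext (hsqinj h4)
  · intro k t h
    have h' : w = U k * ((τ t * τ t : T) : G) := h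
    obtain ⟨s, hs, hss⟩ := hne
    apply hss
    set r : G := ((τ t * τ t : T) : G) with hr
    have hrT : r ∈ T := (τ t * τ t).2
    have h1 : w * s * w = s⁻¹ := hwT s hs
    have hwi : w⁻¹ = w := inv_eq_of_mul_eq_one_left hw
    have h2 : w * s * w⁻¹ = U k * s * (U k)⁻¹ := by
      rw [h']
      have : r * s * r⁻¹ = s := by rw [hT r hrT s hs]; group
      calc U k * r * s * (U k * r)⁻¹ = U k * (r * s * r⁻¹) * (U k)⁻¹ := by group
        _ = _ := by rw [this]
    rw [hwi, h1] at h2
    -- s⁻¹ = u s u⁻¹, so s⁻¹ * s⁻¹ = u * (s * u⁻¹ * s⁻¹) ∈ A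
    have h3 : s⁻¹ * s⁻¹ ∈ A := by
      have : s⁻¹ * s⁻¹ = U k * (s * (U k)⁻¹ * s⁻¹) := by rw [← mul_assoc, ← mul_assoc, ← h2]
      rw [this]
      exact A.mul_mem (hU k) (hTA s hs _ (A.inv_mem (hU k)))
    have h4 := hTA1 _ (T.mul_mem (T.inv_mem hs) (T.inv_mem hs)) h3
    have h5 : (s * s)⁻¹ = 1 := by rw [_root_.mul_inv_rev, h4]
    exact inv_eq_one.mp h5
  · rw [D.hom_range hsq]
    congr 2
    congr 1
    · ext a
      constructor
      · rintro ⟨k, rfl⟩; exact hU k
      · intro ha; exact hUsurj a ha
    · ext a
      constructor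
      · rintro ⟨t, rfl⟩; exact (τ t * τ t).2
      · intro ha
        obtain ⟨t, ht⟩ := hTsurj ⟨a, ha⟩
        exact ⟨t, congrArg Subtype.val ht⟩
  · intro t
    rw [D.hom_apply, D.map_hM]
    exact (τ t * τ t).2
  · intro h hh
    obtain ⟨t, ht⟩ := hTsurj ⟨h, hh⟩
    refine ⟨t, ?_⟩
    rw [D.hom_apply, D.map_hM]
    exact congrArg Subtype.val ht
  · intro k
    rw [D.hom_apply, D.map_uM]
    exact hU k
  · intro a ha
    obtain ⟨k, hk⟩ := hUsurj a ha
    refine ⟨k, ?_⟩
    rw [D.hom_apply, D.map_uM]
    exact hk

end Main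

end Cfsg.Agent.J3Type.RankOneField
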