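import Mathlib
import Cfsg.Agent.J3Type.RankOneField

set_option autoImplicit false

/-!
# `L₂(16):2` from a regular torus of order 15 and one relation
-/

namespace Cfsg.Agent.J3Type.L216

open Cfsg.Agent.J3Type

section Basic

variable {G : Type*} [Group G]

/-- If `w` centralises the element `y` of the torus, contradiction. -/
theorem no_centralize (A T : Subgroup G) (w x y g : G)
    (hA : ∀ a ∈ A, ∀ b ∈ A, a * b = b * a) (hA2 : ∀ a ∈ A, a * a = 1)
    (hTA : ∀ h ∈ T, ∀ a ∈ A, h * a * h⁻¹ ∈ A)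
    (hx : x ∈ A) (hreg : ∀ a ∈ A, a ≠ 1 → ∃ h ∈ T, h * x * h⁻¹ = a)
    (hw : w * w = 1) (hwT : ∀ h ∈ T, w * h * w ∈ T) (hyT : y ∈ T)
    (hrel : w * x * w = x * w * x) (hwy : w * y = y * w) (hyx : y * x ≠ x * y)
    (hgT : g ∈ T) (hg3 : g ^ 3 = 1) (hg1 : g ≠ 1) (hwg : w * g * w = g⁻¹) : False := by
  have hxx : x * x = 1 := hA2 x hx
  have hxi : x⁻¹ = x := inv_eq_of_mul_eq_one_left hxx
  have hwi : w⁻¹ = w := inv_eq_of_mul_eq_one_left hw
  -- `w ∉ A`
  have hwA : w ∉ A := by
    intro hwA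
    have h1 : w * (g * w⁻¹ * g⁻¹) ∈ A := A.mul_mem hwA (hTA g hgT _ (A.inv_mem hwA))
    have h2 : w * (g * w⁻¹ * g⁻¹) = g := by
      rw [hwi]
      calc w * (g * w * g⁻¹) = (w * g * w) * g⁻¹ := by group
        _ = g⁻¹ * g⁻¹ := by rw [hwg]
        _ = g⁻¹ * g⁻¹ * g ^ 3 := by rw [hg3, mul_one]
        _ = g := by group
    rw [h2] at h1
    have h3 := hA2 g h1
    apply hg1
    calc g = g ^ 3 * (g * g)⁻¹ := by group
      _ = 1 := by rw [hg3, h3]; simp
  -- `w a w ∉ A` for `a ∈ A#`
  have hkey : ∀ a ∈ A, a ≠ 1 → w * a * w ∉ A := by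
    intro a ha ha1 hwa
    obtain ⟨h, hh, rfl⟩ := hreg a ha ha1
    have hτ := hwT h hh
    have e : w * (h * x * h⁻¹) * w = (w * h * w) * (x * w * x) * (w * h * w)⁻¹ := by
      rw [← hrel]
      have : (w * h * w)⁻¹ = w * h⁻¹ * w := by
        rw [mul_inv_rev, mul_inv_rev, hwi]; group
      rw [this]
      calc w * (h * x * h⁻¹) * w = w * h * 1 * x * 1 * h⁻¹ * w := by group
        _ = w * h * (w * w) * x * (w * w) * h⁻¹ * w := by rw [hw]
        _ = _ := by group
    rw [e] at hwa
    have h2 := hTA _ (T.inv_mem hτ) _ hwa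
    have h3 : x * w * x ∈ A := by
      convert h2 using 1
      group
    apply hwA
    have h4 := A.mul_mem (A.mul_mem hx h3) hx
    convert h4 using 1
    calc w = 1 * w * 1 := by group
      _ = (x * x) * w * (x * x) := by rw [hxx]
      _ = _ := by group
  -- `w = (x w) x (x w)⁻¹`
  have hwe : (x * w) * x * (w * x) = w := by
    calc (x * w) * x * (w * x) = x * (w * x * w) * x := by group
      _ = x * (x * w * x) * x := by rw [hrel]
      _ = (x * x) * w * (x * x) := by group
      _ = w := by rw [hxx]; group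
  -- z commutes with x
  set z := (w * x) * y * (x * w) with hz
  have hzx : z * x = x * z := by
    have e1 : y * ((x * w) * x * (w * x)) = ((x * w) * x * (w * x)) * y := by rw [hwe, hwy]
    calc z * x = (w * x) * (y * ((x * w) * x * (w * x))) * (x * w) := by
          rw [hz]
          calc (w * x) * y * (x * w) * x = (w * x) * y * (x * w) * x * 1 := by group
            _ = (w * x) * y * (x * w) * x * (w * (x * x) * w) := by rw [hxx, mul_one w, hw]
            _ = _ := by group
      _ = (w * x) * (((x * w) * x * (w * x)) * y) * (x * w) := by rw [e1]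
      _ = w * (x * x) * w * x * ((w * x) * y * (x * w)) := by group
      _ = x * z := by rw [hxx, mul_one, hw, one_mul, hz]
  -- u
  set u := y⁻¹ * x * y * x with hu
  have huA : u ∈ A := by
    have := hTA _ (T.inv_mem hyT) x hx
    rw [inv_inv] at this
    exact A.mul_mem this hx
  have hu1 : u ≠ 1 := by
    intro h
    apply hyx
    have h2 : y⁻¹ * x * y = x⁻¹ := by
      rw [hu] at h
      exact eq_inv_of_mul_eq_one_left h
    rw [hxi] at h2
    calc y * x = y * (y⁻¹ * x * y) := by rw [h2]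
      _ = x * y := by group
  have hzu : z = y * (w * u * w) := by
    rw [hz, hu]
    calc w * x * y * (x * w) = w * (y * y⁻¹) * x * y * x * w := by group
      _ = (w * y) * (y⁻¹ * x * y * x) * w := by group
      _ = (y * w) * (y⁻¹ * x * y * x) * w := by rw [hwy]
      _ = _ := by group
  obtain ⟨h, hh, hhu⟩ := hreg u huA hu1
  set τ := w * h * w with hτ
  have hτT : τ ∈ T := hwT h hh
  have hτi : τ⁻¹ = w * h⁻¹ * w := by
    rw [hτ, mul_inv_rev, mul_inv_rev, hwi]; group
  have hwuw : w * u * w = τ * (x * w * x) * τ⁻¹ := by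
    rw [← hhu, ← hrel, hτi, hτ]
    calc w * (h * x * h⁻¹) * w = w * h * 1 * x * 1 * h⁻¹ * w := by group
      _ = w * h * (w * w) * x * (w * w) * h⁻¹ * w := by rw [hw]
      _ = _ := by group
  -- a1
  have ha1 : τ⁻¹ * x * τ ∈ A := by
    have := hTA _ (T.inv_mem hτT) x hx
    rwa [inv_inv] at this
  have ha1ne : τ⁻¹ * x * τ ≠ 1 := by
    intro h0
    have hx1 : x = 1 := by
      calc x = τ * (τ⁻¹ * x * τ) * τ⁻¹ := by group
        _ = 1 := by rw [h0]; group
    apply hyx
    rw [hx1]; group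
  apply hkey _ ha1 ha1ne
  -- w (τ⁻¹ x τ) w = (y τ x)⁻¹ x (y τ x)
  have hyτ : y * τ ∈ T := T.mul_mem hyT hτT
  have h5 : (y * τ)⁻¹ * x * (y * τ) ∈ A := by
    have := hTA _ (T.inv_mem hyτ) x hx
    rwa [inv_inv] at this
  have h6 : x * ((y * τ)⁻¹ * x * (y * τ)) * x ∈ A := A.mul_mem (A.mul_mem hx h5) hx
  convert h6 using 1
  have hzz : z = (y * τ) * x * w * x * τ⁻¹ := by
    rw [hzu, hwuw]; group
  rw [hzz] at hzx
  -- hzx : yτ x w x τ⁻¹ x = x yτ x w x τ⁻¹
  have hcomm : x * (τ⁻¹ * x * τ) = (τ⁻¹ * x * τ) * x := hA _ hx _ ha1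
  have e3 : x * τ⁻¹ * x * τ * x = τ⁻¹ * x * τ := by
    calc x * τ⁻¹ * x * τ * x = (x * (τ⁻¹ * x * τ)) * x := by group
      _ = (τ⁻¹ * x * τ) * (x * x) := by rw [hcomm]; group
      _ = _ := by rw [hxx, mul_one]
  calc w * (τ⁻¹ * x * τ) * w = w * (x * τ⁻¹ * x * τ * x) * w := by rw [e3]
    _ = 1 * w * (x * τ⁻¹ * x * τ * x) * w := by group
    _ = (x * x) * w * (x * τ⁻¹ * x * τ * x) * w := by rw [hxx]
    _ = x * (y * τ)⁻¹ * ((y * τ) * x * w * x * τ⁻¹ * x) * τ * x * w := by group
    _ = x * (y * τ)⁻¹ * (x * ((y * τ) * x * w * x * τ⁻¹)) * τ * x * w := by rw [hzx]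
    _ = x * (y * τ)⁻¹ * x * (y * τ) * x * w * (x * x) * w := by group
    _ = x * (y * τ)⁻¹ * x * (y * τ) * x * (w * w) := by rw [hxx]; group
    _ = x * ((y * τ)⁻¹ * x * (y * τ)) * x := by rw [hw]; group

end Basic

section Main

theorem mod5_aux (k : ℕ) (hkk : k * k % 5 = 1) : k % 5 = 1 ∨ k % 5 = 4 := by
  have h5 : k % 5 < 5 := Nat.mod_lt _ (by norm_num)
  rw [Nat.mul_mod] at hkk
  generalize k % 5 = m at *
  interval_cases m <;> simp_all

/-- The final step: `L₂(16):2`. -/
theorem exists_L216 {G : Type*} [Group G] [Finite G] (A : Subgroup G) (g y φ w x : G)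
    (hcard : Nat.card A = 16)
    (hA : ∀ a ∈ A, ∀ b ∈ A, a * b = b * a) (hA2 : ∀ a ∈ A, a * a = 1)
    (hg : orderOf g = 3) (hy : orderOf y = 5) (hφ : orderOf φ = 2)
    (hgy : g * y = y * g) (hgφ : g * φ = φ * g) (hφy : φ * y * φ⁻¹ = y⁻¹)
    (hN : ∀ a ∈ A, g * a * g⁻¹ ∈ A ∧ y * a * y⁻¹ ∈ A ∧ φ * a * φ⁻¹ ∈ A)
    (htrans : ∀ a ∈ A, ∀ b ∈ A, a ≠ 1 → b ≠ 1 →
      ∃ i < 3, ∃ j < 5, (g ^ i * y ^ j) * a * (g ^ i * y ^ j)⁻¹ = b)
    (hw : w * w = 1) (hwφ : w * φ = φ * w) (hwg : w * g * w⁻¹ = g⁻¹)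
    (hwy : ∃ k : ℕ, w * y * w⁻¹ = y ^ k)
    (hx : x ∈ A) (hx1 : x ≠ 1) (hwx : (w * x) ^ 3 = 1) :
    ∃ (H : Subgroup G) (N : Subgroup H) (K : Type) (_ : Field K) (_ : Fintype K),
      N.Normal ∧ N.index = 2 ∧ Fintype.card K = 16 ∧
      Nonempty (N ≃* Matrix.SpecialLinearGroup (Fin 2) K) := by
  classical
  have hg3 : g ^ 3 = 1 := by rw [← hg]; exact pow_orderOf_eq_one g
  have hy5 : y ^ 5 = 1 := by rw [← hy]; exact pow_orderOf_eq_one y
  have hwi : w⁻¹ = w := inv_eq_of_mul_eq_one_left hw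
  have hxx : x * x = 1 := hA2 x hx
  have hxi : x⁻¹ = x := inv_eq_of_mul_eq_one_left hxx
  have hcomm : Commute g y := hgy
  set T : Subgroup G := Subgroup.zpowers (g * y) with hTdef
  have ho : orderOf (g * y) = 15 := by
    rw [hcomm.orderOf_mul_eq_mul_orderOf_of_coprime (by rw [hg, hy]; norm_num), hg, hy]
  have hTcard : Nat.card T = 15 := by rw [hTdef, Nat.card_zpowers, ho]
  have hgT : g ∈ T := by
    have : (g * y) ^ 10 = g := by
      rw [hcomm.mul_pow]
      calc g ^ 10 * y ^ 10 = (g ^ 3) ^ 3 * g * (y ^ 5) ^ 2 := by group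
        _ = g := by rw [hg3, hy5]; group
    rw [← this]
    exact Subgroup.npow_mem_zpowers _ _
  have hyT : y ∈ T := by
    have : (g * y) ^ 6 = y := by
      rw [hcomm.mul_pow]
      calc g ^ 6 * y ^ 6 = (g ^ 3) ^ 2 * ((y ^ 5) * y) := by group
        _ = y := by rw [hg3, hy5]; group
    rw [← this]
    exact Subgroup.npow_mem_zpowers _ _
  have hT : ∀ a ∈ T, ∀ b ∈ T, a * b = b * a := by
    rintro _ ⟨i, rfl⟩ _ ⟨j, rfl⟩
    change (g * y) ^ i * (g * y) ^ j = (g * y) ^ j * (g * y) ^ i
    rw [← zpow_add, ← zpow_add, add_comm]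
  have hgN : g ∈ Subgroup.normalizer (A : Set G) :=
    Subgroup.mem_normalizer_fintype fun a ha => (hN a ha).1
  have hyN : y ∈ Subgroup.normalizer (A : Set G) :=
    Subgroup.mem_normalizer_fintype fun a ha => (hN a ha).2.1
  have hφN : φ ∈ Subgroup.normalizer (A : Set G) :=
    Subgroup.mem_normalizer_fintype fun a ha => (hN a ha).2.2
  have hTN : T ≤ Subgroup.normalizer (A : Set G) := by
    rw [hTdef, Subgroup.zpowers_le]
    exact Subgroup.mul_mem _ hgN hyN
  have hTA : ∀ h ∈ T, ∀ a ∈ A, h * a * h⁻¹ ∈ A := by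
    intro h hh a ha
    exact ((Subgroup.mem_normalizer_iff).mp (hTN hh) a).mp ha
  have hreg : ∀ a ∈ A, a ≠ 1 → ∃ h ∈ T, h * x * h⁻¹ = a := by
    intro a ha ha1
    obtain ⟨i, _, j, _, e⟩ := htrans x hx a ha hx1 ha1
    exact ⟨g ^ i * y ^ j, T.mul_mem (T.pow_mem hgT _) (T.pow_mem hyT _), e⟩
  -- injectivity by counting
  have hinj : ∀ h ∈ T, h * x = x * h → h = 1 := by
    let X := {a : A // a ≠ 1}
    let f : T → X := fun h => ⟨⟨h * x * (h : G)⁻¹, hTA h h.2 x hx⟩, by
      intro h0
      apply hx1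
      have h1 : (h : G) * x * (h : G)⁻¹ = 1 := congrArg Subtype.val h0
      calc x = (h : G)⁻¹ * ((h : G) * x * (h : G)⁻¹) * h := by group
        _ = 1 := by rw [h1]; group⟩
    have hfs : Function.Surjective f := by
      rintro ⟨⟨a, ha⟩, ha1⟩
      have ha1' : a ≠ 1 := fun h => ha1 (Subtype.ext h)
      obtain ⟨h, hh, e⟩ := hreg a ha ha1'
      refine ⟨⟨h, hh⟩, ?_⟩
      apply Subtype.ext
      apply Subtype.ext
      exact e
    have hXc : Nat.card X = 15 := by
      haveI : Fintype A := Fintype.ofFinite A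
      have h1 : Fintype.card {a : A // a ≠ 1} = Fintype.card A - Fintype.card {a : A // a = 1} :=
        Fintype.card_subtype_compl _
      rw [Fintype.card_subtype_eq] at h1
      rw [Nat.card_eq_fintype_card, h1, ← Nat.card_eq_fintype_card, hcard]
    have hfi : Function.Injective f := by
      have hbij : Function.Bijective f := by
        rw [Nat.bijective_iff_surjective_and_card]
        exact ⟨hfs, by rw [hTcard, hXc]⟩
      exact hbij.1
    intro h hh hc
    have h1 : f ⟨h, hh⟩ = f 1 := by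
      apply Subtype.ext
      apply Subtype.ext
      change h * x * h⁻¹ = ((1 : T) : G) * x * ((1 : T) : G)⁻¹
      rw [hc]
      simp
    exact congrArg Subtype.val (hfi h1)
  -- w acts on T
  obtain ⟨k, hk⟩ := hwy
  have hwgy : w * (g * y) * w⁻¹ = g⁻¹ * y ^ k := by
    calc w * (g * y) * w⁻¹ = (w * g * w⁻¹) * (w * y * w⁻¹) := by group
      _ = _ := by rw [hwg, hk]
  have hwT : ∀ h ∈ T, w * h * w ∈ T := by
    rintro _ ⟨n, rfl⟩
    change w * (g * y) ^ n * w ∈ T
    have : w * (g * y) ^ n * w = (w * (g * y) * w⁻¹) ^ n := by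
      rw [conj_zpow, hwi]
    rw [this, hwgy]
    exact T.zpow_mem (T.mul_mem (T.inv_mem hgT) (T.pow_mem hyT _)) _
  have hrel : w * x * w = x * w * x := by
    have h1 : (w * x * w) * (x * w * x) = 1 := by
      rw [← hwx, pow_succ, pow_two]; group
    have h2 : (x * w * x)⁻¹ = x * w * x := by
      rw [mul_inv_rev, mul_inv_rev, hxi, hwi]; group
    rw [← h2]
    exact eq_inv_of_mul_eq_one_left h1
  have hyk : y ^ (k * k) = y := by
    have h1 : w * (w * y * w⁻¹) * w⁻¹ = y := by
      calc w * (w * y * w⁻¹) * w⁻¹ = (w * w) * y * (w * w)⁻¹ := by group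
        _ = y := by rw [hw]; group
    rw [hk] at h1
    have h2 : w * y ^ k * w⁻¹ = (w * y * w⁻¹) ^ k := by rw [conj_pow]
    rw [h2, hk, ← pow_mul] at h1
    exact h1
  have hkk : k * k % 5 = 1 := by
    have h1 : y ^ (k * k) = y ^ 1 := by rw [hyk, pow_one]
    rw [pow_inj_mod, hy] at h1
    simpa using h1
  have hk5 : y ^ k = y ^ (k % 5) := by
    rw [← hy]; exact (pow_mod_orderOf y k).symm
  have hk14 : k % 5 = 1 ∨ k % 5 = 4 := mod5_aux k hkk
  have hg1 : g ≠ 1 := by
    intro h; rw [h, orderOf_one] at hg; norm_num at hg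
  have hy1 : y ≠ 1 := by
    intro h; rw [h, orderOf_one] at hy; norm_num at hy
  rcases hk14 with hk1 | hk4
  · -- y centralised
    exfalso
    rw [hk5, hk1, pow_one] at hk
    have hwy' : w * y = y * w := by
      rw [mul_inv_eq_iff_eq_mul] at hk; exact hk
    have hwg' : w * g * w = g⁻¹ := by rw [← hwg, hwi]
    exact no_centralize A T w x y g hA hA2 hTA hx hreg hw hwT hyT hrel hwy'
      (fun h => hy1 (hinj y hyT h)) hgT hg3 hg1 hwg'
  · -- w inverts T
    have hky : w * y * w⁻¹ = y⁻¹ := by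
      rw [hk, hk5, hk4]
      apply eq_inv_of_mul_eq_one_left
      rw [← pow_succ, hy5]
    have hwT' : ∀ h ∈ T, w * h * w = h⁻¹ := by
      rintro _ ⟨n, rfl⟩
      change w * (g * y) ^ n * w = ((g * y) ^ n)⁻¹
      have h1 : w * (g * y) ^ n * w = (w * (g * y) * w⁻¹) ^ n := by
        rw [conj_zpow, hwi]
      have h2 : w * (g * y) * w⁻¹ = (g * y)⁻¹ := by
        calc w * (g * y) * w⁻¹ = (w * g * w⁻¹) * (w * y * w⁻¹) := by group
          _ = g⁻¹ * y⁻¹ := by rw [hwg, hky]
          _ = (y * g)⁻¹ := by rw [mul_inv_rev]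
          _ = _ := by rw [hgy]
      rw [h1, h2, inv_zpow]
    have hne : ∃ h ∈ T, h * h ≠ 1 := by
      refine ⟨g, hgT, ?_⟩
      intro h
      apply hg1
      calc g = g ^ 3 * (g * g)⁻¹ := by group
        _ = 1 := by rw [hg3, h]; group
    let K := GaloisField 2 4
    haveI : Fintype K := Fintype.ofFinite K
    have hK : Fintype.card K = 16 := by
      rw [← Nat.card_eq_fintype_card]
      have := GaloisField.card 2 4 (by norm_num)
      rw [this]; norm_num
    obtain ⟨f, hfi, hfr, hfT, hfT', hfA, hfA'⟩ := RankOneField.exists_SL2 A T w x hA hA2 hT hTA hx hx1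
      hreg hinj hw hwT' hne hrel K (by rw [hK, hTcard])
    set L := f.range with hL
    have hAL : A ≤ L := by
      rw [hfr]; exact fun a ha => Subgroup.subset_closure (Or.inl (Or.inl ha))
    have hTL : T ≤ L := by
      rw [hfr]; exact fun a ha => Subgroup.subset_closure (Or.inl (Or.inr ha))
    have hwL : w ∈ L := by
      rw [hfr]; exact Subgroup.subset_closure (Or.inr rfl)
    -- φ normalises L
    have hφL : ∀ l ∈ L, φ * l * φ⁻¹ ∈ L := by
      intro l hl
      have hl' : l ∈ Subgroup.closure ((A : Set G) ∪ T ∪ {w}) := by rw [← hfr]; exact hl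
      induction hl' using Subgroup.closure_induction with
      | mem a ha =>
        rcases ha with (ha | ha) | ha
        · exact hAL (hN a ha).2.2
        · obtain ⟨n, rfl⟩ := ha
          change φ * (g * y) ^ n * φ⁻¹ ∈ L
          rw [← conj_zpow]
          have h2 : φ * (g * y) * φ⁻¹ = g * y⁻¹ := by
            calc φ * (g * y) * φ⁻¹ = (φ * g) * y * φ⁻¹ := by group
              _ = (g * φ) * y * φ⁻¹ := by rw [hgφ]
              _ = g * (φ * y * φ⁻¹) := by group
              _ = _ := by rw [hφy]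
          rw [h2]
          exact L.zpow_mem (L.mul_mem (hTL hgT) (L.inv_mem (hTL hyT))) _
        · have ha' : a = w := ha
          rw [ha', ← hwφ]
          have : w * φ * φ⁻¹ = w := by group
          rw [this]; exact hwL
      | one => simp
      | mul a b ha hb iha ihb =>
        have ha' : a ∈ L := by rw [hfr]; exact ha
        have hb' : b ∈ L := by rw [hfr]; exact hb
        have : φ * (a * b) * φ⁻¹ = (φ * a * φ⁻¹) * (φ * b * φ⁻¹) := by group
        rw [this]
        exact L.mul_mem (iha ha') (ihb hb')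
      | inv a ha iha =>
        have ha' : a ∈ L := by rw [hfr]; exact ha
        have : φ * a⁻¹ * φ⁻¹ = (φ * a * φ⁻¹)⁻¹ := by group
        rw [this]
        exact L.inv_mem (iha ha')
    have hφφ : φ * φ = 1 := by
      have := pow_orderOf_eq_one φ
      rwa [hφ, pow_two] at this
    have hφ1 : φ ≠ 1 := by
      intro h; rw [h, orderOf_one] at hφ; norm_num at hφ
    -- φ ∉ L
    have hφnL : φ ∉ L := by
      rintro ⟨M, hM⟩
      obtain ⟨t, ht⟩ := hfT' g hgT
      have hc : M * RankOneSL2.SL2Data.hM t = RankOneSL2.SL2Data.hM t * M := by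
        apply hfi
        rw [map_mul, map_mul, ht, hM, hgφ]
      have ht2 : (t : K) * t ≠ 1 := by
        intro h
        have ht1 : t * t = 1 := Units.ext h
        have h1 : RankOneSL2.SL2Data.hM t * RankOneSL2.SL2Data.hM t = 1 := by
          apply Subtype.ext
          change !![(t : K), 0; 0, ((t⁻¹ : Kˣ) : K)] * !![(t : K), 0; 0, ((t⁻¹ : Kˣ) : K)]
            = (1 : Matrix (Fin 2) (Fin 2) K)
          rw [Matrix.mul_fin_two, Matrix.one_fin_two]
          have h3 : ((t⁻¹ : Kˣ) : K) * ((t⁻¹ : Kˣ) : K) = 1 := by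
            rw [← Units.val_mul, ← mul_inv, ht1]; simp
          simp only [mul_zero, zero_mul, add_zero, zero_add, h, h3]
        have h2 : g * g = 1 := by rw [← ht, ← map_mul, h1, map_one]
        apply hg1
        calc g = g ^ 3 * (g * g)⁻¹ := by group
          _ = 1 := by rw [hg3, h2]; group
      have h01 : M.1 0 1 = 0 := by
        have h : (M * RankOneSL2.SL2Data.hM t).1 0 1 = (RankOneSL2.SL2Data.hM t * M).1 0 1 := by
          rw [hc]
        rw [RankOneSL2.SL2Data.mul_entry, RankOneSL2.SL2Data.mul_entry] at h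
        have h' : M.1 0 0 * 0 + M.1 0 1 * ((t⁻¹ : Kˣ) : K) = (t : K) * M.1 0 1 + 0 * M.1 1 1 := h
        rw [mul_zero, zero_add, zero_mul, add_zero, Units.val_inv_eq_inv_val] at h'
        have ht0 : (t : K) ≠ 0 := t.ne_zero
        have h'' : M.1 0 1 * ((t : K) * t - 1) = 0 := by
          have h3 : M.1 0 1 * (t : K)⁻¹ * t = (t : K) * M.1 0 1 * t := by rw [h']
          rw [inv_mul_cancel_right₀ ht0] at h3
          linear_combination -h3
        rcases mul_eq_zero.mp h'' with h3 | h3
        · exact h3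
        · exact absurd (sub_eq_zero.mp h3) ht2
      have h10 : M.1 1 0 = 0 := by
        have h : (M * RankOneSL2.SL2Data.hM t).1 1 0 = (RankOneSL2.SL2Data.hM t * M).1 1 0 := by
          rw [hc]
        rw [RankOneSL2.SL2Data.mul_entry, RankOneSL2.SL2Data.mul_entry] at h
        have h' : M.1 1 0 * (t : K) + M.1 1 1 * 0 = 0 * M.1 0 0 + ((t⁻¹ : Kˣ) : K) * M.1 1 0 := h
        rw [mul_zero, zero_mul, zero_add, add_zero, Units.val_inv_eq_inv_val] at h'
        have ht0 : (t : K) ≠ 0 := t.ne_zero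
        have h'' : M.1 1 0 * ((t : K) * t - 1) = 0 := by
          have h3 : M.1 1 0 * (t : K) * t = (t : K)⁻¹ * M.1 1 0 * t := by rw [h']
          have h4 : (t : K)⁻¹ * M.1 1 0 * t = M.1 1 0 := by
            rw [mul_comm (t : K)⁻¹, inv_mul_cancel_right₀ ht0]
          rw [h4] at h3
          linear_combination h3
        rcases mul_eq_zero.mp h'' with h3 | h3
        · exact h3
        · exact absurd (sub_eq_zero.mp h3) ht2
      have hdet := RankOneSL2.SL2Data.det_eq M
      rw [h01, zero_mul, sub_zero] at hdet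
      have h00 : M.1 0 0 ≠ 0 := by intro h; rw [h, zero_mul] at hdet; exact zero_ne_one hdet
      have hMeq : M = RankOneSL2.SL2Data.hM (Units.mk0 _ h00) := by
        apply Subtype.ext
        change M.1 = !![((Units.mk0 (M.1 0 0) h00 : Kˣ) : K), 0; 0,
          (((Units.mk0 (M.1 0 0) h00)⁻¹ : Kˣ) : K)]
        conv_lhs => rw [Matrix.eta_fin_two M.1]
        have hd : M.1 1 1 = (M.1 0 0)⁻¹ := eq_inv_of_mul_eq_one_right hdet
        rw [h01, h10, hd]
        simp
      have hφT : φ ∈ T := by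
        rw [← hM, hMeq]; exact hfT _
      have h15 : φ ^ 15 = 1 := by
        have := pow_card_eq_one' (x := (⟨φ, hφT⟩ : T))
        rw [hTcard] at this
        exact congrArg Subtype.val this
      apply hφ1
      calc φ = (φ * φ) ^ 7 * φ := by rw [hφφ]; simp
        _ = φ ^ 15 := by rw [← pow_two, ← pow_mul, ← pow_succ]
        _ = 1 := h15
    -- the subgroup H
    set H : Subgroup G := L ⊔ Subgroup.zpowers φ with hH
    have hLH : L ≤ H := le_sup_left
    have hφH : φ ∈ H := (le_sup_right : Subgroup.zpowers φ ≤ H) (Subgroup.mem_zpowers φ)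
    have hφLn : φ ∈ Subgroup.normalizer (L : Set G) :=
      Subgroup.mem_normalizer_fintype fun a ha => hφL a ha
    have hHn : H ≤ Subgroup.normalizer (L : Set G) := by
      rw [hH, sup_le_iff]
      refine ⟨Subgroup.le_normalizer, ?_⟩
      rw [Subgroup.zpowers_le]
      exact hφLn
    have hHmem : ∀ b ∈ H, b ∈ L ∨ b * φ ∈ L := by
      intro b hb
      have hb' : b ∈ Subgroup.closure ((L : Set G) ∪ {φ}) := by
        have : H ≤ Subgroup.closure ((L : Set G) ∪ {φ}) := by
          rw [hH, sup_le_iff]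
          refine ⟨fun a ha => Subgroup.subset_closure (Or.inl ha), ?_⟩
          rw [Subgroup.zpowers_le]
          exact Subgroup.subset_closure (Or.inr rfl)
        exact this hb
      have hφi : φ⁻¹ = φ := inv_eq_of_mul_eq_one_left hφφ
      have hφL' : ∀ l ∈ L, φ * l * φ ∈ L := by
        intro l hl
        have := hφL l hl
        rwa [hφi] at this
      clear hb
      induction hb' using Subgroup.closure_induction with
      | mem a ha =>
        rcases ha with ha | ha
        · exact Or.inl ha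
        · have ha' : a = φ := ha
          right; rw [ha', hφφ]; exact L.one_mem
      | one => exact Or.inl L.one_mem
      | mul a b _ _ iha ihb =>
        rcases iha with ha | ha <;> rcases ihb with hb | hb
        · exact Or.inl (L.mul_mem ha hb)
        · right; rw [mul_assoc]; exact L.mul_mem ha hb
        · right
          have : a * b * φ = (a * φ) * (φ * b * φ) := by
            calc a * b * φ = a * 1 * b * φ := by group
              _ = a * (φ * φ) * b * φ := by rw [hφφ]
              _ = _ := by group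
          rw [this]; exact L.mul_mem ha (hφL' b hb)
        · left
          have : a * b = (a * φ) * (φ * (b * φ) * φ) := by
            calc a * b = a * 1 * b * 1 := by group
              _ = a * (φ * φ) * b * (φ * φ) := by rw [hφφ]
              _ = _ := by group
          rw [this]; exact L.mul_mem ha (hφL' _ hb)
      | inv a _ iha =>
        rcases iha with ha | ha
        · exact Or.inl (L.inv_mem ha)
        · right
          have : a⁻¹ * φ = φ * (a * φ)⁻¹ * φ := by
            rw [mul_inv_rev, hφi]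
            calc a⁻¹ * φ = 1 * a⁻¹ * φ := by group
              _ = (φ * φ) * a⁻¹ * φ := by rw [hφφ]
              _ = _ := by group
          rw [this]; exact hφL' _ (L.inv_mem ha)
    refine ⟨H, L.subgroupOf H, K, inferInstance, inferInstance, ?_, ?_, hK, ?_⟩
    · exact (Subgroup.normal_subgroupOf_iff_le_normalizer hLH).mpr hHn
    · change L.relIndex H = 2
      rw [Subgroup.relIndex_eq_two_iff_exists_notMem_and]
      refine ⟨φ, hφH, hφnL, ?_⟩
      intro b hb
      exact (hHmem b hb).symm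
    · exact ⟨(Subgroup.subgroupOfEquivOfLe hLH).trans (MonoidHom.ofInjective hfi).symm⟩

end Main

end Cfsg.Agent.J3Type.L216
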