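import Mathlib
import Cfsg.Agent.J3Type.FarPairs
import Cfsg.Agent.J3Type.CubeRel
import Cfsg.Agent.J3Type.CThree
import Cfsg.Agent.J3Type.ExistsW
import Cfsg.Agent.J3Type.L216

set_option autoImplicit false

/-!
# `L₂(16):2` in groups with one class of involutions
-/

namespace Cfsg.Agent.J3Type.Assembly

open Cfsg.Agent.J2Type.Model Cfsg.Agent.J2Type.SPFacts Cfsg.Agent.J2Type.CStruct
open Cfsg.Agent.J3Type.OneClass Cfsg.Agent.J3Type.NormA Cfsg.Agent.J3Type.FarPairs

variable {G : Type*} [Group G] [Finite G]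

theorem comm_of_sq {A : Subgroup G} (h : ∀ a ∈ A, a * a = 1) : ∀ a ∈ A, ∀ b ∈ A, a * b = b * a := by
  intro a ha b hb
  have h1 := h _ (A.mul_mem ha hb)
  have h2 := h a ha
  have h3 := h b hb
  calc a * b = (a * b) * 1 := by group
    _ = (a * b) * ((a * a) * (b * b)) := by rw [h2, h3]; group
    _ = (a * (b * a)) * a * (b * b) := by group
    _ = (a * (b * a)) * 1 * (a * (b * b)) := by group
    _ = (a * (b * a)) * ((a * b) * (a * b)) * (a * (b * b)) := by rw [h1]
    _ = (a * b) * (a * a) * b * a * b * a * (b * b) := by group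
    _ = (a * b) * b * a * b * a * (b * b) := by rw [h2]; group
    _ = a * (b * b) * a * b * a * (b * b) := by group
    _ = b * a := by rw [h3]; simp only [mul_one]; rw [h2]; group

/-- Main assembly. -/
theorem main (hone : ∀ s r : G, orderOf s = 2 → orderOf r = 2 → IsConj s r) (hS : AllSplit G)
    (t : G) (ht : orderOf t = 2) :
    ∃ (H : Subgroup G) (N : Subgroup H) (K : Type) (_ : Field K) (_ : Fintype K),
      N.Normal ∧ N.index = 2 ∧ Fintype.card K = 16 ∧
      Nonempty (N ≃* Matrix.SpecialLinearGroup (Fin 2) K) := by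
  -- a far pair
  obtain ⟨hc, Q, v, ρ, M, u, hu, huQ⟩ := hS t ht
  have hu1 : (u : G) ≠ 1 := by
    intro h
    apply huQ
    have : u = 1 := Subtype.ext h
    rw [this]; exact Q.one_mem
  have huo : orderOf (u : G) = 2 := orderOf_eq_two (congrArg Subtype.val hu) hu1
  have hut : (u : G) * t = t * u := Subgroup.mem_centralizer_singleton_iff.1 u.2
  have hfar : far t (u : G) := (far_iff ht huo hc M hut).2 huQ
  -- P2
  have hP2 := P2 hone (far_conj hS hone) (far_sq hS) (far_V hS) (far_near hS) t u hfar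
  set A : Subgroup G := Subgroup.centralizer ({t} : Set G) ⊓ Subgroup.centralizer ({(u : G)} : Set G)
    with hAdef
  obtain ⟨-, g, y, φ, hg, hy, hφ, hgy, hgφ, hφy, hN, hφA, hgfix, htrans, hV⟩ := hP2
  have hAcard : Nat.card A = 16 := hfar.2.2.2
  have hA2 : ∀ a ∈ A, a * a = 1 := by
    intro a ha
    exact far_sq hS t u a hfar (Subgroup.mem_centralizer_singleton_iff.1 ha.1)
      (Subgroup.mem_centralizer_singleton_iff.1 ha.2)
  have hAc : ∀ a ∈ A, ∀ b ∈ A, a * b = b * a := comm_of_sq hA2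
  have hφφ : φ * φ = 1 := sq_one_of_orderOf hφ
  have hφi : φ⁻¹ = φ := inv_eq_of_mul_eq_one_left hφφ
  have hφ1 : φ ≠ 1 := ne_one_of_orderOf hφ
  -- the centraliser of φ
  obtain ⟨hcφ, Qφ, vφ, ρφ, Mφ, uφ, huφ, huφQ⟩ := hS φ hφ
  -- the inverting element
  let gC : Subgroup.centralizer ({φ} : Set G) := toC hgφ
  have hgC : orderOf gC = 3 := by
    rw [← hg]; exact (Subgroup.orderOf_mk g _)
  obtain ⟨n, hn⟩ := CThree.exists_inverting Mφ hcφ hgC
  have hnφ : (n : G) * φ = φ * n := Subgroup.mem_centralizer_singleton_iff.1 n.2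
  have hng : (n : G) * g * (n : G)⁻¹ = g⁻¹ := congrArg Subtype.val hn
  have hD : ∀ s : G, orderOf s = 2 → s * g = g * s → ∃ D : Subgroup G,
      Nonempty (D ≃* DihedralGroup 4) ∧ (∀ d ∈ D, d * s = s * d ∧ d * g = g * d) ∧
      ∀ c : G, c * s = s * c → c * g = g * c → ∃ d ∈ D, ∃ k : ℕ, c = d * g ^ k := by
    intro s hs hsg
    obtain ⟨hcs, Qs, vs, ρs, Ms, -⟩ := hS s hs
    let gs : Subgroup.centralizer ({s} : Set G) := toC hsg.symm
    have hgs : orderOf gs = 3 := by
      rw [← hg]; exact (Subgroup.orderOf_mk g _)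
    obtain ⟨D, ⟨e⟩, hD1, hD2⟩ := CThree.exists_D Ms hcs hgs
    refine ⟨D.map (Subgroup.centralizer ({s} : Set G)).subtype, ⟨?_⟩, ?_, ?_⟩
    · exact ((Subgroup.equivMapOfInjective D _ (Subgroup.subtype_injective _)).symm).trans e
    · rintro _ ⟨d, hd, rfl⟩
      exact ⟨Subgroup.mem_centralizer_singleton_iff.1 d.2, congrArg Subtype.val (hD1 d hd)⟩
    · intro c hcs' hcg
      obtain ⟨d, hd, k, hk⟩ := hD2 (toC hcs') (Subtype.ext hcg)
      refine ⟨d, ⟨d, hd, rfl⟩, k, ?_⟩
      have := congrArg Subtype.val hk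
      exact this
  obtain ⟨-, w, hwφ, hwg, ⟨k, hwy⟩, hww⟩ := ExistsW.exists_w g y φ n hg hy hφ hgy hgφ hφy hnφ hng hD
  -- an element x of A# commuting with φ
  obtain ⟨x, hxA, hx1, hxφ⟩ : ∃ x ∈ A, x ≠ 1 ∧ x * φ = φ * x := by
    -- take t * (φ t φ⁻¹) if ≠ 1, else t
    have htA : t ∈ A := ⟨Subgroup.mem_centralizer_singleton_iff.2 rfl,
      Subgroup.mem_centralizer_singleton_iff.2 hut.symm⟩
    by_cases h : t * φ = φ * t
    · exact ⟨t, htA, ne_one_of_orderOf ht, h⟩
    · refine ⟨t * (φ * t * φ⁻¹), A.mul_mem htA (hN t htA).2.2, ?_, ?_⟩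
      · intro h1
        apply h
        have h2 : φ * t * φ⁻¹ = t := by
          rw [← inv_eq_of_mul_eq_one_right h1]
          exact inv_eq_of_mul_eq_one_left (sq_one_of_orderOf ht)
        rw [mul_inv_eq_iff_eq_mul] at h2
        exact h2.symm
      · have hcm := hAc t htA _ (hN t htA).2.2
        rw [hφi] at hcm ⊢
        calc t * (φ * t * φ) * φ = t * φ * t * (φ * φ) := by group
          _ = 1 * (t * φ * t) := by rw [hφφ]; group
          _ = (φ * φ) * (t * φ * t) := by rw [hφφ]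
          _ = φ * ((φ * t * φ) * t) := by group
          _ = φ * (t * (φ * t * φ)) := by rw [hcm]
  have hgA : ∀ i : ℕ, ∀ a ∈ A, g ^ i * a * (g ^ i)⁻¹ ∈ A := by
    intro i
    induction i with
    | zero => intro a ha; simpa using ha
    | succ i ih =>
      intro a ha
      have := (hN _ (ih a ha)).1
      convert this using 1
      rw [pow_succ']; group
  -- structure of V'
  have hgx : g * x * g⁻¹ ∈ A := (hN x hxA).1
  have hgxφ : (g * x * g⁻¹) * φ = φ * (g * x * g⁻¹) := by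
    calc (g * x * g⁻¹) * φ = g * x * (g⁻¹ * φ) := by group
      _ = g * x * (φ * g⁻¹) := by
          have : g⁻¹ * φ = φ * g⁻¹ := by
            rw [inv_mul_eq_iff_eq_mul, ← mul_assoc, hgφ]; group
          rw [this]
      _ = g * (x * φ) * g⁻¹ := by group
      _ = (g * φ) * x * g⁻¹ := by rw [hxφ]; group
      _ = _ := by rw [hgφ]; group
  have hx2 : x * x = 1 := hA2 x hxA
  have hxi : x⁻¹ = x := inv_eq_of_mul_eq_one_left hx2
  have hxg : x * (g * x * g⁻¹) = g * g * x * g⁻¹ * g⁻¹ := by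
    have h1 : x * (g * x * g⁻¹) ∈ A := A.mul_mem hxA hgx
    have h2 : (x * (g * x * g⁻¹)) * φ = φ * (x * (g * x * g⁻¹)) := by
      rw [mul_assoc, hgxφ, ← mul_assoc, hxφ, mul_assoc]
    have h3 : x * (g * x * g⁻¹) ≠ 1 := by
      intro h4
      apply (hgfix x hxA hx1).1
      rw [← inv_eq_of_mul_eq_one_right h4, hxi]
    obtain ⟨i, hi, h5⟩ := hV x hxA hxφ hx1 _ h1 h2 h3
    interval_cases i
    · exfalso
      rw [pow_zero, inv_one, mul_one, one_mul] at h5
      have h6 : g * x * g⁻¹ = 1 := mul_eq_left.mp h5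
      apply hx1
      calc x = g⁻¹ * (g * x * g⁻¹) * g := by group
        _ = 1 := by rw [h6]; group
    · exfalso
      rw [pow_one] at h5
      exact hx1 (mul_eq_right.mp h5)
    · rw [h5, pow_two]; group
  -- x is far from φ
  have hxo : orderOf x = 2 := orderOf_eq_two hx2 hx1
  have hfx : ¬ (¬ far φ x) := by
    intro hnf
    have hnf' : ¬ far x φ := fun h => hnf (FarPairs.far_symm h)
    have hgx1 : g * x * g⁻¹ ≠ 1 := by
      intro h6
      apply hx1
      calc x = g⁻¹ * (g * x * g⁻¹) * g := by group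
        _ = 1 := by rw [h6]; group
    have hgxo : orderOf (g * x * g⁻¹) = 2 := orderOf_eq_two (hA2 _ hgx) hgx1
    rcases far_near hS x (g * x * g⁻¹) φ hxo hgxo hφ (hAc x hxA _ hgx) hxφ hgxφ
      (fun h => (hgfix x hxA hx1).1 h.symm) (fun h => hφA (h ▸ hxA)) (hgfix x hxA hx1).2 hnf' with h | h
    · exact hφA (h ▸ hgx)
    · exact hφA (h ▸ A.mul_mem hxA hgx)
  rw [not_not] at hfx
  have hxQ : toC hxφ ∉ Qφ := (far_iff hφ hxo hcφ Mφ hxφ).1 hfx
  -- P4
  have hP4 := CubeRel.cube Mφ hcφ huφ huφQ (g := gC) (w := toC hwφ) (x := toC hxφ) hgC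
    (by
      rcases hww with h | h
      · left; exact Subtype.ext h
      · right; exact Subtype.ext h)
    (Subtype.ext hwg) (Subtype.ext hx2) hxQ (Subtype.ext hxg)
  obtain ⟨hw2, i, hi, hcube⟩ := hP4
  have hw2' : w * w = 1 := congrArg Subtype.val hw2
  set xi := g ^ i * x * (g ^ i)⁻¹ with hxidef
  have hxiA : xi ∈ A := hgA i x hxA
  have hxi1 : xi ≠ 1 := by
    intro h6
    apply hx1
    calc x = (g ^ i)⁻¹ * (g ^ i * x * (g ^ i)⁻¹) * g ^ i := by group
      _ = 1 := by rw [← hxidef, h6]; group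
  rcases hcube with h | h
  · have h' : (w * xi) ^ 3 = 1 := congrArg Subtype.val h
    exact L216.exists_L216 A g y φ w xi hAcard hAc hA2 hg hy hφ hgy hgφ hφy hN htrans hw2' hwφ hwg
      ⟨k, hwy⟩ hxiA hxi1 h'
  · have h' : (φ * w * xi) ^ 3 = 1 := congrArg Subtype.val h
    refine L216.exists_L216 A g y φ (φ * w) xi hAcard hAc hA2 hg hy hφ hgy hgφ hφy hN htrans ?_ ?_ ?_
      ?_ hxiA hxi1 h'
    · calc φ * w * (φ * w) = φ * (w * φ) * w := by group
        _ = (φ * φ) * (w * w) := by rw [hwφ]; group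
        _ = 1 := by rw [hφφ, hw2', one_mul]
    · calc φ * w * φ = φ * (w * φ) := by group
        _ = φ * (φ * w) := by rw [hwφ]
    · calc φ * w * g * (φ * w)⁻¹ = φ * (w * g * w⁻¹) * φ⁻¹ := by group
        _ = φ * g⁻¹ * φ⁻¹ := by rw [hwg]
        _ = (φ * g * φ⁻¹)⁻¹ := by group
        _ = g⁻¹ := by rw [← hgφ]; group
    · refine ⟨4 * k, ?_⟩
      have hy5 : y ^ 5 = 1 := by rw [← hy]; exact pow_orderOf_eq_one y
      have hyi : y⁻¹ = y ^ 4 := by
        apply inv_eq_of_mul_eq_one_left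
        rw [← pow_succ, hy5]
      calc φ * w * y * (φ * w)⁻¹ = φ * (w * y * w⁻¹) * φ⁻¹ := by group
        _ = φ * y ^ k * φ⁻¹ := by rw [hwy]
        _ = (φ * y * φ⁻¹) ^ k := by rw [conj_pow]
        _ = (y ^ 4) ^ k := by rw [hφy, hyi]
        _ = y ^ (4 * k) := by rw [pow_mul]

end Cfsg.Agent.J3Type.Assembly
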