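import Cfsg.Agent.J3Type.Reduce
import Cfsg.Agent.J3Type.HasModelOf
import Cfsg.Agent.J3Type.Chain

/-!
# Non-central involutions of an extraspecial group of order 32 (helper940)
-/

set_option autoImplicit false

namespace Cfsg.Agent.J3Type.ExtInvol

open Cfsg.Agent.J3Type.Reduce

variable {C : Type*} [Group C] {E : Subgroup C} {t : C}

theorem sq_cases (h : Ext E t) (x : C) (hx : x ∈ E) : x * x = 1 ∨ x * x = t := by
  refine h.cen (x * x) (E.mul_mem hx hx) ?_
  intro y hy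
  have htt := t_sq h
  have hex : ∃ r : C, r * r = 1 ∧ (∀ a ∈ E, r * a = a * r) ∧ x * y = r * (y * x) := by
    rcases h.comm x hx y hy with h1 | h1
    · refine ⟨1, by group, fun a _ => by group, ?_⟩
      calc x * y = x * y * x⁻¹ * y⁻¹ * (y * x) := by group
        _ = 1 * (y * x) := by rw [h1]
    · refine ⟨t, htt, h.tc, ?_⟩
      calc x * y = x * y * x⁻¹ * y⁻¹ * (y * x) := by group
        _ = t * (y * x) := by rw [h1]
  obtain ⟨r, hr1, hr2, hr3⟩ := hex
  calc x * x * y = x * (x * y) := by group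
    _ = (x * r) * y * x := by rw [hr3]; group
    _ = r * (x * y) * x := by rw [← hr2 x hx]; group
    _ = (r * r) * y * x * x := by rw [hr3]; group
    _ = y * (x * x) := by rw [hr1]; group

/-- an involution of `E` different from `t` -/
theorem exists_invol (h : Ext E t) (hE : Nat.card E = 32) : ∃ r ∈ E, r * r = 1 ∧ r ≠ 1 ∧ r ≠ t := by
  by_contra hcon
  push Not at hcon
  -- a noncentral element
  obtain ⟨a, ha, b, hb, -, -, hab⟩ := exists_comm_ne h hE t h.mem
  obtain ⟨x, hx, y, hy, hxa, hya, hxy⟩ := exists_comm_ne h hE a ha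
  have hne : ∀ u : C, u ∈ E → (∃ v ∈ E, u * v * u⁻¹ * v⁻¹ = t) → u ≠ 1 ∧ u ≠ t := by
    rintro u hu ⟨v, hv, huv⟩
    constructor
    · rintro rfl
      apply h.ne; rw [← huv]; group
    · rintro rfl
      apply h.ne
      rw [← huv, h.tc v hv]; group
  have hsq : ∀ u : C, u ∈ E → (∃ v ∈ E, u * v * u⁻¹ * v⁻¹ = t) → u * u = t := by
    intro u hu hv
    obtain ⟨h1, h2⟩ := hne u hu hv
    rcases sq_cases h u hu with h3 | h3
    · exact absurd (hcon u hu h3 h1) h2
    · exact h3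
  have hxx := hsq x hx ⟨y, hy, hxy⟩
  have haa := hsq a ha ⟨b, hb, hab⟩
  have htt := t_sq h
  have h4 : (x * a) * (x * a) = 1 := by
    calc (x * a) * (x * a) = x * (a * x) * a := by group
      _ = (x * x) * (a * a) := by rw [← hxa]; group
      _ = 1 := by rw [hxx, haa, htt]
  have h5 : ∃ v ∈ E, (x * a) * v * (x * a)⁻¹ * v⁻¹ = t := by
    refine ⟨y, hy, ?_⟩
    calc (x * a) * y * (x * a)⁻¹ * y⁻¹ = x * (a * y) * a⁻¹ * x⁻¹ * y⁻¹ := by group
      _ = x * (y * a) * a⁻¹ * x⁻¹ * y⁻¹ := by rw [← hya]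
      _ = x * y * x⁻¹ * y⁻¹ := by group
      _ = t := hxy
  have h6 := hsq (x * a) (E.mul_mem hx ha) h5
  rw [h4] at h6
  exact h.ne h6.symm

/-- `t` commutes with one of its other conjugates. -/
theorem exists_conj {G : Type*} [Group G] (t : G) (ht : orderOf t = 2)
    (E : Subgroup (Subgroup.centralizer ({t} : Set G))) (hE : Nat.card E = 32)
    (hX : Cfsg.IsExtraspecial 2 E) (hone : ∀ x y : G, orderOf x = 2 → orderOf y = 2 → IsConj x y) :
    ∃ g : G, g * t * g⁻¹ ≠ t ∧ (g * t * g⁻¹) * t = t * (g * t * g⁻¹) := by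
  obtain ⟨z, hz⟩ := ext_of_extraspecial E hX
  have key : ∃ r : Subgroup.centralizer ({t} : Set G), r * r = 1 ∧ (r : G) ≠ 1 ∧ (r : G) ≠ t := by
    by_cases h1 : (z : G) = t
    · obtain ⟨r, -, hr1, hr2, hr3⟩ := exists_invol hz hE
      exact ⟨r, hr1, fun h => hr2 (Subtype.ext h), fun h => hr3 (Subtype.ext (h.trans h1.symm))⟩
    · exact ⟨z, t_sq hz, fun h => hz.ne (Subtype.ext h), h1⟩
  obtain ⟨r, hr1, hr2, hr3⟩ := key
  obtain ⟨g, hg⟩ := isConj_iff.mp (hone t r ht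
    (Cfsg.Agent.J3Type.Chain.orderOf_two (congrArg Subtype.val hr1) hr2))
  refine ⟨g, ?_, ?_⟩
  · rw [hg]; exact hr3
  · rw [hg]; exact Subgroup.mem_centralizer_singleton_iff.mp r.2

/-- **Order of the Janko group `J3`** -/
theorem order {G : Type*} [Group G] [Finite G] (hone : ∀ x y : G, orderOf x = 2 → orderOf y = 2 → IsConj x y)
    (t : G) (ht : orderOf t = 2) (E : Subgroup (Subgroup.centralizer ({t} : Set G))) [E.Normal]
    (hE : Nat.card E = 32) (hX : Cfsg.IsExtraspecial 2 E)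
    (e : (Subgroup.centralizer ({t} : Set G)) ⧸ E ≃* alternatingGroup (Fin 5)) :
    Cfsg.Spor.IsoJ3 G ∧ Nat.card G = 50232960 := by
  obtain ⟨g, hg1, hg2⟩ := exists_conj t ht E hE hX hone
  have h2c := centralizer_le t ht E hE hX e g hg1 hg2
  have hJ := Cfsg.Agent.J3Type.Chain.isoJ3 t
    (Cfsg.Agent.J3Type.HasModelOf.hasModel t ht E hX hE h2c e) hone
  refine ⟨hJ, ?_⟩
  obtain ⟨F, hF1, hF2, ω, hF, hω, ⟨e'⟩⟩ := hJ
  rw [Nat.card_congr e'.toEquiv]
  exact (Cfsg.Agent.S1625.result F hF ω hω).2.2.1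

end Cfsg.Agent.J3Type.ExtInvol
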