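import Cfsg.Agent.J3Type.PresDef

/-!
# Existence of the involution `w` in groups of type J3

From the relations `CEl` and the relations of the element `d` of order 3 we construct the involution `w`
interchanging `z, f` and `c, d`.
-/

set_option autoImplicit false

namespace Cfsg.Agent.J3Type.InvW

open Cfsg.Agent.J3Type.PresDef

section Conj

variable {G : Type*} [Group G]

/-- `cj n x = n⁻¹ x n`. -/
def cj (n x : G) : G := n⁻¹ * x * n

theorem cj_def (n x : G) : cj n x = n⁻¹ * x * n := rfl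

theorem cj_mul (n x y : G) : cj n (x * y) = cj n x * cj n y := by
  simp [cj_def, mul_assoc]

theorem cj_one (n : G) : cj n 1 = 1 := by simp [cj_def]

theorem one_cj (x : G) : cj 1 x = x := by simp [cj_def]

theorem mul_cj (n m x : G) : cj (n * m) x = cj m (cj n x) := by
  simp [cj_def, mul_assoc]

theorem cj_inv (n x : G) : cj n x⁻¹ = (cj n x)⁻¹ := by
  simp [cj_def, mul_assoc]

theorem cj_pow (n x : G) (k : ℕ) : cj n (x ^ k) = (cj n x) ^ k := by
  rw [cj_def, cj_def]
  have := conj_pow (a := n⁻¹) (b := x) (i := k)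
  simpa using this.symm

theorem cj_inv_eq {n x y : G} (h : cj n x = y) : cj n⁻¹ y = x := by
  rw [← h, ← mul_cj, mul_inv_cancel, one_cj]

theorem cj_cj_inv (n x : G) : cj n (cj n⁻¹ x) = x := by
  rw [← mul_cj, inv_mul_cancel, one_cj]

theorem cj_inv_cj (n x : G) : cj n⁻¹ (cj n x) = x := by
  rw [← mul_cj, mul_inv_cancel, one_cj]

theorem cj_eq_iff {n x y : G} : cj n x = y ↔ x * n = n * y := by
  rw [cj_def, mul_assoc, inv_mul_eq_iff_eq_mul]

theorem cj_fix {n x : G} : cj n x = x ↔ x * n = n * x := cj_eq_iff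

theorem cj_fix' {n x : G} : cj n x = x ↔ n * x = x * n := by rw [cj_fix, eq_comm]

theorem cj_inj {n x y : G} (h : cj n x = cj n y) : x = y := by
  have := congrArg (cj n⁻¹) h
  rwa [cj_inv_cj, cj_inv_cj] at this

theorem cj_comm {n x y : G} (h : x * y = y * x) : cj n x * cj n y = cj n y * cj n x := by
  rw [← cj_mul, ← cj_mul, h]

theorem comm_of_cj {n x y : G} (h : cj n x * cj n y = cj n y * cj n x) : x * y = y * x := by
  rw [← cj_mul, ← cj_mul] at h
  exact cj_inj h

end Conj

section Klein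

variable {G : Type*} [Group G] {a b : G}

/-- The four elements. -/
def Kl (a b x : G) : Prop := x = 1 ∨ x = a ∨ x = b ∨ x = a * b

theorem Kl.mul (ha : a * a = 1) (hb : b * b = 1) (hab : a * b = b * a) {x y : G} (hx : Kl a b x) (hy : Kl a b y) :
    Kl a b (x * y) := by
  have h1 : a * (a * b) = b := by rw [← mul_assoc, ha, one_mul]
  have h2 : b * (a * b) = a := by rw [hab, ← mul_assoc, hb, one_mul]
  have h3 : a * b * a = b := by rw [hab, mul_assoc, ha, mul_one]
  have h4 : a * b * b = a := by rw [mul_assoc, hb, mul_one]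
  have h5 : a * b * (a * b) = 1 := by rw [mul_assoc, h2, ha]
  unfold Kl
  rcases hx with rfl | rfl | rfl | rfl <;> rcases hy with rfl | rfl | rfl | rfl <;>
    simp [ha, hb, h1, h2, h3, h4, h5, ← hab]

theorem Kl.sq (ha : a * a = 1) (hb : b * b = 1) (hab : a * b = b * a) {x : G} (hx : Kl a b x) : x * x = 1 := by
  have h2 : b * (a * b) = a := by rw [hab, ← mul_assoc, hb, one_mul]
  have h5 : a * b * (a * b) = 1 := by rw [mul_assoc, h2, ha]
  rcases hx with rfl | rfl | rfl | rfl
  · simp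
  · exact ha
  · exact hb
  · exact h5

theorem Kl.comm {x y : G} (hx : Kl a b x) (h1 : a * y = y * a) (h2 : b * y = y * b) : x * y = y * x := by
  rcases hx with rfl | rfl | rfl | rfl
  · simp
  · exact h1
  · exact h2
  · rw [mul_assoc, h2, ← mul_assoc, h1, mul_assoc]

/-- The Klein four-group as a subgroup. -/
def klein (a b : G) (ha : a * a = 1) (hb : b * b = 1) (hab : a * b = b * a) : Subgroup G where
  carrier := {x | Kl a b x}
  mul_mem' hx hy := Kl.mul ha hb hab hx hy
  one_mem' := Or.inl rfl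
  inv_mem' {x} hx := by
    have : x⁻¹ = x := inv_eq_of_mul_eq_one_left (Kl.sq ha hb hab hx)
    show Kl a b x⁻¹
    rw [this]
    exact hx

theorem mem_klein {ha : a * a = 1} {hb : b * b = 1} {hab : a * b = b * a} {x : G} :
    x ∈ klein a b ha hb hab ↔ Kl a b x := Iff.rfl

theorem card_klein {ha : a * a = 1} {hb : b * b = 1} {hab : a * b = b * a} (a1 : a ≠ 1) (b1 : b ≠ 1)
    (hne : a ≠ b) : Nat.card (klein a b ha hb hab) = 4 := by
  classical
  have h1 : a * b ≠ 1 := by
    intro h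
    apply hne
    rw [eq_inv_of_mul_eq_one_left h]
    exact inv_eq_of_mul_eq_one_left hb
  have h2 : a * b ≠ a := by
    intro h
    exact b1 (mul_eq_left.mp h)
  have h3 : a * b ≠ b := by
    intro h
    exact a1 (mul_eq_right.mp h)
  have hset : ((klein a b ha hb hab : Subgroup G) : Set G) = (({1, a, b, a * b} : Finset G) : Set G) := by
    ext x
    simp only [SetLike.mem_coe, mem_klein, Kl, Finset.coe_insert, Finset.coe_singleton, Set.mem_insert_iff,
      Set.mem_singleton_iff]
  have : Nat.card (klein a b ha hb hab) = Set.ncard ((klein a b ha hb hab : Subgroup G) : Set G) := rfl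
  rw [this, hset, Set.ncard_coe_finset]
  rw [Finset.card_insert_of_notMem, Finset.card_insert_of_notMem, Finset.card_insert_of_notMem,
    Finset.card_singleton]
  · simp [h3.symm]
  · simp [hne, h2.symm]
  · simp [a1.symm, b1.symm, h1.symm]

end Klein

section Rel

variable {G : Type*} [Group G] {z y s c f g u h : G}

theorem inv_of_sq {a : G} (h : a * a = 1) : a⁻¹ = a := inv_eq_of_mul_eq_one_left h

theorem cj_sq {n x : G} (hn : n * n = 1) : cj n x = n * x * n := by
  rw [cj_def, inv_of_sq hn]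

theorem r_g2 (H : CEl z y s c f g u h) : g * g = 1 := by
  rw [H.g_def]
  have : c⁻¹ * f * c * (c⁻¹ * f * c) = c⁻¹ * (f * f) * c := by group
  rw [this, H.f2]; group

theorem r_cjcf (H : CEl z y s c f g u h) : cj c f = g := H.g_def.symm

theorem r_fcf (H : CEl z y s c f g u h) : f * c * f = c⁻¹ * f * c⁻¹ := by
  have h1 := H.cf
  have h2 : f⁻¹ = f := inv_of_sq H.f2
  have h3 : f * c * f = c⁻¹ * (c * f * (c * f) * (c * f)) * f⁻¹ * c⁻¹ := by group
  rw [h3, h1, h2, mul_one]

theorem r_cc (H : CEl z y s c f g u h) : c * c = c⁻¹ := eq_inv_of_mul_eq_one_left H.c3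

theorem r_fg' (H : CEl z y s c f g u h) : f * g = c * f * c⁻¹ := by
  have h1 : f * c⁻¹ * f = c * f * c := by
    have := congrArg (fun x => x⁻¹) (r_fcf H)
    simpa [mul_assoc, inv_of_sq H.f2] using this
  calc f * g = f * c⁻¹ * f * c := by rw [H.g_def]; group
    _ = c * f * (c * c) := by rw [h1]; group
    _ = c * f * c⁻¹ := by rw [(r_cc H)]

theorem r_cjcg (H : CEl z y s c f g u h) : cj c g = f * g := by
  rw [(r_fg' H), cj_def, H.g_def]
  have h1 : c⁻¹ * c⁻¹ = c := by
    have := congrArg (fun x => x⁻¹) (r_cc H)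
    simpa using this
  calc c⁻¹ * (c⁻¹ * f * c) * c = (c⁻¹ * c⁻¹) * f * (c * c) := by group
    _ = c * f * c⁻¹ := by rw [h1, (r_cc H)]

theorem r_fg (H : CEl z y s c f g u h) : f * g = g * f := by
  have h1 := congrArg (fun x => x⁻¹) (r_fg' H)
  simp only [mul_inv_rev, inv_inv, inv_of_sq H.f2, inv_of_sq (r_g2 H)] at h1
  rw [h1, (r_fg' H)]
  group

theorem r_cjcfg (H : CEl z y s c f g u h) : cj c (f * g) = f := by
  rw [cj_mul, (r_cjcf H), (r_cjcg H), (r_fg H), ← mul_assoc, (r_g2 H), one_mul]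

theorem r_fhf (H : CEl z y s c f g u h) : f * h * f = h * f * h := by
  have h1 := H.fh
  have h3 : f * h * f = (f * h * (f * h) * (f * h)) * h⁻¹ * f⁻¹ * h⁻¹ := by group
  rw [h3, h1, inv_of_sq H.h2, inv_of_sq H.f2, one_mul]

theorem r_hch (H : CEl z y s c f g u h) : h * c * h = c⁻¹ := by
  have h1 := H.ch
  have h3 : h * c * h = c⁻¹ * (c * h * (c * h)) := by group
  rw [h3, h1, mul_one]

theorem r_cjhs (H : CEl z y s c f g u h) : cj h s = y := by rw [cj_sq H.h2, H.y_def]

theorem r_cjhz (H : CEl z y s c f g u h) : cj h z = z := cj_fix.mpr H.zh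

theorem r_cjsz (H : CEl z y s c f g u h) : cj s z = z := cj_fix.mpr H.zs

theorem r_zy (H : CEl z y s c f g u h) : z * y = y * z := by
  have := cj_comm (n := h) H.zs
  rwa [r_cjhz H, r_cjhs H] at this

theorem r_y2 (H : CEl z y s c f g u h) : y * y = 1 := by
  rw [← (r_cjhs H), ← cj_mul, H.s2, cj_one]

theorem r_yf (H : CEl z y s c f g u h) : y * f = f * y := by
  have h1 : s * (h * f * h) = h * f * h * s := by rw [← (r_fhf H)]; exact H.sfhf
  have h2 : h * (s * (h * f * h)) * h = h * (h * f * h * s) * h := by rw [h1]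
  have e1 : h * (s * (h * f * h)) * h = y * f := by
    calc h * (s * (h * f * h)) * h = (h * s * h) * f * (h * h) := by group
      _ = y * f := by rw [H.h2, ← H.y_def, mul_one]
  have e2 : h * (h * f * h * s) * h = f * y := by
    calc h * (h * f * h * s) * h = (h * h) * f * (h * s * h) := by group
      _ = f * y := by rw [H.h2, ← H.y_def, one_mul]
  rw [e1, e2] at h2
  exact h2

theorem r_yc (H : CEl z y s c f g u h) : y * c = c * y := by
  have h1 : s * (h * c * h) = h * c * h * s := by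
    rw [(r_hch H)]
    have : Commute s c := H.sc
    exact this.inv_right
  have h2 : h * (s * (h * c * h)) * h = h * (h * c * h * s) * h := by rw [h1]
  have e1 : h * (s * (h * c * h)) * h = y * c := by
    calc h * (s * (h * c * h)) * h = (h * s * h) * c * (h * h) := by group
      _ = y * c := by rw [H.h2, ← H.y_def, mul_one]
  have e2 : h * (h * c * h * s) * h = c * y := by
    calc h * (h * c * h * s) * h = (h * h) * c * (h * s * h) := by group
      _ = c * y := by rw [H.h2, ← H.y_def, one_mul]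
  rw [e1, e2] at h2
  exact h2

theorem r_cjcz (H : CEl z y s c f g u h) : cj c z = z := cj_fix.mpr H.zc

theorem r_cjcy (H : CEl z y s c f g u h) : cj c y = y := cj_fix.mpr (r_yc H)

theorem r_zg (H : CEl z y s c f g u h) : z * g = g * z := by
  have := cj_comm (n := c) H.zf
  rwa [(r_cjcz H), (r_cjcf H)] at this

theorem r_yg (H : CEl z y s c f g u h) : y * g = g * y := by
  have := cj_comm (n := c) (r_yf H)
  rwa [(r_cjcy H), (r_cjcf H)] at this

theorem r_cjsy (H : CEl z y s c f g u h) : cj s y = z * y := by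
  rw [cj_sq H.s2]
  have h1 : s * y * s = (s * y * (s * y)) * y⁻¹ := by group
  rw [h1, H.sy, inv_of_sq (r_y2 H)]

theorem r_u2 (H : CEl z y s c f g u h) : u * u = 1 := by
  rw [H.u_def]
  calc s * f * s * (s * f * s) = s * f * (s * s) * f * s := by group
    _ = s * (f * f) * s := by rw [H.s2]; group
    _ = 1 := by rw [H.f2, mul_one, H.s2]

theorem r_cju (H : CEl z y s c f g u h) (x : G) : cj u x = cj s (cj f (cj s x)) := by
  rw [H.u_def, mul_cj, mul_cj]

theorem r_cjfz (H : CEl z y s c f g u h) : cj f z = z := cj_fix.mpr H.zf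

theorem r_cjfy (H : CEl z y s c f g u h) : cj f y = y := cj_fix.mpr (r_yf H)

theorem r_cjuz (H : CEl z y s c f g u h) : cj u z = z := by
  rw [(r_cju H), (r_cjsz H), (r_cjfz H), (r_cjsz H)]

theorem r_cjuy (H : CEl z y s c f g u h) : cj u y = y := by
  rw [(r_cju H), (r_cjsy H), cj_mul, (r_cjfz H), (r_cjfy H), cj_mul, (r_cjsz H), (r_cjsy H), ← mul_assoc, H.z2, one_mul]

/-- `[f s f, h] = 1`. -/
theorem r_v3h (H : CEl z y s c f g u h) : f * s * f * h = h * (f * s * f) := by
  have h1 : f * (s * (f * h * f)) * f = f * (f * h * f * s) * f := by rw [H.sfhf]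
  have e1 : f * (s * (f * h * f)) * f = f * s * f * h := by
    calc f * (s * (f * h * f)) * f = f * s * f * h * (f * f) := by group
      _ = _ := by rw [H.f2, mul_one]
  have e2 : f * (f * h * f * s) * f = h * (f * s * f) := by
    calc f * (f * h * f * s) * f = (f * f) * h * (f * s * f) := by group
      _ = _ := by rw [H.f2, one_mul]
  rw [e1, e2] at h1
  exact h1

/-- `(s · f s f)² = z`. -/
theorem r_v43 (H : CEl z y s c f g u h) : s * (f * s * f) * (s * (f * s * f)) = z := by
  -- conjugate `(s y)² = z` by `k = h f h`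
  have hk : h * f * h * (h * f * h) = 1 := by
    calc h * f * h * (h * f * h) = h * f * (h * h) * f * h := by group
      _ = h * (f * f) * h := by rw [H.h2]; group
      _ = 1 := by rw [H.f2, mul_one, H.h2]
  have hks : cj (h * f * h) s = s := by
    rw [cj_fix, ← (r_fhf H)]; exact H.sfhf
  have hkz : cj (h * f * h) z = z := by
    rw [mul_cj, mul_cj, (r_cjhz H), (r_cjfz H), (r_cjhz H)]
  have hky : cj (h * f * h) y = f * s * f := by
    have e1 : cj h y = s := by
      have := cj_inv_eq (r_cjhs H)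
      rwa [inv_of_sq H.h2] at this
    rw [mul_cj, mul_cj, e1, cj_sq H.f2, cj_fix, (r_v3h H)]
  have := congrArg (cj (h * f * h)) H.sy
  rw [cj_mul, cj_mul, hks, hky, hkz] at this
  exact this

theorem r_cjuf (H : CEl z y s c f g u h) : cj u f = f * z := by
  rw [cj_sq (r_u2 H)]
  have h1 : f * s * f * s * (f * s * f * s) = z := by
    have h2 := congrArg (fun x => x⁻¹) (r_v43 H)
    simp only [mul_inv_rev, inv_of_sq H.s2, inv_of_sq H.f2, inv_of_sq H.z2] at h2
    rw [← h2]
    group
  have h3 : f * (u * f * u) = z := by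
    rw [← h1, H.u_def]
    group
  calc u * f * u = (f * f) * (u * f * u) := by rw [H.f2, one_mul]
    _ = f * z := by rw [mul_assoc, h3]

theorem r_cjug (H : CEl z y s c f g u h) : cj u g = g * y := by
  rw [cj_sq (r_u2 H)]
  -- v1 = g s g, v2 = g f s f g, v3 = f s f, v4 = s
  set v1 := g * s * g with hv1
  set v2 := g * f * s * f * g with hv2
  set v3 := f * s * f with hv3
  have hprod : s * v3 * v1 * v2 * y = z := H.prod
  have hz1 : cj g z = z := cj_fix.mpr (r_zg H)
  have h12 : v1 * v2 * (v1 * v2) = z := by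
    have := congrArg (cj g) (r_v43 H)
    rw [hz1, cj_mul, cj_mul, cj_sq (r_g2 H), cj_sq (r_g2 H)] at this
    have e : g * (f * s * f) * g = v2 := by rw [hv2]; group
    rw [e] at this
    exact this
  have hv1' : v1 * v1 = 1 := by
    rw [hv1]
    calc g * s * g * (g * s * g) = g * s * (g * g) * s * g := by group
      _ = g * (s * s) * g := by rw [(r_g2 H)]; group
      _ = 1 := by rw [H.s2, mul_one, (r_g2 H)]
  have hv3' : v3 * v3 = 1 := by
    rw [hv3]
    calc f * s * f * (f * s * f) = f * s * (f * f) * s * f := by group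
      _ = f * (s * s) * f := by rw [H.f2]; group
      _ = 1 := by rw [H.s2, mul_one, H.f2]
  have hv2' : v2 * v2 = 1 := by
    have e : v2 = g * v3 * g := by rw [hv2, hv3]; group
    rw [e]
    calc g * v3 * g * (g * v3 * g) = g * v3 * (g * g) * v3 * g := by group
      _ = g * (v3 * v3) * g := by rw [(r_g2 H)]; group
      _ = 1 := by rw [hv3', mul_one, (r_g2 H)]
  have h21 : v2 * v1 = z * (v1 * v2) := by
    have : v2 * v1 = (v1 * v2)⁻¹ := by rw [mul_inv_rev, inv_of_sq hv1', inv_of_sq hv2']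
    rw [this]
    apply inv_eq_of_mul_eq_one_left
    rw [mul_assoc, h12, H.z2]
  have hp1 : s * v3 * v1 * v2 = z * y := by
    have : s * v3 * v1 * v2 = (s * v3 * v1 * v2 * y) * y⁻¹ := by group
    rw [this, hprod, inv_of_sq (r_y2 H)]
  have hp2 : v2 * v1 * v3 * s = z * y := by
    have h1 := congrArg (fun x => x⁻¹) hp1
    simp only [mul_inv_rev, inv_of_sq hv1', inv_of_sq hv2', inv_of_sq hv3', inv_of_sq H.s2, inv_of_sq H.z2,
      inv_of_sq (r_y2 H)] at h1
    rw [(r_zy H), ← h1]
    group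
  have hp3 : v1 * v2 * v3 * s = y := by
    rw [h21] at hp2
    have : z * (v1 * v2 * v3 * s) = z * y := by rw [← hp2]; group
    exact mul_left_cancel this
  -- g u g u = v1 v2 v3 s
  have e1 : g * u * g = f * v2 * v1 := by
    have e2 : v1 * f = f * v2 := by
      rw [hv1, hv2]
      calc g * s * g * f = g * s * (f * g) := by rw [(r_fg H)]; group
        _ = (f * f) * g * s * f * g := by rw [H.f2]; group
        _ = f * (g * f * s * f * g) := by
          rw [mul_assoc f f g, (r_fg H)]; group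
    rw [← e2, H.u_def, hv1]
    calc g * (s * f * s) * g = g * s * (g * g) * f * s * g := by rw [(r_g2 H)]; group
      _ = g * s * g * f * (g * s * g) := by
        have : g * s * (g * g) * f * s * g = g * s * g * (g * f) * s * g := by group
        rw [this, ← (r_fg H)]; group
  have e3 : u = f * v3 * s := by
    rw [H.u_def, hv3]
    calc s * f * s = (f * f) * s * f * s := by rw [H.f2]; group
      _ = f * (f * s * f) * s := by group
  have e4 : f * v2 * f = v1 := by
    rw [hv1, hv2]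
    calc f * (g * f * s * f * g) * f = (f * g) * f * s * f * (g * f) := by group
      _ = (g * f) * f * s * f * (f * g) := by rw [(r_fg H)]
      _ = g * (f * f) * s * (f * f) * g := by group
      _ = g * s * g := by rw [H.f2]; group
  have e5 : f * v1 * f = v2 := by
    rw [← e4]
    calc f * (f * v2 * f) * f = (f * f) * v2 * (f * f) := by group
      _ = v2 := by rw [H.f2]; group
  have e6 : g * (u * g * u) = y := by
    calc g * (u * g * u) = (g * u * g) * u := by group
      _ = f * v2 * v1 * (f * v3 * s) := by rw [e1, ← e3]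
      _ = (f * v2 * f) * (f * v1 * f) * v3 * s := by
        have : f * v2 * f * (f * v1 * f) * v3 * s = f * v2 * (f * f) * v1 * f * v3 * s := by group
        rw [this, H.f2]; group
      _ = y := by rw [e4, e5]; exact hp3
  calc u * g * u = (g * g) * (u * g * u) := by rw [(r_g2 H), one_mul]
    _ = g * y := by rw [mul_assoc, e6]

/-- The relations of the element `d`. -/
structure DRel (z y s c f d : G) : Prop where
  d3 : d * d * d = 1
  cd : c * d = d * c
  fd : f * d = d * f
  ds : s * d * s = (c * d)⁻¹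
  zd : d⁻¹ * z * d = y

variable {d : G}

theorem d_gd (H : CEl z y s c f g u h) (D : DRel z y s c f d) : g * d = d * g := by
  have h1 : Commute f d := D.fd
  have h2 : Commute c d := D.cd
  have : Commute g d := by
    rw [H.g_def]
    exact ((h2.inv_left).mul_left h1).mul_left h2
  exact this

theorem d_cjdf (D : DRel z y s c f d) : cj d f = f := cj_fix.mpr D.fd

theorem d_cjdg (H : CEl z y s c f g u h) (D : DRel z y s c f d) : cj d g = g := cj_fix.mpr (d_gd H D)

theorem d_cjdz (D : DRel z y s c f d) : cj d z = y := D.zd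

theorem d_cjdy (H : CEl z y s c f g u h) (D : DRel z y s c f d) : cj d y = z * y := by
  have h1 := congrArg (cj s) (d_cjdz D)
  have h2 : cj s (cj d z) = cj (s * d * s) (cj s z) := by
    rw [← mul_cj, ← mul_cj]
    congr 1
    rw [← mul_assoc, ← mul_assoc, H.s2, one_mul]
  rw [h2, D.ds, r_cjsz H, r_cjsy H] at h1
  have h3 : z = cj (c * d) (z * y) := by
    rw [← h1, cj_cj_inv]
  rw [mul_cj, cj_mul, r_cjcz H, r_cjcy H, cj_mul, d_cjdz D] at h3
  -- z = y * cj d y
  have h4 : y * z = y * (y * cj d y) := by rw [← h3]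
  rw [← mul_assoc, r_y2 H, one_mul] at h4
  rw [← h4, r_zy H]

theorem d_ucd (H : CEl z y s c f g u h) (D : DRel z y s c f d) : u * (c * d) = c * d * u := by
  have h1 : s * (c * d) * s = d⁻¹ := by
    have h2 := congrArg (fun x => x⁻¹) D.ds
    simp only [mul_inv_rev, inv_inv, inv_of_sq H.s2] at h2
    have h3 : s * (s * (d⁻¹ * s)) * s = s * (c * d) * s := by rw [h2]
    rw [← h3]
    have : s * (s * (d⁻¹ * s)) * s = (s * s) * d⁻¹ * (s * s) := by group
    rw [this, H.s2]; group
  have h4 : s * d⁻¹ * s = c * d := by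
    rw [← h1]
    have : s * (s * (c * d) * s) * s = (s * s) * (c * d) * (s * s) := by group
    rw [this, H.s2]; group
  have h5 : cj f d⁻¹ = d⁻¹ := by
    rw [cj_inv, cj_fix.mpr D.fd.symm]
  have h6 : cj u (c * d) = c * d := by
    rw [r_cju H, cj_sq (x := c * d) H.s2, h1, h5, cj_sq H.s2, h4]
  rw [cj_fix] at h6
  exact h6.symm

theorem kl_fix {a b n x : G} (hx : Kl a b x) (ha : cj n a = a) (hb : cj n b = b) : cj n x = x := by
  rcases hx with rfl | rfl | rfl | rfl
  · exact cj_one n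
  · exact ha
  · exact hb
  · rw [cj_mul, ha, hb]

/-- the map of a four-group into another one. -/
theorem kl_map {a b a' b' n x : G} (hab : a' * a' = 1) (hb2 : b' * b' = 1) (hc : a' * b' = b' * a')
    (hx : Kl a b x) (ha : Kl a' b' (cj n a)) (hb : Kl a' b' (cj n b)) : Kl a' b' (cj n x) := by
  rcases hx with rfl | rfl | rfl | rfl
  · rw [cj_one]; exact Or.inl rfl
  · exact ha
  · exact hb
  · rw [cj_mul]; exact Kl.mul hab hb2 hc ha hb

/-- An element `v p t` of order 3, where `t` has order 3 and centralises the involution `p`, while the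
`t`-conjugates of `v` have product one. -/
theorem cube_lemma {v p t : G} (ht : t * t * t = 1) (hpt : p * t = t * p) (hp2 : p * p = 1)
    (h0 : v * p = p * v) (h5 : cj t v * p = p * cj t v)
    (h4 : cj t (cj t v) * p = p * cj t (cj t v)) (h8 : v * cj t (cj t v) * cj t v = 1)
    (h6 : (v * p * t) * (v * p * t) * (v * p * t) = 1) : p = 1 := by
  have hti : t⁻¹ = t * t := (eq_inv_of_mul_eq_one_left ht).symm
  have a1 : t * v = cj t (cj t v) * t := by
    rw [cj_def, cj_def]
    have : t⁻¹ * (t⁻¹ * v * t) * t * t = (t⁻¹ * t⁻¹) * v * (t * t * t) := by group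
    rw [this, ht, mul_one]
    congr 1
    rw [hti]
    calc t = (t * t * t) * t := by rw [ht, one_mul]
      _ = t * t * (t * t) := by group
  have a3 : t * cj t (cj t v) = cj t v * t := by
    rw [cj_def t (cj t v)]; group
  have e7 : (v * p * t) * (v * p * t) * (v * p * t) = (v * cj t (cj t v) * cj t v) * (p * p * p) := by
    calc (v * p * t) * (v * p * t) * (v * p * t)
        = v * p * (t * v) * (p * t) * v * (p * t) := by group
      _ = v * p * (cj t (cj t v) * t) * (t * p) * v * (t * p) := by rw [a1, hpt]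
      _ = v * p * cj t (cj t v) * (t * t) * (p * v) * (t * p) := by group
      _ = v * p * cj t (cj t v) * (t * t) * (v * p) * (t * p) := by rw [h0]
      _ = v * p * cj t (cj t v) * t * (t * v) * p * (t * p) := by group
      _ = v * p * cj t (cj t v) * t * (cj t (cj t v) * t) * p * (t * p) := by rw [a1]
      _ = v * p * cj t (cj t v) * (t * cj t (cj t v)) * (t * p) * t * p := by group
      _ = v * p * cj t (cj t v) * (cj t v * t) * (p * t) * t * p := by rw [a3, hpt]
      _ = v * (p * cj t (cj t v)) * cj t v * (t * p) * t * (t * p) := by group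
      _ = v * (cj t (cj t v) * p) * cj t v * (p * t) * t * (p * t) := by rw [h4, hpt]
      _ = v * cj t (cj t v) * (p * cj t v) * (p * (t * (t * p)) * t) := by group
      _ = v * cj t (cj t v) * (cj t v * p) * (p * (t * (p * t)) * t) := by rw [h5, hpt]
      _ = v * cj t (cj t v) * cj t v * p * (p * (t * p) * t * t) := by group
      _ = v * cj t (cj t v) * cj t v * p * (p * (p * t) * t * t) := by rw [hpt]
      _ = v * cj t (cj t v) * cj t v * (p * p * p) * (t * t * t) := by group
      _ = (v * cj t (cj t v) * cj t v) * (p * p * p) := by rw [ht, mul_one]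
  rw [e7, h8, hp2, one_mul, one_mul] at h6
  exact h6

end Rel

section Main

variable {G : Type*} [Group G] {z y s c f g u h d : G}

/-- The hypotheses on the centraliser of `z` that are used. -/
structure Setup (z y s c f g u h d : G) : Prop where
  H : CEl z y s c f g u h
  D : DRel z y s c f d
  hz : z ≠ 1
  hf : f ≠ 1
  hE : ∀ x, x * z = z * x → x * f = f * x → ∃ v p, Kl z y v ∧ Kl f g p ∧ x = v * p

namespace Setup

theorem g1 (S : Setup z y s c f g u h d) : g ≠ 1 := by
  intro h1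
  apply S.hf
  have := r_cjcf S.H
  rw [h1] at this
  have h2 := congrArg (cj c⁻¹) this
  rwa [cj_inv_cj, cj_one] at h2

theorem fg_ne (S : Setup z y s c f g u h d) : f ≠ g := by
  intro h1
  have h2 := r_cjcg S.H
  rw [h1, r_g2 S.H] at h2
  have h3 := congrArg (cj c⁻¹) h2
  rw [cj_inv_cj, cj_one] at h3
  exact S.g1 h3

/-- `c` fixes only the identity of `F`. -/
theorem F_fix (S : Setup z y s c f g u h d) {p : G} (hp : Kl f g p) (h1 : cj c p = p) : p = 1 := by
  rcases hp with rfl | rfl | rfl | rfl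
  · rfl
  · rw [r_cjcf S.H] at h1
    exact absurd h1.symm S.fg_ne
  · rw [r_cjcg S.H] at h1
    exact absurd (mul_eq_right.mp h1) S.hf
  · rw [r_cjcfg S.H] at h1
    exact absurd (left_eq_mul.mp h1) S.g1

/-- `d` fixes only the identity of `V`. -/
theorem V_fix (S : Setup z y s c f g u h d) {v : G} (hv : Kl z y v) (h1 : cj d v = v) : v = 1 := by
  have hyz : y ≠ z := by
    intro e
    have h2 := r_cjsy S.H
    rw [e, r_cjsz S.H, S.H.z2] at h2
    exact S.hz h2
  have hy1 : y ≠ 1 := by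
    intro e
    have h2 := r_cjsy S.H
    rw [e, cj_one, mul_one] at h2
    exact S.hz h2.symm
  rcases hv with rfl | rfl | rfl | rfl
  · rfl
  · rw [d_cjdz S.D] at h1
    exact absurd h1 hyz
  · rw [d_cjdy S.H S.D] at h1
    exact absurd (mul_eq_right.mp h1) S.hz
  · rw [cj_mul, d_cjdz S.D, d_cjdy S.H S.D, r_zy S.H, ← mul_assoc, r_y2 S.H, one_mul] at h1
    exact absurd (right_eq_mul.mp h1) hy1

theorem inter (S : Setup z y s c f g u h d) {v p : G} (hv : Kl z y v) (hp : Kl f g p) (h1 : v = p) : p = 1 := by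
  apply S.F_fix hp
  rw [← h1]
  exact kl_fix hv (r_cjcz S.H) (r_cjcy S.H)

theorem prod_inj (S : Setup z y s c f g u h d) {v p v' p' : G} (hv : Kl z y v) (hp : Kl f g p) (hv' : Kl z y v')
    (hp' : Kl f g p') (h1 : v * p = v' * p') : v = v' ∧ p = p' := by
  have ip : p⁻¹ = p := inv_of_sq (Kl.sq S.H.f2 (r_g2 S.H) (r_fg S.H) hp)
  have h2 : v' * v = p' * p := by
    calc v' * v = v' * (v * p) * p⁻¹ := by group
      _ = v' * (v' * p') * p := by rw [h1, ip]
      _ = (v' * v') * (p' * p) := by group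
      _ = p' * p := by rw [Kl.sq S.H.z2 (r_y2 S.H) (r_zy S.H) hv', one_mul]
  have h3 := S.inter (Kl.mul S.H.z2 (r_y2 S.H) (r_zy S.H) hv' hv) (Kl.mul S.H.f2 (r_g2 S.H) (r_fg S.H) hp' hp) h2
  have h4 : p' = p := by
    rw [eq_inv_of_mul_eq_one_left h3, ip]
  refine ⟨?_, h4.symm⟩
  rw [h4] at h1
  exact mul_right_cancel h1

/-- elements of `E` fixed by `c d`. -/
theorem cd_fix (S : Setup z y s c f g u h d) {x : G} (h1 : x * z = z * x) (h2 : x * f = f * x)
    (h3 : x * (c * d) = c * d * x) : x = 1 := by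
  obtain ⟨v, p, hv, hp, rfl⟩ := S.hE x h1 h2
  have h4 : cj (c * d) (v * p) = v * p := cj_fix.mpr h3
  have hcv : cj c v = v := kl_fix hv (r_cjcz S.H) (r_cjcy S.H)
  have hcp : Kl f g (cj c p) := kl_map S.H.f2 (r_g2 S.H) (r_fg S.H) hp (by rw [r_cjcf S.H]; exact Or.inr (Or.inr (Or.inl rfl)))
    (by rw [r_cjcg S.H]; exact Or.inr (Or.inr (Or.inr rfl)))
  have hdp : cj d (cj c p) = cj c p := kl_fix hcp (d_cjdf S.D) (d_cjdg S.H S.D)
  have hdv : Kl z y (cj d v) := kl_map S.H.z2 (r_y2 S.H) (r_zy S.H) hv (by rw [d_cjdz S.D]; exact Or.inr (Or.inr (Or.inl rfl)))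
    (by rw [d_cjdy S.H S.D]; exact Or.inr (Or.inr (Or.inr rfl)))
  rw [mul_cj, cj_mul, cj_mul, hcv, hdp] at h4
  obtain ⟨h5, h6⟩ := S.prod_inj hdv hcp hv hp h4
  rw [S.V_fix hv h5, S.F_fix hp h6, mul_one]

/-- elements of `E` have square 1. -/
theorem E_sq (S : Setup z y s c f g u h d) {x : G} (h1 : x * z = z * x) (h2 : x * f = f * x) : x * x = 1 := by
  obtain ⟨v, p, hv, hp, rfl⟩ := S.hE x h1 h2
  have hc : v * p = p * v := by
    apply Kl.comm hv
    · exact (Kl.comm hp S.H.zf.symm (r_zg S.H).symm).symm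
    · exact (Kl.comm hp (r_yf S.H).symm (r_yg S.H).symm).symm
  calc v * p * (v * p) = v * (p * v) * p := by group
    _ = (v * v) * (p * p) := by rw [← hc]; group
    _ = 1 := by
      rw [Kl.sq S.H.z2 (r_y2 S.H) (r_zy S.H) hv, Kl.sq S.H.f2 (r_g2 S.H) (r_fg S.H) hp, one_mul]

/-- elements of `E` commute with `y` and `g`. -/
theorem E_comm (S : Setup z y s c f g u h d) {x : G} (h1 : x * z = z * x) (h2 : x * f = f * x) :
    x * y = y * x ∧ x * g = g * x := by
  obtain ⟨v, p, hv, hp, rfl⟩ := S.hE x h1 h2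
  constructor
  · have e1 : v * y = y * v := Kl.comm hv (r_zy S.H) rfl
    have e2 : p * y = y * p := Kl.comm hp (r_yf S.H).symm (r_yg S.H).symm
    rw [mul_assoc, e2, ← mul_assoc, e1, mul_assoc]
  · have e1 : v * g = g * v := Kl.comm hv (r_zg S.H) (r_yg S.H)
    have e2 : p * g = g * p := Kl.comm hp (r_fg S.H) rfl
    rw [mul_assoc, e2, ← mul_assoc, e1, mul_assoc]

/-- No element of order 3 commutes with `z` and with an element of `E` outside `V`. -/
theorem three_V (S : Setup z y s c f g u h d) {t x : G} (hx1 : x * z = z * x) (hx2 : x * f = f * x)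
    (ht : t * t * t = 1) (ht1 : t ≠ 1) (htz : t * z = z * t) (htx : t * x = x * t) : Kl z y x := by
  obtain ⟨v, p, hv, hp, rfl⟩ := S.hE x hx1 hx2
  -- if `k` centralises `z` and maps `v p` to `f` we have a contradiction
  have key : ∀ k : G, cj k z = z → cj k (v * p) = f → False := by
    intro k hk1 hk2
    apply ht1
    have e1 : cj k t * z = z * cj k t := by
      have := cj_comm (n := k) htz
      rwa [hk1] at this
    have e2 : cj k t * f = f * cj k t := by
      have := cj_comm (n := k) htx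
      rwa [hk2] at this
    have e3 := S.E_sq e1 e2
    rw [← cj_mul] at e3
    have e4 : t * t = 1 := by
      have := congrArg (cj k⁻¹) e3
      rwa [cj_inv_cj, cj_one] at this
    rw [e4, one_mul] at ht
    exact ht
  -- an element of `⟨c⟩` maps `p` to `f`
  have hc : ∀ q : G, Kl f g q → q ≠ 1 → ∃ k : G, cj k z = z ∧ (∀ v, Kl z y v → cj k v = v) ∧ cj k q = f := by
    intro q hq hq1
    rcases hq with rfl | rfl | rfl | rfl
    · exact absurd rfl hq1
    · exact ⟨1, one_cj z, fun v _ => one_cj v, one_cj _⟩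
    · refine ⟨c⁻¹, cj_inv_eq (r_cjcz S.H), fun v hv => cj_inv_eq (kl_fix hv (r_cjcz S.H) (r_cjcy S.H)), ?_⟩
      exact cj_inv_eq (r_cjcf S.H)
    · exact ⟨c, r_cjcz S.H, fun v hv => kl_fix hv (r_cjcz S.H) (r_cjcy S.H), r_cjcfg S.H⟩
  by_cases hp1 : p = 1
  · rw [hp1, mul_one]; exact hv
  exfalso
  obtain ⟨k, hk1, hk2, hk3⟩ := hc p hp hp1
  -- now move `v f` to `f`
  have hu1z : cj (c⁻¹ * u * c) z = z := by
    rw [mul_cj, mul_cj, cj_inv_eq (r_cjcz S.H), r_cjuz S.H, r_cjcz S.H]
  have hu1y : cj (c⁻¹ * u * c) y = y := by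
    rw [mul_cj, mul_cj, cj_inv_eq (r_cjcy S.H), r_cjuy S.H, r_cjcy S.H]
  have hu1f : cj (c⁻¹ * u * c) f = f * (z * y) := by
    rw [mul_cj, mul_cj, cj_inv_eq (r_cjcfg S.H), cj_mul, r_cjuf S.H, r_cjug S.H]
    have e1 : f * z * (g * y) = (f * g) * (z * y) := by
      calc f * z * (g * y) = f * (z * g) * y := by group
        _ = (f * g) * (z * y) := by rw [r_zg S.H]; group
    rw [e1, cj_mul, r_cjcfg S.H, cj_mul, r_cjcz S.H, r_cjcy S.H]
  have hfz : cj u (f * z) = f := by
    rw [cj_mul, r_cjuf S.H, r_cjuz S.H, mul_assoc, S.H.z2, mul_one]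
  have hzyzy : z * y * (z * y) = 1 :=
    Kl.sq S.H.z2 (r_y2 S.H) (r_zy S.H) (Or.inr (Or.inr (Or.inr rfl)))
  have hfzy : cj (c⁻¹ * u * c) (f * (z * y)) = f := by
    rw [cj_mul, hu1f, cj_mul, hu1z, hu1y, mul_assoc, hzyzy, mul_one]
  have hvf : v * f = f * v := Kl.comm hv S.H.zf (r_yf S.H)
  have hkvp : cj k (v * p) = f * v := by rw [cj_mul, hk2 v hv, hk3, hvf]
  rcases hv with rfl | rfl | rfl | rfl
  · exact key k hk1 (by rw [hkvp, mul_one])
  · exact key (k * u) (by rw [mul_cj, hk1, r_cjuz S.H]) (by rw [mul_cj, hkvp, hfz])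
  · refine key (k * u * (c⁻¹ * u * c)) ?_ ?_
    · rw [mul_cj (k * u), mul_cj k u, hk1, r_cjuz S.H, hu1z]
    · rw [mul_cj (k * u), mul_cj k u, hkvp, cj_mul, r_cjuf S.H, r_cjuy S.H, mul_assoc f, hfzy]
  · refine key (k * (c⁻¹ * u * c)) ?_ ?_
    · rw [mul_cj, hk1, hu1z]
    · rw [mul_cj, hkvp, hfzy]

/-- an element fixing `z` and `f` fixes `y` and `g`. -/
theorem fix_yg (S : Setup z y s c f g u h d) {n : G} (h1 : cj n z = z) (h2 : cj n f = f) :
    cj n y = y ∧ cj n g = g := by
  rw [cj_fix'] at h1 h2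
  obtain ⟨h3, h4⟩ := S.E_comm h1 h2
  exact ⟨cj_fix'.mpr h3, cj_fix'.mpr h4⟩

/-- The four elements of `V`. -/
theorem klV (_ : Setup z y s c f g u h d) : Kl z y z ∧ Kl z y y ∧ Kl z y (z * y) :=
  ⟨Or.inr (Or.inl rfl), Or.inr (Or.inr (Or.inl rfl)), Or.inr (Or.inr (Or.inr rfl))⟩

theorem c1 (S : Setup z y s c f g u h d) : c ≠ 1 := by
  intro h1
  apply S.fg_ne
  rw [← r_cjcf S.H, h1, one_cj]

theorem d1 (S : Setup z y s c f g u h d) : d ≠ 1 := by
  intro h1
  have h2 := S.V_fix (v := z) (Or.inr (Or.inl rfl)) (by rw [h1, one_cj])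
  exact S.hz h2

/-- A swap `w₀` of `z` and `f` has one of two possible actions on `y`, `g`. -/
theorem swap_cases (S : Setup z y s c f g u h d) {w : G} (hwz : cj w z = f) (hwf : cj w f = z) :
    (cj w y = g ∧ cj w g = y) ∨ (cj w y = f * g ∧ cj w g = z * y) := by
  have hiz : cj w⁻¹ f = z := cj_inv_eq hwz
  have hif : cj w⁻¹ z = f := cj_inv_eq hwf
  have hww : cj (w * w) z = z := by rw [mul_cj, hwz, hwf]
  have hwwf : cj (w * w) f = f := by rw [mul_cj, hwf, hwz]
  obtain ⟨hwwy, hwwg⟩ := S.fix_yg hww hwwf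
  rw [mul_cj] at hwwy hwwg
  -- the element `x`
  set x := cj w⁻¹ g with hx
  have hxz : x * z = z * x := by
    have := cj_comm (n := w⁻¹) (r_fg S.H)
    rw [hiz] at this
    exact this.symm
  have hxf : x * f = f * x := by
    have := cj_comm (n := w⁻¹) (r_zg S.H)
    rw [hif] at this
    exact this.symm
  have hV : Kl z y x := by
    apply S.three_V (t := cj w⁻¹ d) hxz hxf
    · rw [← cj_mul, ← cj_mul, S.D.d3, cj_one]
    · intro e
      apply S.d1
      have := congrArg (cj w) e
      rwa [cj_cj_inv, cj_one] at this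
    · have := cj_comm (n := w⁻¹) S.D.fd
      rw [hiz] at this
      exact this.symm
    · exact (cj_comm (n := w⁻¹) (d_gd S.H S.D)).symm
  have hwx : cj w x = g := cj_cj_inv w g
  rcases hV with h1 | h1 | h1 | h1
  · rw [h1, cj_one] at hwx
    exact absurd hwx.symm S.g1
  · rw [h1, hwz] at hwx
    exact absurd hwx S.fg_ne
  · rw [h1] at hwx
    left
    refine ⟨hwx, ?_⟩
    rw [hwx] at hwwy
    exact hwwy
  · right
    rw [h1, cj_mul, hwz] at hwx
    have h2 : cj w y = f * g := by
      calc cj w y = (f * f) * cj w y := by rw [S.H.f2, one_mul]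
        _ = f * g := by rw [mul_assoc, hwx]
    refine ⟨h2, ?_⟩
    rw [h2, cj_mul, hwf] at hwwy
    calc cj w g = (z * z) * cj w g := by rw [S.H.z2, one_mul]
      _ = z * y := by rw [mul_assoc, hwwy]

/-- The semilinear case does not occur. -/
theorem swap_plus (S : Setup z y s c f g u h d) {w : G} (hwz : cj w z = f) (hwf : cj w f = z) :
    cj w y = g ∧ cj w g = y := by
  rcases S.swap_cases hwz hwf with h0 | ⟨hwy, hwg⟩
  · exact h0
  exfalso
  have hiz : cj w⁻¹ f = z := cj_inv_eq hwz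
  have hif : cj w⁻¹ z = f := cj_inv_eq hwf
  have hiy : cj w⁻¹ (f * g) = y := cj_inv_eq hwy
  have hig : cj w⁻¹ (z * y) = g := cj_inv_eq hwg
  have hiy' : cj w⁻¹ g = z * y := by
    rw [cj_mul, hiz] at hiy
    calc cj w⁻¹ g = (z * z) * cj w⁻¹ g := by rw [S.H.z2, one_mul]
      _ = z * y := by rw [mul_assoc, hiy]
  have hig' : cj w⁻¹ y = f * g := by
    rw [cj_mul, hif] at hig
    calc cj w⁻¹ y = (f * f) * cj w⁻¹ y := by rw [S.H.f2, one_mul]
      _ = f * g := by rw [mul_assoc, hig]
  have hH := S.H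
  have hzz := hH.z2
  have hff := hH.f2
  have hyy := r_y2 hH
  have hgg := r_g2 hH
  have hzy := r_zy hH
  have hzf := hH.zf
  have hzg := r_zg hH
  have hyf := r_yf hH
  have hyg := r_yg hH
  have hfg := r_fg hH
  -- actions of `m = w⁻¹ u w`
  have hmz : cj (w⁻¹ * u * w) z = z * f := by
    rw [mul_cj, mul_cj, hif, r_cjuf hH, cj_mul, hwf, hwz]
  have hmf : cj (w⁻¹ * u * w) f = f := by
    rw [mul_cj, mul_cj, hiz, r_cjuz hH, hwz]
  have hmy : cj (w⁻¹ * u * w) y = y * g := by
    rw [mul_cj, mul_cj, hig', cj_mul, r_cjuf hH, r_cjug hH]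
    have e1 : f * z * (g * y) = (f * g) * (z * y) := by
      calc f * z * (g * y) = f * (z * g) * y := by group
        _ = (f * g) * (z * y) := by rw [hzg]; group
    have e2 : cj w (f * g) = z * (z * y) := by rw [cj_mul, hwf, hwg]
    have e3 : cj w (z * y) = f * (f * g) := by rw [cj_mul, hwz, hwy]
    rw [e1, cj_mul, e2, e3]
    calc z * (z * y) * (f * (f * g)) = (z * z) * y * ((f * f) * g) := by group
      _ = y * g := by rw [hzz, hff]; group
  have hmg : cj (w⁻¹ * u * w) g = g := by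
    rw [mul_cj, mul_cj, hiy', cj_mul, r_cjuz hH, r_cjuy hH, cj_mul, hwz, hwy]
    rw [← mul_assoc, hff, one_mul]
  -- the element `n = w u m u`
  have hn : ∀ x : G, cj (w * (u * (w⁻¹ * u * w) * u)) x = cj u (cj (w⁻¹ * u * w) (cj u (cj w x))) := by
    intro x
    rw [mul_cj w, mul_cj (u * (w⁻¹ * u * w)) u, mul_cj u (w⁻¹ * u * w)]
  have hnz : cj (w * (u * (w⁻¹ * u * w) * u)) z = z := by
    rw [hn, hwz, r_cjuf hH, cj_mul, hmf, hmz, hzf, ← mul_assoc, hff, one_mul, r_cjuz hH]
  have hnf : cj (w * (u * (w⁻¹ * u * w) * u)) f = f := by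
    rw [hn, hwf, r_cjuz hH, hmz, cj_mul, r_cjuz hH, r_cjuf hH, hzf.symm, ← mul_assoc, hzz, one_mul]
  have hny : cj (w * (u * (w⁻¹ * u * w) * u)) y = z * y := by
    have e1 : cj (w⁻¹ * u * w) (f * z * (g * y)) = z * y := by
      rw [cj_mul, cj_mul, cj_mul, hmf, hmz, hmg, hmy]
      calc f * (z * f) * (g * (y * g)) = f * (f * z) * (g * (g * y)) := by rw [hzf, hyg]
        _ = (f * f) * z * ((g * g) * y) := by group
        _ = z * y := by rw [hff, hgg]; group
    rw [hn, hwy, cj_mul, r_cjuf hH, r_cjug hH, e1, cj_mul, r_cjuz hH, r_cjuy hH]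
  have := (S.fix_yg hnz hnf).1
  rw [hny] at this
  exact S.hz (mul_eq_right.mp this)

theorem dV (S : Setup z y s c f g u h d) {v : G} (hv : Kl z y v) : Kl z y (cj d v) :=
  kl_map S.H.z2 (r_y2 S.H) (r_zy S.H) hv (by rw [d_cjdz S.D]; exact S.klV.2.1)
    (by rw [d_cjdy S.H S.D]; exact S.klV.2.2)

theorem cF (S : Setup z y s c f g u h d) {p : G} (hp : Kl f g p) : Kl f g (cj c p) :=
  kl_map S.H.f2 (r_g2 S.H) (r_fg S.H) hp (by rw [r_cjcf S.H]; exact Or.inr (Or.inr (Or.inl rfl)))
    (by rw [r_cjcg S.H]; exact Or.inr (Or.inr (Or.inr rfl)))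

theorem orb_prod {a b t v : G} (ha : a * a = 1) (hb : b * b = 1) (hab : a * b = b * a)
    (h1 : cj t a = b) (h2 : cj t b = a * b) (hv : Kl a b v) : v * cj t (cj t v) * cj t v = 1 := by
  have h3 : cj t (a * b) = a := by
    rw [cj_mul, h1, h2, hab, ← mul_assoc, hb, one_mul]
  rcases hv with h0 | h0 | h0 | h0
  · rw [h0, cj_one, cj_one]; simp
  · rw [h0, h1, h2]
    calc a * (a * b) * b = (a * a) * (b * b) := by group
      _ = 1 := by rw [ha, hb, one_mul]
  · rw [h0, h2, h3]
    calc b * a * (a * b) = b * (a * a) * b := by group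
      _ = 1 := by rw [ha, mul_one, hb]
  · rw [h0, h3, h1]
    calc a * b * b * a = a * (b * b) * a := by group
      _ = 1 := by rw [hb, mul_one, ha]

theorem dprod (S : Setup z y s c f g u h d) {v : G} (hv : Kl z y v) : v * cj d (cj d v) * cj d v = 1 :=
  orb_prod S.H.z2 (r_y2 S.H) (r_zy S.H) (d_cjdz S.D) (d_cjdy S.H S.D) hv

theorem cprod (S : Setup z y s c f g u h d) {p : G} (hp : Kl f g p) : p * cj c (cj c p) * cj c p = 1 :=
  orb_prod S.H.f2 (r_g2 S.H) (r_fg S.H) (r_cjcf S.H) (r_cjcg S.H) hp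

/-- The involution `w`, from an element swapping `z` and `f`. -/
theorem exists_w_of_swap (S : Setup z y s c f g u h d) {w₀ : G} (hwz : cj w₀ z = f) (hwf : cj w₀ f = z) :
    ∃ w : G, w * w = 1 ∧ w * c * w = d ∧ w * z * w = f ∧ w * u * (w * u) * (w * u) = 1 := by
  have hH := S.H
  have hD := S.D
  have hzz := hH.z2
  have hff := hH.f2
  have hyy := r_y2 hH
  have hgg := r_g2 hH
  have hzy := r_zy hH
  have hzf := hH.zf
  have hzg := r_zg hH
  have hyf := r_yf hH
  have hyg := r_yg hH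
  have hfg := r_fg hH
  obtain ⟨hwy, hwg⟩ := S.swap_plus hwz hwf
  have hd3 := hD.d3
  have hc3 := hH.c3
  have hVF : ∀ v p, Kl z y v → Kl f g p → v * p = p * v := fun v p hv hp =>
    Kl.comm hv (Kl.comm hp hzf.symm hzg.symm).symm (Kl.comm hp hyf.symm hyg.symm).symm
  -- `c' = cj w₀ c = v₁ d`
  have hcE : ∃ v, Kl z y v ∧ cj w₀ c = v * d := by
    have e1 : cj (cj w₀ c) z = y := by
      have := congrArg (cj w₀) (r_cjcf hH)
      rw [hwg, cj_def c, cj_mul, cj_mul, cj_inv, hwf] at this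
      exact this
    have e2 : cj (cj w₀ c) f = f := by
      have := congrArg (cj w₀) (r_cjcz hH)
      rw [hwz, cj_def c, cj_mul, cj_mul, cj_inv, hwz] at this
      exact this
    have e3 : cj (cj w₀ c * d⁻¹) z = z := by
      rw [mul_cj, e1, cj_inv_eq (d_cjdz hD)]
    have e4 : cj (cj w₀ c * d⁻¹) f = f := by
      rw [mul_cj, e2, cj_inv_eq (d_cjdf hD)]
    obtain ⟨v, p, hv, hp, hvp⟩ := S.hE _ (cj_fix'.mp e3) (cj_fix'.mp e4)
    refine ⟨v, hv, ?_⟩
    have e5 : cj w₀ c = v * p * d := by rw [← hvp]; group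
    have e6 : (v * p * d) * (v * p * d) * (v * p * d) = 1 := by
      rw [← e5, ← cj_mul, ← cj_mul, hc3, cj_one]
    have hp1 : p = 1 := cube_lemma hd3 (Kl.comm hp hD.fd (d_gd hH hD)) (Kl.sq hff hgg hfg hp) (hVF v p hv hp)
      (hVF _ p (S.dV hv) hp) (hVF _ p (S.dV (S.dV hv)) hp) (S.dprod hv) e6
    rw [e5, hp1, mul_one]
  have hdE : ∃ p, Kl f g p ∧ cj w₀ d = p * c := by
    have e1 : cj (cj w₀ d) f = g := by
      have := congrArg (cj w₀) (d_cjdz hD)
      rw [hwy, cj_def d, cj_mul, cj_mul, cj_inv, hwz] at this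
      exact this
    have e2 : cj (cj w₀ d) z = z := by
      have := congrArg (cj w₀) (d_cjdf hD)
      rw [hwf, cj_def d, cj_mul, cj_mul, cj_inv, hwf] at this
      exact this
    have e3 : cj (cj w₀ d * c⁻¹) f = f := by
      rw [mul_cj, e1, cj_inv_eq (r_cjcf hH)]
    have e4 : cj (cj w₀ d * c⁻¹) z = z := by
      rw [mul_cj, e2, cj_inv_eq (r_cjcz hH)]
    obtain ⟨v, p, hv, hp, hvp⟩ := S.hE _ (cj_fix'.mp e4) (cj_fix'.mp e3)
    refine ⟨p, hp, ?_⟩
    have e5 : cj w₀ d = p * v * c := by rw [← hVF v p hv hp, ← hvp]; group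
    have e6 : (p * v * c) * (p * v * c) * (p * v * c) = 1 := by
      rw [← e5, ← cj_mul, ← cj_mul, hd3, cj_one]
    have hv1 : v = 1 := cube_lemma hc3 (Kl.comm hv hH.zc (r_yc hH)) (Kl.sq hzz hyy hzy hv)
      (hVF v p hv hp).symm (hVF v _ hv (S.cF hp)).symm (hVF v _ hv (S.cF (S.cF hp))).symm (S.cprod hp) e6
    rw [e5, hv1, mul_one]
  obtain ⟨v, hv, hcv⟩ := hcE
  obtain ⟨p, hp, hdp⟩ := hdE
  -- correct by `e`
  have hv' : Kl z y (cj d (cj d v)) := S.dV (S.dV hv)
  have hp' : Kl f g (cj c (cj c p)) := S.cF (S.cF hp)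
  set v' := cj d (cj d v) with hv'def
  set p' := cj c (cj c p) with hp'def
  have hv'2 : v' * v' = 1 := Kl.sq hzz hyy hzy hv'
  have hp'2 : p' * p' = 1 := Kl.sq hff hgg hfg hp'
  -- `cj v' (v d) = d`
  have k1 : cj v' (v * d) = d := by
    rw [cj_eq_iff]
    have b1 : d * v' = cj d v * d := by
      rw [hv'def, cj_def d (cj d v)]; group
    have b2 : v * cj d v = v' := by
      have b3 := S.dprod hv
      rw [← hv'def] at b3
      have b4 : v * v' = (cj d v)⁻¹ := eq_inv_of_mul_eq_one_left b3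
      have b5 : cj d v * cj d v = 1 := Kl.sq hzz hyy hzy (S.dV hv)
      have b6 : v * v = 1 := Kl.sq hzz hyy hzy hv
      rw [inv_of_sq b5] at b4
      rw [← b4, ← mul_assoc, b6, one_mul]
    rw [mul_assoc, b1, ← mul_assoc, b2]
  have k2 : cj p' (p * c) = c := by
    rw [cj_eq_iff]
    have b1 : c * p' = cj c p * c := by
      rw [hp'def, cj_def c (cj c p)]; group
    have b2 : p * cj c p = p' := by
      have b3 := S.cprod hp
      rw [← hp'def] at b3
      have b4 : p * p' = (cj c p)⁻¹ := eq_inv_of_mul_eq_one_left b3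
      have b5 : cj c p * cj c p = 1 := Kl.sq hff hgg hfg (S.cF hp)
      have b6 : p * p = 1 := Kl.sq hff hgg hfg hp
      rw [inv_of_sq b5] at b4
      rw [← b4, ← mul_assoc, b6, one_mul]
    rw [mul_assoc, b1, ← mul_assoc, b2]
  have hvd : ∀ x, x * z = z * x → x * y = y * x → cj v' x = x := fun x h1 h2 =>
    cj_fix.mpr (Kl.comm hv' h1.symm h2.symm).symm
  have hpd : ∀ x, x * f = f * x → x * g = g * x → cj p' x = x := fun x h1 h2 =>
    cj_fix.mpr (Kl.comm hp' h1.symm h2.symm).symm
  set w := w₀ * v' * p' with hw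
  have hwX : ∀ x, cj w x = cj p' (cj v' (cj w₀ x)) := by
    intro x
    rw [hw, mul_cj (w₀ * v') p', mul_cj w₀ v']
  have wz : cj w z = f := by
    rw [hwX, hwz, hvd f hzf.symm hyf.symm, hpd f rfl hfg]
  have wf : cj w f = z := by
    rw [hwX, hwf, hvd z rfl hzy, hpd z hzf hzg]
  have wy : cj w y = g := by
    rw [hwX, hwy, hvd g hzg.symm hyg.symm, hpd g hfg.symm rfl]
  have wg : cj w g = y := by
    rw [hwX, hwg, hvd y hzy.symm rfl, hpd y hyf hyg]
  have wc : cj w c = d := by
    rw [hwX, hcv, k1, hpd d hD.fd.symm (d_gd hH hD).symm]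
  have wd : cj w d = c := by
    rw [hwX, hdp]
    have b1 : cj v' (p * c) = p * c := by
      apply hvd
      · exact (Commute.mul_left (show Commute p z from Kl.comm hp hzf.symm hzg.symm)
          (show Commute c z from hH.zc.symm))
      · exact (Commute.mul_left (show Commute p y from Kl.comm hp hyf.symm hyg.symm)
          (show Commute c y from (r_yc hH).symm))
    rw [b1, k2]
  -- `w` is an involution
  have w2 : w * w = 1 := by
    have c1 : cj (w * w) z = z := by rw [mul_cj, wz, wf]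
    have c2 : cj (w * w) f = f := by rw [mul_cj, wf, wz]
    have c3 : cj (w * w) (c * d) = c * d := by
      rw [mul_cj, cj_mul, wc, wd, cj_mul, wc, wd]
    exact S.cd_fix (cj_fix'.mp c1) (cj_fix'.mp c2) (cj_fix'.mp c3)
  refine ⟨w, w2, ?_, ?_, ?_⟩
  · rw [← cj_sq w2]; exact wc
  · rw [← cj_sq w2]; exact wz
  · have hu : ∀ x, cj (w * u * (w * u) * (w * u)) x = cj u (cj w (cj u (cj w (cj u (cj w x))))) := by
      intro x
      rw [mul_cj (w * u * (w * u)), mul_cj (w * u) (w * u), mul_cj w u, mul_cj w u, mul_cj w u]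
    have c1 : cj (w * u * (w * u) * (w * u)) z = z := by
      rw [hu, wz, r_cjuf hH, cj_mul, wf, wz, cj_mul, r_cjuz hH, r_cjuf hH]
      have b1 : z * (f * z) = f := by rw [← hzf, ← mul_assoc, hzz, one_mul]
      rw [b1, wf, r_cjuz hH]
    have c2 : cj (w * u * (w * u) * (w * u)) f = f := by
      rw [hu, wf, r_cjuz hH, wz, r_cjuf hH, cj_mul, wf, wz, cj_mul, r_cjuz hH, r_cjuf hH]
      rw [← hzf, ← mul_assoc, hzz, one_mul]
    have hcd : cj (w * u * (w * u) * (w * u)) (c * d) = c * d := by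
      have b1 : cj w (c * d) = c * d := by rw [cj_mul, wc, wd, hD.cd]
      have b2 : cj u (c * d) = c * d := cj_fix'.mpr (d_ucd hH hD)
      rw [hu, b1, b2, b1, b2, b1, b2]
    exact S.cd_fix (cj_fix'.mp c1) (cj_fix'.mp c2) (cj_fix'.mp hcd)

end Setup

theorem z_ne_y (H : CEl z y s c f g u h) (hz : z ≠ 1) : z ≠ y := by
  intro e
  have h2 := r_cjsy H
  rw [← e, r_cjsz H, H.z2] at h2
  exact hz h2

theorem y_ne_one (H : CEl z y s c f g u h) (hz : z ≠ 1) : y ≠ 1 := by
  intro e
  have h2 := r_cjsy H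
  rw [e, cj_one, mul_one] at h2
  exact hz h2.symm

/-- The hypothesis `hE` from the order of the intersection of the centralisers. -/
theorem hE_of_card [Finite G] (H : CEl z y s c f g u h) (hz : z ≠ 1) (hf : f ≠ 1)
    (hfar : Nat.card (Subgroup.centralizer ({z} : Set G) ⊓ Subgroup.centralizer ({f} : Set G) : Subgroup G) = 16) :
    ∀ x, x * z = z * x → x * f = f * x → ∃ v p, Kl z y v ∧ Kl f g p ∧ x = v * p := by
  classical
  have hg1 : g ≠ 1 := by
    intro h1
    apply hf
    have := r_cjcf H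
    rw [h1] at this
    have h2 := congrArg (cj c⁻¹) this
    rwa [cj_inv_cj, cj_one] at h2
  have hfg : f ≠ g := by
    intro h1
    have h2 := r_cjcg H
    rw [h1, r_g2 H] at h2
    have h3 := congrArg (cj c⁻¹) h2
    rw [cj_inv_cj, cj_one] at h3
    exact hg1 h3
  have hFfix : ∀ p, Kl f g p → cj c p = p → p = 1 := by
    intro p hp h1
    rcases hp with rfl | rfl | rfl | rfl
    · rfl
    · rw [r_cjcf H] at h1
      exact absurd h1.symm hfg
    · rw [r_cjcg H] at h1
      exact absurd (mul_eq_right.mp h1) hf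
    · rw [r_cjcfg H] at h1
      exact absurd (left_eq_mul.mp h1) hg1
  let V := klein z y H.z2 (r_y2 H) (r_zy H)
  let F := klein f g H.f2 (r_g2 H) (r_fg H)
  have hVc : Nat.card V = 4 := card_klein hz (y_ne_one H hz) (z_ne_y H hz)
  have hFc : Nat.card F = 4 := card_klein hf hg1 hfg
  have hVF : ∀ v ∈ V, ∀ p ∈ F, v * p = p * v := fun v hv p hp =>
    Kl.comm hv (Kl.comm hp H.zf.symm (r_zg H).symm).symm (Kl.comm hp (r_yf H).symm (r_yg H).symm).symm
  let X := (Subgroup.centralizer ({z} : Set G) ⊓ Subgroup.centralizer ({f} : Set G) : Subgroup G)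
  have hVX : V ≤ X := by
    intro v hv
    rw [Subgroup.mem_inf, Subgroup.mem_centralizer_singleton_iff, Subgroup.mem_centralizer_singleton_iff]
    exact ⟨Kl.comm hv rfl (r_zy H).symm, Kl.comm hv H.zf (r_yf H)⟩
  have hFX : F ≤ X := by
    intro v hv
    rw [Subgroup.mem_inf, Subgroup.mem_centralizer_singleton_iff, Subgroup.mem_centralizer_singleton_iff]
    exact ⟨Kl.comm hv H.zf.symm (r_zg H).symm, Kl.comm hv rfl (r_fg H).symm⟩
  let m : V × F → X := fun q => ⟨q.1.1 * q.2.1, X.mul_mem (hVX q.1.2) (hFX q.2.2)⟩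
  have hinj : Function.Injective m := by
    rintro ⟨v, p⟩ ⟨v', p'⟩ e
    have e1 : v.1 * p.1 = v'.1 * p'.1 := congrArg Subtype.val e
    have e2 : v'.1⁻¹ * v.1 = p'.1 * p.1⁻¹ := by
      have : v'.1⁻¹ * (v.1 * p.1) * p.1⁻¹ = v'.1⁻¹ * (v'.1 * p'.1) * p.1⁻¹ := by rw [e1]
      have e3 : v'.1⁻¹ * (v.1 * p.1) * p.1⁻¹ = v'.1⁻¹ * v.1 := by group
      have e4 : v'.1⁻¹ * (v'.1 * p'.1) * p.1⁻¹ = p'.1 * p.1⁻¹ := by group
      rwa [e3, e4] at this
    have hvm : v'.1⁻¹ * v.1 ∈ V := V.mul_mem (V.inv_mem v'.2) v.2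
    have hpm : p'.1 * p.1⁻¹ ∈ F := F.mul_mem p'.2 (F.inv_mem p.2)
    have e5 : p'.1 * p.1⁻¹ = 1 := by
      apply hFfix _ hpm
      rw [← e2]
      exact kl_fix hvm (r_cjcz H) (r_cjcy H)
    rw [e5] at e2
    have e6 : p' = p := Subtype.ext (mul_inv_eq_one.mp e5)
    have e7 : v' = v := Subtype.ext (inv_mul_eq_one.mp e2)
    rw [e6, e7]
  have hbij : Function.Bijective m := by
    refine (Nat.bijective_iff_injective_and_card m).mpr ⟨hinj, ?_⟩
    rw [Nat.card_prod, hVc, hFc]
    exact hfar.symm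
  intro x hxz hxf
  obtain ⟨⟨v, p⟩, e⟩ := hbij.2 ⟨x, by
    show x ∈ Subgroup.centralizer ({z} : Set G) ⊓ Subgroup.centralizer ({f} : Set G)
    rw [Subgroup.mem_inf, Subgroup.mem_centralizer_singleton_iff, Subgroup.mem_centralizer_singleton_iff]
    exact ⟨hxz, hxf⟩⟩
  exact ⟨v.1, p.1, v.2, p.2, (congrArg Subtype.val e).symm⟩

/-- The order of the intersection of the centralisers of `f` and `z` is invariant under conjugation. -/
theorem card_cc_conj (k a b a' b' : G) (ha : cj k a = a') (hb : cj k b = b') :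
    Nat.card (Subgroup.centralizer ({a'} : Set G) ⊓ Subgroup.centralizer ({b'} : Set G) : Subgroup G) =
    Nat.card (Subgroup.centralizer ({a} : Set G) ⊓ Subgroup.centralizer ({b} : Set G) : Subgroup G) := by
  have mem : ∀ a b x : G, x ∈ (Subgroup.centralizer ({a} : Set G) ⊓ Subgroup.centralizer ({b} : Set G) : Subgroup G) ↔
      x * a = a * x ∧ x * b = b * x := by
    intro a b x
    rw [Subgroup.mem_inf, Subgroup.mem_centralizer_singleton_iff, Subgroup.mem_centralizer_singleton_iff]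
  refine Nat.card_congr
    { toFun := fun x => ⟨cj k⁻¹ x.1, (mem _ _ _).mpr ?_⟩
      invFun := fun x => ⟨cj k x.1, (mem _ _ _).mpr ?_⟩
      left_inv := fun x => Subtype.ext (cj_cj_inv k x.1)
      right_inv := fun x => Subtype.ext (cj_inv_cj k x.1) }
  · obtain ⟨h1, h2⟩ := (mem _ _ _).mp x.2
    constructor
    · apply comm_of_cj (n := k)
      rw [cj_cj_inv, ha]; exact h1
    · apply comm_of_cj (n := k)
      rw [cj_cj_inv, hb]; exact h2
  · obtain ⟨h1, h2⟩ := (mem _ _ _).mp x.2
    constructor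
    · rw [← ha]; exact cj_comm h1
    · rw [← hb]; exact cj_comm h2

/-- **Existence of the involution `w`.** -/
theorem exists_w [Finite G] (H : CEl z y s c f g u h) (hz : z ≠ 1)
    (d3 : d * d * d = 1) (cd : c * d = d * c) (fd : f * d = d * f) (ds : s * d * s = (c * d)⁻¹)
    (zd : d⁻¹ * z * d = y)
    (hfar : Nat.card (Subgroup.centralizer ({z} : Set G) ⊓ Subgroup.centralizer ({f} : Set G) : Subgroup G) = 16)
    (hfus : ∃ k : G, k⁻¹ * f * k = z)
    (htrans : ∀ t : G, t * t = 1 → t * z = z * t →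
      Nat.card (Subgroup.centralizer ({z} : Set G) ⊓ Subgroup.centralizer ({t} : Set G) : Subgroup G) = 16 →
      ∃ k : G, k * z = z * k ∧ k⁻¹ * t * k = f) :
    ∃ w : G, w * w = 1 ∧ w * c * w = d ∧ w * z * w = f ∧ w * u * (w * u) * (w * u) = 1 := by
  obtain ⟨k, hk⟩ := hfus
  have hk' : cj k f = z := hk
  have hf : f ≠ 1 := by
    rintro rfl
    rw [cj_one] at hk'
    exact hz hk'.symm
  have S : Setup z y s c f g u h d :=
    { H := H
      D := ⟨d3, cd, fd, ds, zd⟩
      hz := hz
      hf := hf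
      hE := hE_of_card H hz hf hfar }
  have h1 : cj k z * cj k z = 1 := by rw [← cj_mul, H.z2, cj_one]
  have h2 : cj k z * z = z * cj k z := by
    have := cj_comm (n := k) H.zf
    rwa [hk'] at this
  have h3 : Nat.card (Subgroup.centralizer ({z} : Set G) ⊓ Subgroup.centralizer ({cj k z} : Set G) :
      Subgroup G) = 16 := by
    rw [card_cc_conj k f z z (cj k z) hk' rfl, inf_comm]
    exact hfar
  obtain ⟨m, hm1, hm2⟩ := htrans _ h1 h2 h3
  have hmz : cj m z = z := cj_fix'.mpr hm1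
  have hmf : cj m (cj k z) = f := hm2
  exact S.exists_w_of_swap (w₀ := k * m) (by rw [mul_cj, hmf]) (by rw [mul_cj, hk', hmz])

end Main

end Cfsg.Agent.J3Type.InvW
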