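import Cfsg.Agent.J3Type.PresMChk0
import Cfsg.Agent.J3Type.PresMChk1
import Cfsg.Agent.J3Type.PresMChk2
import Cfsg.Agent.J3Type.PresMChk3
import Cfsg.Agent.J3Type.PresMChk4
import Cfsg.Agent.J3Type.PresMChk5
import Cfsg.Agent.J3Type.PresMChk6
import Cfsg.Agent.J3Type.PresMChk7
import Cfsg.Agent.J3Type.PresMChk8
import Cfsg.Agent.J3Type.PresMChk9

set_option autoImplicit false
set_option maxRecDepth 100000

namespace Cfsg.Agent.J3Type.PresMAll

open Cfsg.Agent.SporadicRecognition.CosetCert Cfsg.Agent.J3Type.PresMData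

theorem part : Part C 0 C.N 17442 := (((((((((Cfsg.Agent.J3Type.PresMChk0.all).append C Cfsg.Agent.J3Type.PresMChk1.all).append C Cfsg.Agent.J3Type.PresMChk2.all).append C Cfsg.Agent.J3Type.PresMChk3.all).append C Cfsg.Agent.J3Type.PresMChk4.all).append C Cfsg.Agent.J3Type.PresMChk5.all).append C Cfsg.Agent.J3Type.PresMChk6.all).append C Cfsg.Agent.J3Type.PresMChk7.all).append C Cfsg.Agent.J3Type.PresMChk8.all).append C Cfsg.Agent.J3Type.PresMChk9.all

end Cfsg.Agent.J3Type.PresMAll
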