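import Cfsg.Agent.J3Type.PresNChk0
import Cfsg.Agent.J3Type.PresNChk1

set_option autoImplicit false
set_option maxRecDepth 100000

namespace Cfsg.Agent.J3Type.PresNAll

open Cfsg.Agent.SporadicRecognition.CosetCert Cfsg.Agent.J3Type.PresNData

theorem part : Part C 0 C.N 2880 := (Cfsg.Agent.J3Type.PresNChk0.all).append C Cfsg.Agent.J3Type.PresNChk1.all

end Cfsg.Agent.J3Type.PresNAll
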