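import Cfsg.Agent.J3Type.PresRel
import Cfsg.Agent.J3Type.PresNAll
import Cfsg.Agent.J3Type.PresMAll
import Cfsg.Agent.J3Type.PresK1All
import Cfsg.Agent.J3Type.PresK2All
import Cfsg.Agent.J3Type.PresK3All
import Cfsg.Agent.J3Type.PresK4All
import Cfsg.Agent.J3Type.PresK5All
import Cfsg.Agent.SporadicRecognition.CosetCertHyp

/-!
# Bounds for the group given by the J3 amalgam (helper940)

* `card_N_le` : `⟨z, y, f, g, u, w, c, d⟩` has at most 2880 elements;
* `bound` : with the extra relation `w s w s w = z v⁻¹ x⁻¹ v` the whole group has at most `50232960` elements;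
* `collapse` : the other possibilities for `w s w s w` force `h ∈ ⟨z, y, f, g, u, w, c, d⟩`.
-/

set_option autoImplicit false

namespace Cfsg.Agent.J3Type.Pres

open Cfsg.Agent.SporadicRecognition.CosetCert Cfsg.Agent.SporadicRecognition.CosetCertHyp
open Cfsg.Agent.J3Type.PresDef

variable {G : Type*} [Group G] {z y s c f g u h d w x v : G}

/-- letters -/
def let10 (z y f g u w c d : G) : ℕ → G := fun n => [z, y, f, g, u, w, c, c⁻¹, d, d⁻¹].getD n 1

/-- letters -/
def let12 (z y s f g u h w c d : G) : ℕ → G :=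
  fun n => [z, y, s, f, g, u, h, w, c, c⁻¹, d, d⁻¹].getD n 1

theorem comm_rel {a b : G} (ha : a * a = 1) (hb : b * b = 1) (h : a * b = b * a) :
    a * (b * (a * b)) = 1 := by
  rw [h, ← mul_assoc b, hb, one_mul, ha]

theorem comm_rel' {a b : G} (ha : a * a = 1) (h : a * b = b * a) : a * (b * (a * b⁻¹)) = 1 := by
  have : a * (b * (a * b⁻¹)) = (a * b) * a * b⁻¹ := by group
  rw [this, h, mul_assoc b, ha]; group

theorem comm_rel'' {a b : G} (h : a * b = b * a) : a * (b * (a⁻¹ * b⁻¹)) = 1 := by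
  have : a * (b * (a⁻¹ * b⁻¹)) = (a * b) * a⁻¹ * b⁻¹ := by group
  rw [this, h]; group

/-- relators of `N(E)` -/
theorem relN (H : Amal z y s c f g u h d w x v) : ∀ r ∈ PresNData.rels, ev (let10 z y f g u w c d) r = 1 := by
  have z2 := H.z2
  have f2 := H.f2
  have y2 := H.y2
  have u2 := H.u2
  have w2 := H.w2
  have c3 := H.c3
  have d3 := H.d3
  intro r hr
  simp only [PresNData.rels, List.mem_cons, List.not_mem_nil, or_false] at hr
  rcases hr with rfl | rfl | rfl | rfl | rfl | rfl | rfl | rfl | rfl | rfl | rfl | rfl | rfl | rfl | rfl |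
    rfl | rfl | rfl | rfl | rfl | rfl | rfl <;>
  simp only [ev, let10, List.map_cons, List.map_nil, List.prod_cons, List.prod_nil, List.getD_cons_zero,
    List.getD_cons_succ, mul_one]
  -- ccc
  · rw [← mul_assoc, c3]
  · rw [← mul_assoc, d3]
  -- C f c g
  · have : c⁻¹ * (f * (c * g)) = (c⁻¹ * f * c) * g := by group
    rw [this, ← H.g_def, H.g2]
  · exact comm_rel z2 y2 H.zy
  · exact comm_rel z2 f2 H.zf
  · exact comm_rel y2 f2 H.yf
  · exact comm_rel' z2 H.zc
  · exact comm_rel' y2 H.yc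
  · exact comm_rel'' H.cd
  · exact comm_rel' f2 H.fd
  -- D z d y
  · have : d⁻¹ * (z * (d * y)) = (d⁻¹ * z * d) * y := by group
    rw [this, H.zd, y2]
  · exact comm_rel z2 u2 H.zu
  · exact comm_rel y2 u2 H.yu
  -- w c w D
  · have : w * (c * (w * d⁻¹)) = (w * c * w) * d⁻¹ := by group
    rw [this, H.cw]; group
  -- w z w f
  · have : w * (z * (w * f)) = (w * z * w) * f := by group
    rw [this, H.zw, f2]
  -- f u f u z
  · have : f * (u * (f * (u * z))) = (f * u * f * u) * z := by group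
    rw [this, H.fufu, z2]
  -- D y d y z
  · have : d⁻¹ * (y * (d * (y * z))) = (d⁻¹ * y * d) * (y * z) := by group
    rw [this, H.yd]
    have : z * y * (y * z) = z * (y * y) * z := by group
    rw [this, y2, mul_one, z2]
  -- g u g u y
  · have : g * (u * (g * (u * y))) = (g * u * g * u) * y := by group
    rw [this, H.gugu, y2]
  -- (cf)^3
  · rw [← H.cf]; group
  -- u c d u D C
  · have : u * (c * (d * (u * (d⁻¹ * c⁻¹)))) = (u * (c * d) * u) * (c * d)⁻¹ := by group
    rw [this, H.ucdu]; group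
  -- (wu)^3
  · rw [← H.wu]; group
  -- (cu)^3
  · rw [← H.cu]; group

/-- **`|N(E)| ≤ 2880`** -/
theorem card_N_le (H : Amal z y s c f g u h d w x v) :
    Finite (Subgroup.closure ({z, y, f, g, u, w, c, d} : Set G)) ∧
      Nat.card (Subgroup.closure ({z, y, f, g, u, w, c, d} : Set G)) ≤ 2880 := by
  have hyp : Hyp PresNData.C (⊥ : Subgroup G) (let10 z y f g u w c d) := by
    refine hyp_of_checks ⊥ _ PresNData.C PresNData.rels PresNData.subw rfl ?_ (relN H) ?_
      (by decide +kernel)
    · intro n hn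
      have hn : n < 10 := hn
      interval_cases n
      · exact ⟨by decide, H.z2⟩
      · exact ⟨by decide, H.y2⟩
      · exact ⟨by decide, H.f2⟩
      · exact ⟨by decide, H.g2⟩
      · exact ⟨by decide, H.u2⟩
      · exact ⟨by decide, H.w2⟩
      · exact ⟨by decide, mul_inv_cancel c⟩
      · exact ⟨by decide, inv_mul_cancel c⟩
      · exact ⟨by decide, mul_inv_cancel d⟩
      · exact ⟨by decide, inv_mul_cancel d⟩
    · intro r hr
      simp [PresNData.subw] at hr
  have hfin : Finite (⊥ : Subgroup G) := inferInstance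
  obtain ⟨h1, h2⟩ := card_closure_le PresNData.C ⊥ _ hyp PresNAll.part
  have hle : Subgroup.closure ({z, y, f, g, u, w, c, d} : Set G) ≤
      Subgroup.closure (let10 z y f g u w c d '' {n | n < PresNData.C.k}) := by
    refine Subgroup.closure_mono ?_
    intro a ha
    simp only [Set.mem_insert_iff, Set.mem_singleton_iff] at ha
    rcases ha with rfl | rfl | rfl | rfl | rfl | rfl | rfl | rfl
    · exact ⟨0, by show (0 : ℕ) < 10; norm_num, rfl⟩
    · exact ⟨1, by show (1 : ℕ) < 10; norm_num, rfl⟩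
    · exact ⟨2, by show (2 : ℕ) < 10; norm_num, rfl⟩
    · exact ⟨3, by show (3 : ℕ) < 10; norm_num, rfl⟩
    · exact ⟨4, by show (4 : ℕ) < 10; norm_num, rfl⟩
    · exact ⟨5, by show (5 : ℕ) < 10; norm_num, rfl⟩
    · exact ⟨6, by show (6 : ℕ) < 10; norm_num, rfl⟩
    · exact ⟨8, by show (8 : ℕ) < 10; norm_num, rfl⟩
  have hf : Finite (Subgroup.closure ({z, y, f, g, u, w, c, d} : Set G)) :=
    Finite.of_injective _ (Subgroup.inclusion_injective hle)
  refine ⟨hf, ?_⟩
  calc Nat.card (Subgroup.closure ({z, y, f, g, u, w, c, d} : Set G))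
      ≤ Nat.card (Subgroup.closure (let10 z y f g u w c d '' {n | n < PresNData.C.k})) :=
        Nat.card_le_card_of_injective _ (Subgroup.inclusion_injective hle)
    _ ≤ 2880 * Nat.card (⊥ : Subgroup G) := h2
    _ = 2880 := by rw [Subgroup.card_bot]

/-- the first 23 relators of the big enumeration -/
def base : List (List Nat) := [[8,8,8], [10,10,10], [8,6,8,6], [9,3,8,4], [2,3,2,5], [6,2,6,1], [2,8,2,9],
  [0,2,0,2], [0,3,0,3], [0,8,0,9], [0,6,0,6], [8,10,9,11], [3,10,3,11], [11,0,10,1], [7,8,7,11], [7,0,7,3],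
  [2,1,2,1,0], [2,10,2,8,10], [8,3,8,3,8,3], [3,6,3,6,3,6], [7,5,7,5,7,5], [2,3,6,3,2,3,6,3],
  [2,3,2,3,4,2,3,2,3,4,1,0]]

theorem relBase (H : Amal z y s c f g u h d w x v) :
    ∀ r ∈ base, ev (let12 z y s f g u h w c d) r = 1 := by
  have z2 := H.z2
  have f2 := H.f2
  have y2 := H.y2
  have u2 := H.u2
  have w2 := H.w2
  have s2 := H.s2
  have h2 := H.h2
  have c3 := H.c3
  have d3 := H.d3
  intro r hr
  simp only [base, List.mem_cons, List.not_mem_nil, or_false] at hr
  rcases hr with rfl | rfl | rfl | rfl | rfl | rfl | rfl | rfl | rfl | rfl | rfl | rfl | rfl | rfl | rfl |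
    rfl | rfl | rfl | rfl | rfl | rfl | rfl | rfl <;>
  simp only [ev, let12, List.map_cons, List.map_nil, List.prod_cons, List.prod_nil, List.getD_cons_zero,
    List.getD_cons_succ, mul_one]
  · rw [← mul_assoc, c3]
  · rw [← mul_assoc, d3]
  · rw [← H.ch]; group
  · have : c⁻¹ * (f * (c * g)) = (c⁻¹ * f * c) * g := by group
    rw [this, ← H.g_def, H.g2]
  -- s f s u
  · have : s * (f * (s * u)) = (s * f * s) * u := by group
    rw [this, ← H.u_def, u2]
  · have : h * (s * (h * y)) = (h * s * h) * y := by group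
    rw [this, ← H.y_def, y2]
  · exact comm_rel' s2 H.sc
  · exact comm_rel z2 s2 H.zs
  · exact comm_rel z2 f2 H.zf
  · exact comm_rel' z2 H.zc
  · exact comm_rel z2 h2 H.zh
  · exact comm_rel'' H.cd
  · exact comm_rel' f2 H.fd
  -- D z d y
  · have : d⁻¹ * (z * (d * y)) = (d⁻¹ * z * d) * y := by group
    rw [this, H.zd, y2]
  -- w c w D
  · have : w * (c * (w * d⁻¹)) = (w * c * w) * d⁻¹ := by group
    rw [this, H.cw]; group
  -- w z w f
  · have : w * (z * (w * f)) = (w * z * w) * f := by group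
    rw [this, H.zw, f2]
  -- s y s y z
  · have : s * (y * (s * (y * z))) = (s * y * (s * y)) * z := by group
    rw [this, H.sy, z2]
  -- s d s c d
  · have : s * (d * (s * (c * d))) = (s * d * s) * (c * d) := by group
    rw [this, H.ds]; group
  · rw [← H.cf]; group
  · rw [← H.fh]; group
  · rw [← H.wu]; group
  -- s fhf s fhf
  · have : s * (f * (h * (f * (s * (f * (h * f)))))) = (s * (f * h * f)) * (s * (f * h * f)) := by group
    rw [this]
    have h3 := H.sfhf
    have h4 := H.fhf2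
    calc s * (f * h * f) * (s * (f * h * f)) = (f * h * f) * (s * s) * (f * h * f) := by
          rw [h3]
          calc f * h * f * s * (f * h * f * s) = f * h * f * (s * (f * h * f)) * s := by group
            _ = f * h * f * (f * h * f * s) * s := by rw [h3]
            _ = ((f * h * f) * (f * h * f)) * (s * s) := by group
            _ = (f * h * f) * (s * s) * (f * h * f) := by rw [s2, h4, mul_one, mul_one, h4]
      _ = 1 := by rw [s2, mul_one, h4]
  -- s f s f g s f s f g y z
  · have h3 := H.prod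
    have h4 : s * (f * (s * (f * (g * (s * (f * (s * (f * (g * (y * z)))))))))) =
        (s * (f * s * f) * (g * s * g) * (g * f * s * f * g) * y) * z := by
      have : s * (f * s * f) * (g * s * g) * (g * f * s * f * g) * y * z =
        s * (f * s * f) * (g * s * (g * g) * f * s * f * g) * y * z := by group
      rw [this, H.g2]; group
    rw [h4, h3, z2]

theorem hinv12 (H : Amal z y s c f g u h d w x v) : ∀ n, n < 12 →
    PresMData.C.inv n < 12 ∧
      let12 z y s f g u h w c d n * let12 z y s f g u h w c d (PresMData.C.inv n) = 1 := by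
  intro n hn
  interval_cases n
  · exact ⟨by decide, H.z2⟩
  · exact ⟨by decide, H.y2⟩
  · exact ⟨by decide, H.s2⟩
  · exact ⟨by decide, H.f2⟩
  · exact ⟨by decide, H.g2⟩
  · exact ⟨by decide, H.u2⟩
  · exact ⟨by decide, H.h2⟩
  · exact ⟨by decide, H.w2⟩
  · exact ⟨by decide, mul_inv_cancel c⟩
  · exact ⟨by decide, inv_mul_cancel c⟩
  · exact ⟨by decide, mul_inv_cancel d⟩
  · exact ⟨by decide, inv_mul_cancel d⟩

theorem sub12 {K : Subgroup G} (hz : z ∈ K) (hy : y ∈ K) (hf : f ∈ K) (hg : g ∈ K) (hu : u ∈ K) (hw : w ∈ K)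
    (hc : c ∈ K) (hd : d ∈ K) : ∀ r ∈ PresMData.subw, ev (let12 z y s f g u h w c d) r ∈ K := by
  intro r hr
  simp only [PresMData.subw, List.mem_cons, List.not_mem_nil, or_false] at hr
  rcases hr with rfl | rfl | rfl | rfl | rfl | rfl | rfl | rfl <;>
  simp only [ev, let12, List.map_cons, List.map_nil, List.prod_cons, List.prod_nil, List.getD_cons_zero,
    List.getD_cons_succ, mul_one] <;> assumption

theorem rel_app {L : ℕ → G} {r0 : List Nat} (h : ∀ r ∈ base, ev L r = 1) (h0 : ev L r0 = 1) :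
    ∀ r ∈ base ++ [r0], ev L r = 1 := by
  intro r hr
  rcases List.mem_append.mp hr with hr | hr
  · exact h r hr
  · rw [List.mem_singleton] at hr; rw [hr]; exact h0

/-- **The order bound**: an amalgam with the extra relation generates a group of order at most `|J3|`. -/
theorem bound (H : Amal z y s c f g u h d w x v) (hrel : w * s * w * s * w = z * v⁻¹ * x⁻¹ * v) :
    Finite (Subgroup.closure ({c, f, h, s, d, w} : Set G)) ∧
      Nat.card (Subgroup.closure ({c, f, h, s, d, w} : Set G)) ≤ 50232960 := by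
  obtain ⟨hK, hK2⟩ := card_N_le H
  set K := Subgroup.closure ({z, y, f, g, u, w, c, d} : Set G) with hKdef
  have hmem : ∀ a ∈ ({z, y, f, g, u, w, c, d} : Set G), a ∈ K := fun a ha => Subgroup.subset_closure ha
  have hv : v = h * (c * d⁻¹) * h := by rw [H.v_def, H.x_def]
  have hh := PresDef.inv_of_sq H.h2
  have hyp : Hyp PresMData.C K (let12 z y s f g u h w c d) := by
    refine hyp_of_checks K _ PresMData.C (base ++ [[7,2,7,2,7,6,10,9,6,8,11,6,8,11,6,0]])
      PresMData.subw rfl (hinv12 H) (rel_app (relBase H) ?_)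
      (sub12 (hmem z (by simp)) (hmem y (by simp)) (hmem f (by simp)) (hmem g (by simp)) (hmem u (by simp))
        (hmem w (by simp)) (hmem c (by simp)) (hmem d (by simp))) (by decide +kernel)
    simp only [ev, let12, List.map_cons, List.map_nil, List.prod_cons, List.prod_nil, List.getD_cons_zero,
      List.getD_cons_succ, mul_one]
    have e1 : h * (d * (c⁻¹ * h)) = v⁻¹ := by
      rw [hv, mul_inv_rev, mul_inv_rev, mul_inv_rev, inv_inv, hh]; group
    calc w * (s * (w * (s * (w * (h * (d * (c⁻¹ * (h * (c * (d⁻¹ * (h * (c * (d⁻¹ * (h * z))))))))))))))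
        = (w * s * w * s * w) * (h * (d * (c⁻¹ * h))) * (c * d⁻¹) * (h * (c * d⁻¹) * h) * z := by group
      _ = z * v⁻¹ * x⁻¹ * v * v⁻¹ * x * v * z := by rw [hrel, e1, ← hv, ← H.x_def]
      _ = z * z := by group
      _ = 1 := H.z2
  obtain ⟨h1, h2⟩ := card_closure_le PresMData.C K _ hyp PresMAll.part
  have hle : Subgroup.closure ({c, f, h, s, d, w} : Set G) ≤
      Subgroup.closure (let12 z y s f g u h w c d '' {n | n < PresMData.C.k}) := by
    refine Subgroup.closure_mono ?_
    intro a ha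
    simp only [Set.mem_insert_iff, Set.mem_singleton_iff] at ha
    rcases ha with rfl | rfl | rfl | rfl | rfl | rfl
    · exact ⟨8, by show (8 : ℕ) < 12; norm_num, rfl⟩
    · exact ⟨3, by show (3 : ℕ) < 12; norm_num, rfl⟩
    · exact ⟨6, by show (6 : ℕ) < 12; norm_num, rfl⟩
    · exact ⟨2, by show (2 : ℕ) < 12; norm_num, rfl⟩
    · exact ⟨10, by show (10 : ℕ) < 12; norm_num, rfl⟩
    · exact ⟨7, by show (7 : ℕ) < 12; norm_num, rfl⟩
  refine ⟨Finite.of_injective _ (Subgroup.inclusion_injective hle), ?_⟩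
  calc Nat.card (Subgroup.closure ({c, f, h, s, d, w} : Set G))
      ≤ Nat.card (Subgroup.closure (let12 z y s f g u h w c d '' {n | n < PresMData.C.k})) :=
        Nat.card_le_card_of_injective _ (Subgroup.inclusion_injective hle)
    _ ≤ 17442 * Nat.card K := h2
    _ ≤ 17442 * 2880 := Nat.mul_le_mul_left _ hK2
    _ = 50232960 := by norm_num

/-- index one -/
theorem mem_of_index_one {C : Cert} {K : Subgroup G} {L : ℕ → G} (hyp : Hyp C K L) (hP : Part C 0 C.N 1)
    {a : G} (ha : a ∈ Subgroup.closure (L '' {x | x < C.k})) : a ∈ K := by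
  obtain ⟨S, hS, hcov⟩ := closure_covered C K L (trans C L) hyp (trans_isTrans C L) hP
  obtain ⟨l, hl, h1⟩ := hcov 1 (Subgroup.one_mem _)
  obtain ⟨l', hl', h2⟩ := hcov a ha
  have hll : l = l' := Finset.card_le_one.mp hS l hl l' hl'
  subst hll
  have h3 : SporadicRecognition.CosetCert.Rel K a 1 := h2.trans h1.symm
  unfold SporadicRecognition.CosetCert.Rel at h3
  simpa using h3

/-- the five wrong possibilities for `w s w s w` -/
theorem collapse (H : Amal z y s c f g u h d w x v) {K : Subgroup G} (hz : z ∈ K) (hy : y ∈ K) (hf : f ∈ K)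
    (hg : g ∈ K) (hu : u ∈ K) (hw : w ∈ K) (hc : c ∈ K) (hd : d ∈ K)
    (hrel : w * s * w * s * w = c * (z * v⁻¹ * x⁻¹ * v) ∨ w * s * w * s * w = c ^ 2 * (z * v⁻¹ * x⁻¹ * v) ∨
      w * s * w * s * w = s * y * v * x * v ∨ w * s * w * s * w = c * (s * y * v * x * v) ∨
      w * s * w * s * w = c ^ 2 * (s * y * v * x * v)) : h ∈ K ∧ s ∈ K := by
  have hv : v = h * (c * d⁻¹) * h := by rw [H.v_def, H.x_def]
  have hh := PresDef.inv_of_sq H.h2
  have e1 : h * (d * (c⁻¹ * h)) = v⁻¹ := by
    rw [hv, mul_inv_rev, mul_inv_rev, mul_inv_rev, inv_inv, hh]; group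
  have e2 : d * c⁻¹ = x⁻¹ := by rw [H.x_def, mul_inv_rev, inv_inv]
  have s2 := H.s2
  have z2 := H.z2
  have y2 := H.y2
  have c2 : c ^ 2 = c⁻¹ := eq_inv_of_mul_eq_one_left (by rw [pow_two]; exact H.c3)
  have hsub := sub12 (s := s) (h := h) hz hy hf hg hu hw hc hd
  have hmem : ∀ {C : Cert}, C.k = 12 → h ∈ Subgroup.closure (let12 z y s f g u h w c d '' {n | n < C.k}) ∧
      s ∈ Subgroup.closure (let12 z y s f g u h w c d '' {n | n < C.k}) := by
    intro C hC
    rw [hC]
    exact ⟨Subgroup.subset_closure ⟨6, by show (6 : ℕ) < 12; norm_num, rfl⟩,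
      Subgroup.subset_closure ⟨2, by show (2 : ℕ) < 12; norm_num, rfl⟩⟩
  rcases hrel with hrel | hrel | hrel | hrel | hrel
  · have hyp : Hyp PresK1Data.C K (let12 z y s f g u h w c d) := by
      refine hyp_of_checks K _ PresK1Data.C (base ++ [[7,2,7,2,7,6,10,9,6,8,11,6,8,11,6,0,9]])
        PresMData.subw rfl (hinv12 H) (rel_app (relBase H) ?_) hsub (by decide +kernel)
      simp only [ev, let12, List.map_cons, List.map_nil, List.prod_cons, List.prod_nil, List.getD_cons_zero,
        List.getD_cons_succ, mul_one]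
      calc w * (s * (w * (s * (w * (h * (d * (c⁻¹ * (h * (c * (d⁻¹ * (h * (c * (d⁻¹ * (h * (z * c⁻¹)))))))))))))))
          = (w * s * w * s * w) * (h * (d * (c⁻¹ * h))) * (c * d⁻¹) * (h * (c * d⁻¹) * h) * z * c⁻¹ := by group
        _ = c * (z * v⁻¹ * x⁻¹ * v) * v⁻¹ * x * v * z * c⁻¹ := by rw [hrel, e1, ← hv, ← H.x_def]
        _ = c * (z * z) * c⁻¹ := by group
        _ = 1 := by rw [z2]; group
    exact ⟨mem_of_index_one hyp PresK1All.part (hmem rfl).1, mem_of_index_one hyp PresK1All.part (hmem rfl).2⟩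
  · have hyp : Hyp PresK2Data.C K (let12 z y s f g u h w c d) := by
      refine hyp_of_checks K _ PresK2Data.C (base ++ [[7,2,7,2,7,6,10,9,6,8,11,6,8,11,6,0,8]])
        PresMData.subw rfl (hinv12 H) (rel_app (relBase H) ?_) hsub (by decide +kernel)
      simp only [ev, let12, List.map_cons, List.map_nil, List.prod_cons, List.prod_nil, List.getD_cons_zero,
        List.getD_cons_succ, mul_one]
      calc w * (s * (w * (s * (w * (h * (d * (c⁻¹ * (h * (c * (d⁻¹ * (h * (c * (d⁻¹ * (h * (z * c)))))))))))))))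
          = (w * s * w * s * w) * (h * (d * (c⁻¹ * h))) * (c * d⁻¹) * (h * (c * d⁻¹) * h) * z * c := by group
        _ = c⁻¹ * (z * v⁻¹ * x⁻¹ * v) * v⁻¹ * x * v * z * c := by rw [hrel, c2, e1, ← hv, ← H.x_def]
        _ = c⁻¹ * (z * z) * c := by group
        _ = 1 := by rw [z2]; group
    exact ⟨mem_of_index_one hyp PresK2All.part (hmem rfl).1, mem_of_index_one hyp PresK2All.part (hmem rfl).2⟩
  · have hyp : Hyp PresK3Data.C K (let12 z y s f g u h w c d) := by
      refine hyp_of_checks K _ PresK3Data.C (base ++ [[7,2,7,2,7,6,10,9,6,10,9,6,10,9,6,1,2]])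
        PresMData.subw rfl (hinv12 H) (rel_app (relBase H) ?_) hsub (by decide +kernel)
      simp only [ev, let12, List.map_cons, List.map_nil, List.prod_cons, List.prod_nil, List.getD_cons_zero,
        List.getD_cons_succ, mul_one]
      calc w * (s * (w * (s * (w * (h * (d * (c⁻¹ * (h * (d * (c⁻¹ * (h * (d * (c⁻¹ * (h * (y * s)))))))))))))))
          = (w * s * w * s * w) * (h * (d * (c⁻¹ * h))) * (d * c⁻¹) * (h * (d * (c⁻¹ * h))) * y * s := by group
        _ = (s * y * v * x * v) * v⁻¹ * x⁻¹ * v⁻¹ * y * s := by rw [hrel, e1, e2]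
        _ = s * (y * y) * s := by group
        _ = 1 := by rw [y2, mul_one, s2]
    exact ⟨mem_of_index_one hyp PresK3All.part (hmem rfl).1, mem_of_index_one hyp PresK3All.part (hmem rfl).2⟩
  · have hyp : Hyp PresK4Data.C K (let12 z y s f g u h w c d) := by
      refine hyp_of_checks K _ PresK4Data.C (base ++ [[7,2,7,2,7,6,10,9,6,10,9,6,10,9,6,1,2,9]])
        PresMData.subw rfl (hinv12 H) (rel_app (relBase H) ?_) hsub (by decide +kernel)
      simp only [ev, let12, List.map_cons, List.map_nil, List.prod_cons, List.prod_nil, List.getD_cons_zero,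
        List.getD_cons_succ, mul_one]
      calc w * (s * (w * (s * (w * (h * (d * (c⁻¹ * (h * (d * (c⁻¹ * (h * (d * (c⁻¹ * (h * (y * (s * c⁻¹))))))))))))))))
          = (w * s * w * s * w) * (h * (d * (c⁻¹ * h))) * (d * c⁻¹) * (h * (d * (c⁻¹ * h))) * y * s * c⁻¹ := by
            group
        _ = c * (s * y * v * x * v) * v⁻¹ * x⁻¹ * v⁻¹ * y * s * c⁻¹ := by rw [hrel, e1, e2]
        _ = c * s * (y * y) * s * c⁻¹ := by group
        _ = c * (s * s) * c⁻¹ := by rw [y2]; group
        _ = 1 := by rw [s2]; group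
    exact ⟨mem_of_index_one hyp PresK4All.part (hmem rfl).1, mem_of_index_one hyp PresK4All.part (hmem rfl).2⟩
  · have hyp : Hyp PresK5Data.C K (let12 z y s f g u h w c d) := by
      refine hyp_of_checks K _ PresK5Data.C (base ++ [[7,2,7,2,7,6,10,9,6,10,9,6,10,9,6,1,2,8]])
        PresMData.subw rfl (hinv12 H) (rel_app (relBase H) ?_) hsub (by decide +kernel)
      simp only [ev, let12, List.map_cons, List.map_nil, List.prod_cons, List.prod_nil, List.getD_cons_zero,
        List.getD_cons_succ, mul_one]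
      calc w * (s * (w * (s * (w * (h * (d * (c⁻¹ * (h * (d * (c⁻¹ * (h * (d * (c⁻¹ * (h * (y * (s * c))))))))))))))))
          = (w * s * w * s * w) * (h * (d * (c⁻¹ * h))) * (d * c⁻¹) * (h * (d * (c⁻¹ * h))) * y * s * c := by
            group
        _ = c⁻¹ * (s * y * v * x * v) * v⁻¹ * x⁻¹ * v⁻¹ * y * s * c := by rw [hrel, c2, e1, e2]
        _ = c⁻¹ * s * (y * y) * s * c := by group
        _ = c⁻¹ * (s * s) * c := by rw [y2]; group
        _ = 1 := by rw [s2]; group
    exact ⟨mem_of_index_one hyp PresK5All.part (hmem rfl).1, mem_of_index_one hyp PresK5All.part (hmem rfl).2⟩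

/-- in the form proved by the analysis of `⟨z, y, f, g⟩`-cosets: the true relation holds as soon as the
subgroup `K` of `N(E)` does not contain `h`. -/
theorem rel_of_disj (H : Amal z y s c f g u h d w x v) {K : Subgroup G} (hz : z ∈ K) (hy : y ∈ K) (hf : f ∈ K)
    (hg : g ∈ K) (hu : u ∈ K) (hw : w ∈ K) (hc : c ∈ K) (hd : d ∈ K) (hK : ¬ (h ∈ K ∧ s ∈ K))
    (hrel : ∃ i : ℕ, i < 3 ∧ (w * s * w * s * w = c ^ i * (z * v⁻¹ * x⁻¹ * v) ∨
      w * s * w * s * w = c ^ i * (s * y * v * x * v))) :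
    w * s * w * s * w = z * v⁻¹ * x⁻¹ * v := by
  by_contra hcon
  refine hK (collapse H hz hy hf hg hu hw hc hd ?_)
  obtain ⟨i, hi, h1⟩ := hrel
  interval_cases i
  · simp only [pow_zero, one_mul] at h1
    rcases h1 with h1 | h1
    · exact absurd h1 hcon
    · exact Or.inr (Or.inr (Or.inl h1))
  · simp only [pow_one] at h1
    rcases h1 with h1 | h1
    · exact Or.inl h1
    · exact Or.inr (Or.inr (Or.inr (Or.inl h1)))
  · rcases h1 with h1 | h1
    · exact Or.inr (Or.inl h1)
    · exact Or.inr (Or.inr (Or.inr (Or.inr h1)))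

end Cfsg.Agent.J3Type.Pres
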