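import Cfsg.Agent.J3Type.Mats
import Cfsg.Agent.J3Type.Pres
import Cfsg.Agent.S1625

/-!
# A group generated by a J3 amalgam with the extra relation is the Janko group `J3` (helper940)
-/

set_option autoImplicit false

namespace Cfsg.Agent.J3Type.Iso

open Cfsg.Agent.J3Type.PresDef

/-- pairs of amalgams -/
theorem amal_prod {G J : Type*} [Group G] [Group J] {z y s c f g u h d w x v : G}
    {z' y' s' c' f' g' u' h' d' w' x' v' : J} (A : Amal z y s c f g u h d w x v)
    (B : Amal z' y' s' c' f' g' u' h' d' w' x' v') :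
    Amal (z, z') (y, y') (s, s') (c, c') (f, f') (g, g') (u, u') (h, h') (d, d') (w, w') (x, x') (v, v') := by
  constructor
  · constructor
    · exact Prod.ext A.z2 B.z2
    · exact Prod.ext A.s2 B.s2
    · exact Prod.ext A.f2 B.f2
    · exact Prod.ext A.h2 B.h2
    · exact Prod.ext A.c3 B.c3
    · exact Prod.ext A.cf B.cf
    · exact Prod.ext A.fh B.fh
    · exact Prod.ext A.ch B.ch
    · exact Prod.ext A.g_def B.g_def
    · exact Prod.ext A.u_def B.u_def
    · exact Prod.ext A.y_def B.y_def
    · exact Prod.ext A.sy B.sy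
    · exact Prod.ext A.sc B.sc
    · exact Prod.ext A.sfhf B.sfhf
    · exact Prod.ext A.zs B.zs
    · exact Prod.ext A.zf B.zf
    · exact Prod.ext A.zc B.zc
    · exact Prod.ext A.zh B.zh
    · exact Prod.ext A.prod B.prod
  · exact Prod.ext A.d3 B.d3
  · exact Prod.ext A.cd B.cd
  · exact Prod.ext A.fd B.fd
  · exact Prod.ext A.ds B.ds
  · exact Prod.ext A.zd B.zd
  · exact Prod.ext A.w2 B.w2
  · exact Prod.ext A.cw B.cw
  · exact Prod.ext A.zw B.zw
  · exact Prod.ext A.wu B.wu
  · exact Prod.ext A.x_def B.x_def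
  · exact Prod.ext A.v_def B.v_def

/-- Two groups generated by corresponding tuples such that the pairs generate a small group. -/
theorem iso_of_pairs {G J : Type*} [Group G] [Group J] [Finite J] [IsSimpleGroup J] {ι : Type*}
    (a : ι → G) (b : ι → J) (hb : Subgroup.closure (Set.range b) = ⊤)
    (hfin : Finite (Subgroup.closure (Set.range fun i => (a i, b i))))
    (hcard : Nat.card (Subgroup.closure (Set.range fun i => (a i, b i))) ≤ Nat.card J)
    (hne : ∃ i, a i ≠ 1) :
    Nonempty (Subgroup.closure (Set.range a) ≃* J) := by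
  set D := Subgroup.closure (Set.range fun i => (a i, b i)) with hD
  set H := Subgroup.closure (Set.range a) with hH
  let p2 : D →* J := (MonoidHom.snd G J).comp D.subtype
  have hp2 : Function.Surjective p2 := by
    rw [← MonoidHom.range_eq_top, eq_top_iff, ← hb, Subgroup.closure_le]
    rintro _ ⟨i, rfl⟩
    exact ⟨⟨(a i, b i), Subgroup.subset_closure ⟨i, rfl⟩⟩, rfl⟩
  have hbij : Function.Bijective p2 := by
    have := Fintype.ofFinite D
    have := Fintype.ofFinite J
    rw [Fintype.bijective_iff_surjective_and_card]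
    refine ⟨hp2, ?_⟩
    rw [← Nat.card_eq_fintype_card, ← Nat.card_eq_fintype_card]
    exact le_antisymm hcard (Nat.card_le_card_of_surjective p2 hp2)
  let e : D ≃* J := MulEquiv.ofBijective p2 hbij
  have hmapD : D.map (MonoidHom.fst G J) = H := by
    rw [hD, MonoidHom.map_closure, ← Set.range_comp]
    rfl
  have hmem : ∀ x : D, (x : G × J).1 ∈ H := by
    intro x
    rw [← hmapD]
    exact ⟨x, x.2, rfl⟩
  let p1 : D →* H := ((MonoidHom.fst G J).comp D.subtype).codRestrict H hmem
  have hp1 : Function.Surjective p1 := by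
    rintro ⟨y, hy⟩
    rw [← hmapD] at hy
    obtain ⟨x, hx, rfl⟩ := hy
    exact ⟨⟨x, hx⟩, rfl⟩
  let q : J →* H := p1.comp e.symm.toMonoidHom
  have hq : Function.Surjective q := hp1.comp e.symm.surjective
  have hker : q.ker = ⊥ := by
    rcases (inferInstance : q.ker.Normal).eq_bot_or_eq_top with h | h
    · exact h
    · exfalso
      obtain ⟨i, hi⟩ := hne
      obtain ⟨j, hj⟩ := hq ⟨a i, Subgroup.subset_closure ⟨i, rfl⟩⟩
      have : j ∈ q.ker := by rw [h]; trivial
      rw [MonoidHom.mem_ker] at this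
      rw [this] at hj
      exact hi (congrArg Subtype.val hj).symm
  exact ⟨(MulEquiv.ofBijective q ⟨(MonoidHom.ker_eq_bot_iff q).mp hker, hq⟩).symm⟩

/-- the six generators -/
def tup {X : Type*} (c f h s d w : X) : Fin 6 → X := ![c, f, h, s, d, w]

theorem range_tup {X : Type*} (c f h s d w : X) : Set.range (tup c f h s d w) = {c, f, h, s, d, w} := by
  ext a
  constructor
  · rintro ⟨i, rfl⟩
    fin_cases i <;> simp [tup]
  · intro ha
    simp only [Set.mem_insert_iff, Set.mem_singleton_iff] at ha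
    rcases ha with rfl | rfl | rfl | rfl | rfl | rfl
    exacts [⟨0, rfl⟩, ⟨1, rfl⟩, ⟨2, rfl⟩, ⟨3, rfl⟩, ⟨4, rfl⟩, ⟨5, rfl⟩]

/-- **A group generated by a J3 amalgam satisfying the extra relation is `J3`.** -/
theorem iso_of_amal {G : Type*} [Group G] {z y s c f g u h d w x v : G} (A : Amal z y s c f g u h d w x v)
    (hs : s ≠ 1) (hrel : w * s * w * s * w = z * v⁻¹ * x⁻¹ * v)
    {F : Type} [Field F] [Fintype F] (hF : Fintype.card F = 4) {ω : F} (hω : ω ^ 2 + ω + 1 = 0) :
    Nonempty (Subgroup.closure ({c, f, h, s, d, w} : Set G) ≃* Spor.J3 F ω) := by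
  obtain ⟨-, -, hJ, hsimple⟩ := Cfsg.Agent.S1625.result F hF ω hω
  have hfinJ : Finite (Spor.J3 F ω) := Nat.finite_of_card_ne_zero (by rw [hJ]; norm_num)
  obtain ⟨z', y', s', c', f', g', u', h', d', w', x', v', B, hrel', htop⟩ :=
    Mats.exists_amal hF (ω := ω) (Cfsg.Agent.J3.Core.good_of_card hF hω)
  have hP := Pres.bound (amal_prod A B) (by
    refine Prod.ext ?_ ?_
    · simpa using hrel
    · simpa using hrel')
  have hset : (Set.range fun i => (tup c f h s d w i, tup c' f' h' s' d' w' i)) =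
      ({(c, c'), (f, f'), (h, h'), (s, s'), (d, d'), (w, w')} : Set (G × Spor.J3 F ω)) := by
    rw [← range_tup]
    congr 1
    ext i <;> fin_cases i <;> rfl
  have := iso_of_pairs (tup c f h s d w) (tup c' f' h' s' d' w') (by rw [range_tup]; exact htop)
    (by rw [hset]; exact hP.1) (by rw [hset, hJ]; exact hP.2) ⟨3, hs⟩
  rwa [range_tup] at this

end Cfsg.Agent.J3Type.Iso
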