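import Cfsg.Agent.J3Type.PresDef

/-!
# Derived relations of the J3 amalgam (helper940)
-/

set_option autoImplicit false

namespace Cfsg.Agent.J3Type.PresDef



variable {G : Type*} [Group G] {z y s c f g u h d w x v : G}

theorem inv_of_sq {a : G} (h : a * a = 1) : a⁻¹ = a := inv_eq_of_mul_eq_one_right h

/-- cancel an involution -/
theorem sq_cancel {a : G} (h : a * a = 1) (b : G) : a * (a * b) = b := by
  rw [← mul_assoc, h, one_mul]

theorem CEl.g2 (H : CEl z y s c f g u h) : g * g = 1 := by
  rw [H.g_def]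
  calc c⁻¹ * f * c * (c⁻¹ * f * c) = c⁻¹ * (f * f) * c := by group
    _ = 1 := by rw [H.f2]; group

theorem CEl.u2 (H : CEl z y s c f g u h) : u * u = 1 := by
  rw [H.u_def]
  calc s * f * s * (s * f * s) = s * f * (s * s) * f * s := by group
    _ = s * (f * f) * s := by rw [H.s2]; group
    _ = 1 := by rw [H.f2, mul_one, H.s2]

theorem CEl.y2 (H : CEl z y s c f g u h) : y * y = 1 := by
  rw [H.y_def]
  calc h * s * h * (h * s * h) = h * s * (h * h) * s * h := by group
    _ = h * (s * s) * h := by rw [H.h2]; group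
    _ = 1 := by rw [H.s2, mul_one, H.h2]

theorem CEl.ch' (H : CEl z y s c f g u h) : c * h = h * c⁻¹ := by
  have h1 := H.ch
  have h2 : c * h * c = h⁻¹ := eq_inv_of_mul_eq_one_left (by rw [← h1]; group)
  rw [inv_of_sq H.h2] at h2
  calc c * h = (c * h * c) * c⁻¹ := by group
    _ = h * c⁻¹ := by rw [h2]

theorem CEl.c'h (H : CEl z y s c f g u h) : c⁻¹ * h = h * c := by
  have h1 := H.ch'
  calc c⁻¹ * h = c⁻¹ * (h * c⁻¹) * c := by group
    _ = c⁻¹ * (c * h) * c := by rw [h1]
    _ = h * c := by group

theorem CEl.sc' (H : CEl z y s c f g u h) : s * c⁻¹ = c⁻¹ * s := by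
  have h1 := H.sc
  calc s * c⁻¹ = c⁻¹ * (c * s) * c⁻¹ := by group
    _ = c⁻¹ * (s * c) * c⁻¹ := by rw [h1]
    _ = c⁻¹ * s := by group

theorem CEl.yc (H : CEl z y s c f g u h) : y * c = c * y := by
  rw [H.y_def]
  calc h * s * h * c = h * s * (h * c) := by group
    _ = h * (s * c⁻¹) * h := by rw [← H.c'h]; group
    _ = (h * c⁻¹) * s * h := by rw [H.sc']; group
    _ = c * (h * s * h) := by rw [← H.ch']; group

/-- `f h f = h f h` -/
theorem CEl.braid (H : CEl z y s c f g u h) : f * h * f = h * f * h := by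
  have h1 : (f * h * f) * (h * f * h) = 1 := by rw [← H.fh]; group
  have h2 : (h * f * h)⁻¹ = h * f * h := by
    rw [mul_inv_rev, mul_inv_rev, inv_of_sq H.h2, inv_of_sq H.f2]; group
  rw [eq_inv_of_mul_eq_one_left h1, h2]

theorem CEl.yf (H : CEl z y s c f g u h) : y * f = f * y := by
  have h1 := H.sfhf
  rw [H.braid] at h1
  rw [H.y_def]
  have hh := sq_cancel H.h2
  calc h * s * h * f = h * (s * (h * f * h)) * h := by
        have : h * (s * (h * f * h)) * h = h * s * h * f * (h * h) := by group
        rw [this, H.h2, mul_one]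
    _ = h * (h * f * h * s) * h := by rw [h1]
    _ = (h * h) * f * (h * s * h) := by group
    _ = f * (h * s * h) := by rw [H.h2, one_mul]

theorem CEl.zy (H : CEl z y s c f g u h) : z * y = y * z := by
  rw [H.y_def]
  calc z * (h * s * h) = (z * h) * s * h := by group
    _ = h * (z * s) * h := by rw [H.zh]; group
    _ = h * s * (z * h) := by rw [H.zs]; group
    _ = h * s * h * z := by rw [H.zh]; group

theorem CEl.zu (H : CEl z y s c f g u h) : z * u = u * z := by
  rw [H.u_def]
  calc z * (s * f * s) = (z * s) * f * s := by group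
    _ = s * (z * f) * s := by rw [H.zs]; group
    _ = s * f * (z * s) := by rw [H.zf]; group
    _ = s * f * s * z := by rw [H.zs]; group

/-- `s y s = z y` -/
theorem CEl.sys (H : CEl z y s c f g u h) : s * y * s = z * y := by
  have h1 := H.sy
  calc s * y * s = (s * y * (s * y)) * y⁻¹ := by group
    _ = z * y := by rw [h1, inv_of_sq H.y2]

theorem CEl.yu (H : CEl z y s c f g u h) : y * u = u * y := by
  rw [H.u_def]
  have h1 : y * s = s * (z * y) := by
    rw [← H.sys]
    calc y * s = (s * s) * (y * s) := by rw [H.s2, one_mul]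
      _ = s * (s * y * s) := by group
  calc y * (s * f * s) = (y * s) * f * s := by group
    _ = s * (z * (y * f)) * s := by rw [h1]; group
    _ = s * ((z * f) * y) * s := by rw [H.yf]; group
    _ = s * f * (z * (y * s)) := by rw [H.zf]; group
    _ = s * f * ((z * s) * z * y) := by rw [h1]; group
    _ = s * f * s * ((z * z) * y) := by rw [H.zs]; group
    _ = s * f * s * y := by rw [H.z2, one_mul]

/-- `f s f` commutes with `h` -/
theorem CEl.fsfh (H : CEl z y s c f g u h) : f * s * f * h = h * (f * s * f) := by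
  have h1 := H.sfhf
  calc f * s * f * h = f * (s * (f * h * f)) * f := by
        have : f * (s * (f * h * f)) * f = f * s * f * h * (f * f) := by group
        rw [this, H.f2, mul_one]
    _ = f * (f * h * f * s) * f := by rw [h1]
    _ = (f * f) * h * (f * s * f) := by group
    _ = h * (f * s * f) := by rw [H.f2, one_mul]

/-- `(f h f) y (f h f) = f s f` -/
theorem CEl.y_conj (H : CEl z y s c f g u h) : f * h * f * y * (f * h * f) = f * s * f := by
  have h1 := H.fsfh
  rw [H.y_def]
  calc f * h * f * (h * s * h) * (f * h * f) = (h * f * h) * (h * s * h) * (h * f * h) := by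
        rw [H.braid]
    _ = h * f * (h * h) * s * (h * h) * f * h := by group
    _ = h * (f * s * f * h) := by rw [H.h2]; group
    _ = (h * h) * (f * s * f) := by rw [h1]; group
    _ = f * s * f := by rw [H.h2, one_mul]

theorem CEl.zfhf (H : CEl z y s c f g u h) : z * (f * h * f) = f * h * f * z := by
  calc z * (f * h * f) = (z * f) * h * f := by group
    _ = f * (z * h) * f := by rw [H.zf]; group
    _ = f * h * (z * f) := by rw [H.zh]; group
    _ = f * h * f * z := by rw [H.zf]; group

theorem CEl.fhf2 (H : CEl z y s c f g u h) : (f * h * f) * (f * h * f) = 1 := by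
  calc (f * h * f) * (f * h * f) = f * h * (f * f) * h * f := by group
    _ = f * (h * h) * f := by rw [H.f2]; group
    _ = 1 := by rw [H.h2, mul_one, H.f2]

theorem CEl.ssf (H : CEl z y s c f g u h) : s * (f * s * f) * (s * (f * s * f)) = z := by
  have h1 := H.y_conj
  have h2 := H.sfhf
  have h3 := H.fhf2
  set k := f * h * f with hk
  rw [← h1]
  calc s * (k * y * k) * (s * (k * y * k)) = (s * k) * y * (k * s) * (k * y * k) := by group
    _ = (s * k) * y * (s * k) * (k * y * k) := by rw [h2]
    _ = (s * k) * y * s * (k * k) * y * k := by group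
    _ = k * (s * y * (s * y)) * k := by rw [h3, h2]; group
    _ = k * z * k := by rw [H.sy]
    _ = z * (k * k) := by
      have : z * k = k * z := H.zfhf
      rw [← this]; group
    _ = z := by rw [h3, mul_one]

/-- `f u f = z u` -/
theorem CEl.fufu (H : CEl z y s c f g u h) : f * u * f * u = z := by
  have h1 := H.ssf
  rw [H.u_def]
  have h2 : f * (s * f * s) * f * (s * f * s) = s * (s * (f * s * f) * (s * (f * s * f))) * s := by
    have : s * (s * (f * s * f) * (s * (f * s * f))) * s
      = (s * s) * (f * s * f) * (s * (f * s * f)) * s := by group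
    rw [this, H.s2]; group
  rw [h2, h1, ← H.zs]
  rw [mul_assoc, H.s2, mul_one]

theorem CEl.cu (H : CEl z y s c f g u h) : c * u * (c * u) * (c * u) = 1 := by
  rw [H.u_def]
  have h1 : c * (s * f * s) = s * (c * f) * s := by
    calc c * (s * f * s) = (c * s) * f * s := by group
      _ = s * (c * f) * s := by rw [← H.sc]; group
  rw [h1]
  calc s * (c * f) * s * (s * (c * f) * s) * (s * (c * f) * s)
      = s * (c * f) * (s * s) * (c * f) * (s * s) * (c * f) * s := by group
    _ = s * (c * f * (c * f) * (c * f)) * s := by rw [H.s2]; group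
    _ = 1 := by rw [H.cf, mul_one, H.s2]

theorem CEl.fg (H : CEl z y s c f g u h) : f * g = g * f := by
  have h1 := H.cf
  have h2 : f * c * f = c⁻¹ * f * c⁻¹ := by
    calc f * c * f = c⁻¹ * (c * f * (c * f) * (c * f)) * f⁻¹ * c⁻¹ := by group
      _ = c⁻¹ * f * c⁻¹ := by rw [h1, inv_of_sq H.f2]; group
  have h3 : f * c⁻¹ * f = c * f * c := by
    have : f * c⁻¹ * f = (f⁻¹ * c * f⁻¹)⁻¹ := by group
    rw [this, inv_of_sq H.f2, h2]
    rw [mul_inv_rev, mul_inv_rev, inv_inv, inv_of_sq H.f2]; group
  have hc2 : c * c = c⁻¹ := eq_inv_of_mul_eq_one_left H.c3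
  have hcc : c⁻¹ * c⁻¹ = c := by rw [← mul_inv_rev, hc2, inv_inv]
  rw [H.g_def]
  calc f * (c⁻¹ * f * c) = (f * c⁻¹ * f) * c := by group
    _ = c * f * (c * c) := by rw [h3]; group
    _ = (c⁻¹ * c⁻¹) * f * c⁻¹ := by rw [hc2, hcc]
    _ = c⁻¹ * (c⁻¹ * f * c⁻¹) := by group
    _ = c⁻¹ * (f * c * f) := by rw [h2]
    _ = c⁻¹ * f * c * f := by group

theorem CEl.zg (H : CEl z y s c f g u h) : z * g = g * z := by
  have h1 : z * c⁻¹ = c⁻¹ * z := by
    calc z * c⁻¹ = c⁻¹ * (c * z) * c⁻¹ := by group
      _ = c⁻¹ * z := by rw [← H.zc]; group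
  rw [H.g_def]
  calc z * (c⁻¹ * f * c) = (z * c⁻¹) * f * c := by group
    _ = c⁻¹ * (z * f) * c := by rw [h1]; group
    _ = c⁻¹ * f * (z * c) := by rw [H.zf]; group
    _ = c⁻¹ * f * c * z := by rw [H.zc]; group

/-- `(g u)² = y` -/
theorem CEl.gugu (H : CEl z y s c f g u h) : g * u * g * u = y := by
  have h1 := H.prod
  -- `a = s^g`, `b = s^{fg}`; `(a b)² = z`
  have hb : g * f * s * f * g = g * (f * s * f) * g := by group
  have hab : (g * s * g) * (g * (f * s * f) * g) * ((g * s * g) * (g * (f * s * f) * g)) = z := by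
    calc (g * s * g) * (g * (f * s * f) * g) * ((g * s * g) * (g * (f * s * f) * g))
        = g * s * (g * g) * (f * s * f) * (g * g) * s * (g * g) * (f * s * f) * g := by group
      _ = g * (s * (f * s * f) * (s * (f * s * f))) * g := by rw [H.g2]; group
      _ = g * z * g := by rw [H.ssf]
      _ = z * (g * g) := by rw [← H.zg]; group
      _ = z := by rw [H.g2, mul_one]
  have ha2 : (g * s * g) * (g * s * g) = 1 := by
    calc (g * s * g) * (g * s * g) = g * s * (g * g) * s * g := by group
      _ = g * (s * s) * g := by rw [H.g2]; group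
      _ = 1 := by rw [H.s2, mul_one, H.g2]
  have hb2 : (g * (f * s * f) * g) * (g * (f * s * f) * g) = 1 := by
    calc (g * (f * s * f) * g) * (g * (f * s * f) * g) = g * f * s * f * (g * g) * f * s * f * g := by group
      _ = g * f * s * (f * f) * s * f * g := by rw [H.g2]; group
      _ = g * f * (s * s) * f * g := by rw [H.f2]; group
      _ = g * (f * f) * g := by rw [H.s2]; group
      _ = 1 := by rw [H.f2, mul_one, H.g2]
  rw [hb] at h1
  have key : g * u * g * u = (g * s * g) * (g * (f * s * f) * g) * (f * s * f) * s := by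
    rw [H.u_def]
    have e1 : g * (f * s * f) * g * (f * s * f) = g * f * s * (f * g * f) * s * f := by group
    have e2 : f * g * f = g := by rw [H.fg, mul_assoc, H.f2, mul_one]
    calc g * (s * f * s) * g * (s * f * s) = g * s * 1 * (f * s * g * s * f) * s := by group
      _ = g * s * (g * g) * (f * s * g * s * f) * s := by rw [H.g2]
      _ = g * s * g * ((g * f) * s * g * s * f) * s := by group
      _ = (g * s * g) * (g * f * s * (f * g * f) * s * f) * s := by rw [e2]
      _ = (g * s * g) * (g * (f * s * f) * g) * (f * s * f) * s := by rw [← e1]; group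
  rw [key]
  set a := g * s * g with ha
  set b := g * (f * s * f) * g with hb'
  set e := f * s * f with he
  have he2 : e * e = 1 := by
    rw [he]
    calc f * s * f * (f * s * f) = f * s * (f * f) * s * f := by group
      _ = f * (s * s) * f := by rw [H.f2]; group
      _ = 1 := by rw [H.s2, mul_one, H.f2]
  -- `h1 : s * e * a * b * y = z`, goal `a * b * e * s = y`
  have h2 : b * a = a * b * z := by
    have : a * b * (a * b) = z := hab
    calc b * a = (a * a) * (b * a) * (b * b) := by rw [ha2, hb2]; group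
      _ = a * (a * b * (a * b)) * b := by group
      _ = a * z * b := by rw [this]
      _ = a * b * z := by
        have : z * b = b * z := by
          rw [hb', he]
          calc z * (g * (f * s * f) * g) = (z * g) * f * s * f * g := by group
            _ = g * (z * f) * s * f * g := by rw [H.zg]; group
            _ = g * f * (z * s) * f * g := by rw [H.zf]; group
            _ = g * f * s * (z * f) * g := by rw [H.zs]; group
            _ = g * f * s * f * (z * g) := by rw [H.zf]; group
            _ = g * (f * s * f) * g * z := by rw [H.zg]; group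
        calc a * z * b = a * (z * b) := by group
          _ = a * b * z := by rw [this]; group
  have h3 : s * e * a * b = z * y := by
    calc s * e * a * b = (s * e * a * b * y) * y⁻¹ := by group
      _ = z * y := by rw [h1, inv_of_sq H.y2]
  have h4 : (a * b * e * s)⁻¹ = y := by
    calc (a * b * e * s)⁻¹ = s⁻¹ * e⁻¹ * b⁻¹ * a⁻¹ := by group
      _ = s * e * (b * a) := by
        rw [inv_of_sq H.s2, inv_of_sq he2, inv_of_sq ha2, inv_of_sq hb2]; group
      _ = (s * e * a * b) * z := by rw [h2]; group
      _ = z * (y * z) := by rw [h3]; group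
      _ = (z * z) * y := by rw [← H.zy]; group
      _ = y := by rw [H.z2, one_mul]
  calc a * b * e * s = ((a * b * e * s)⁻¹)⁻¹ := (inv_inv _).symm
    _ = y := by rw [h4, inv_of_sq H.y2]

section Amal

/-- `s (c d) s = d⁻¹` -/
theorem Amal.scds (H : Amal z y s c f g u h d w x v) : s * (c * d) * s = d⁻¹ := by
  have h1 := H.ds
  calc s * (c * d) * s = (s * c) * d * s := by group
    _ = c * (s * d * s) := by rw [H.sc]; group
    _ = d⁻¹ := by rw [h1, H.cd]; group

/-- `s d⁻¹ s = c d` -/
theorem Amal.sd's (H : Amal z y s c f g u h d w x v) : s * d⁻¹ * s = c * d := by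
  have h1 := H.ds
  calc s * d⁻¹ * s = (s⁻¹ * d * s⁻¹)⁻¹ := by group
    _ = c * d := by rw [inv_of_sq H.s2, h1, inv_inv]

theorem Amal.fd' (H : Amal z y s c f g u h d w x v) : f * d⁻¹ = d⁻¹ * f := by
  have h1 := H.fd
  calc f * d⁻¹ = d⁻¹ * (d * f) * d⁻¹ := by group
    _ = d⁻¹ * f := by rw [← h1]; group

theorem Amal.ucdu (H : Amal z y s c f g u h d w x v) : u * (c * d) * u = c * d := by
  rw [H.u_def]
  calc s * f * s * (c * d) * (s * f * s) = s * f * (s * (c * d) * s) * f * s := by group
    _ = s * (f * d⁻¹) * f * s := by rw [H.scds]; group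
    _ = s * d⁻¹ * (f * f) * s := by rw [H.fd']; group
    _ = c * d := by rw [H.f2, mul_one, H.sd's]

/-- `y ^ d = z y` -/
theorem Amal.yd (H : Amal z y s c f g u h d w x v) : d⁻¹ * y * d = z * y := by
  have h1 := H.ds
  have h2 := H.zd
  have hd2 : d * d = d⁻¹ := eq_inv_of_mul_eq_one_left H.d3
  have hdd : d⁻¹ * d⁻¹ = d := by rw [← mul_inv_rev, hd2, inv_inv]
  have h3 : d * z * d⁻¹ = z * y := by
    have e1 : (s * d * s)⁻¹ * z * (s * d * s) = z * y := by
      have : (s * d * s)⁻¹ = s * d⁻¹ * s := by
        rw [mul_inv_rev, mul_inv_rev, inv_of_sq H.s2]; group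
      rw [this]
      calc s * d⁻¹ * s * z * (s * d * s) = s * d⁻¹ * (s * z) * s * d * s := by group
        _ = s * d⁻¹ * z * (s * s) * d * s := by rw [← H.zs]; group
        _ = s * (d⁻¹ * z * d) * s := by rw [H.s2]; group
        _ = s * y * s := by rw [h2]
        _ = z * y := H.sys
    rw [h1, inv_inv] at e1
    calc d * z * d⁻¹ = d * (z * c) * c⁻¹ * d⁻¹ := by group
      _ = d * (c * z) * c⁻¹ * d⁻¹ := by rw [H.zc]
      _ = (d * c) * z * (c⁻¹ * d⁻¹) := by group
      _ = (c * d) * z * (c * d)⁻¹ := by
        rw [← H.cd]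
        have : c⁻¹ * d⁻¹ = (c * d)⁻¹ := by rw [H.cd, mul_inv_rev]
        rw [this]
      _ = z * y := e1
  calc d⁻¹ * y * d = d⁻¹ * (d⁻¹ * z * d) * d := by rw [h2]
    _ = (d⁻¹ * d⁻¹) * z * (d * d) := by group
    _ = d * z * d⁻¹ := by rw [hd2, hdd]
    _ = z * y := h3

end Amal

end Cfsg.Agent.J3Type.PresDef
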