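import Mathlib
import Cfsg.Prelude.Def_SporadicB
import Cfsg.Agent.S0215

/-!
# A 2-central involution of a simple group commutes with another conjugate
-/

set_option autoImplicit false

namespace Cfsg.Agent.J3Type.TwoCentral

theorem sq_of_order {G : Type*} [Group G] {x : G} (h : orderOf x = 2) : x * x = 1 := by
  have := pow_orderOf_eq_one x
  rw [h, pow_two] at this
  exact this

/-- By the Z*-theorem. -/
theorem exists_comm_conj {G : Type*} [Group G] [Finite G] [IsSimpleGroup G] (t : G)
    (ht : Cfsg.IsTwoCentralInvolution t)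
    (E : Subgroup (Subgroup.centralizer ({t} : Set G))) (hE : Nat.card E = 32)
    (h64 : 32 < Nat.card (Subgroup.centralizer ({t} : Set G))) :
    ∃ g : G, g * t * g⁻¹ ≠ t ∧ (g * t * g⁻¹) * t = t * (g * t * g⁻¹) := by
  obtain ⟨ht2, P, htP, hPc⟩ := ht
  by_contra hcon
  push Not at hcon
  obtain ⟨N, hN, hodd, hcomm⟩ := Cfsg.Agent.S0215.result P t ht2 htP (by
    intro g hg
    by_contra hne
    exact hcon g hne (hPc _ hg))
  have ht1 : t ≠ 1 := by
    rintro rfl
    rw [orderOf_one] at ht2
    omega
  rcases hN.eq_bot_or_eq_top with h1 | h1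
  · have hcen : ∀ g : G, t * g = g * t := by
      intro g
      have h2 := hcomm g
      rw [h1, Subgroup.mem_bot] at h2
      calc t * g = (t * g * t⁻¹ * g⁻¹) * g * t := by group
        _ = g * t := by rw [h2, one_mul]
    have hctop : Subgroup.center G = ⊤ := by
      rcases (inferInstance : (Subgroup.center G).Normal).eq_bot_or_eq_top with h2 | h2
      · exfalso
        have : t ∈ Subgroup.center G := Subgroup.mem_center_iff.2 fun g => (hcen g).symm
        rw [h2, Subgroup.mem_bot] at this
        exact ht1 this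
      · exact h2
    have habel : ∀ a b : G, a * b = b * a := by
      intro a b
      have : b ∈ Subgroup.center G := by rw [hctop]; exact Subgroup.mem_top b
      exact Subgroup.mem_center_iff.1 this a
    let F : Subgroup G := E.map (Subgroup.centralizer ({t} : Set G)).subtype
    have hF : Nat.card F = 32 := by
      rw [← hE]
      exact (Nat.card_congr (E.equivMapOfInjective _ (Subgroup.subtype_injective _)).toEquiv).symm
    have hFn : F.Normal := by
      refine ⟨fun n hn g => ?_⟩
      rw [habel g n, mul_assoc, mul_inv_cancel, mul_one]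
      exact hn
    rcases hFn.eq_bot_or_eq_top with h2 | h2
    · rw [h2, Subgroup.card_bot] at hF
      omega
    · have h3 : Nat.card G = 32 := by
        rw [← hF, h2]
        exact (Nat.card_congr Subgroup.topEquiv.toEquiv).symm
      have h4 : Nat.card (Subgroup.centralizer ({t} : Set G)) ≤ Nat.card G :=
        Nat.card_le_card_of_injective _ (Subgroup.subtype_injective _)
      omega
  · have h2 : Nat.card N = Nat.card G := by
      rw [h1]
      exact Nat.card_congr Subgroup.topEquiv.toEquiv
    rw [h2] at hodd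
    have h3 : 2 ∣ Nat.card G := by
      rw [← ht2]; exact orderOf_dvd_natCard t
    rw [Nat.odd_iff] at hodd
    omega

/-- If all involutions are conjugate then each is 2-central. -/
theorem two_central {G : Type*} [Group G] [Finite G]
    (hone : ∀ x y : G, orderOf x = 2 → orderOf y = 2 → IsConj x y) (t : G) (ht : orderOf t = 2) :
    Cfsg.IsTwoCentralInvolution t := by
  refine ⟨ht, ?_⟩
  have hp : Fact (Nat.Prime 2) := ⟨Nat.prime_two⟩
  have ht1 : t ≠ 1 := by
    rintro rfl
    rw [orderOf_one] at ht
    omega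
  have h2 : IsPGroup 2 (Subgroup.zpowers t) := by
    rw [IsPGroup.iff_card]
    exact ⟨1, by rw [Nat.card_zpowers, ht, pow_one]⟩
  obtain ⟨S, hS⟩ := h2.exists_le_sylow
  have htS : t ∈ (S : Subgroup G) := hS (Subgroup.mem_zpowers t)
  have hne : Nontrivial S := ⟨⟨⟨t, htS⟩, 1, fun h => ht1 (congrArg Subtype.val h)⟩⟩
  have hcent : Nontrivial (Subgroup.center S) := S.isPGroup'.center_nontrivial
  have hcp : IsPGroup 2 (Subgroup.center S) := S.isPGroup'.to_subgroup _
  have hdvd : 2 ∣ Nat.card (Subgroup.center S) := by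
    obtain ⟨n, hn⟩ := IsPGroup.iff_card.1 hcp
    rcases n with _ | n
    · exfalso
      rw [pow_zero] at hn
      have := Finite.one_lt_card_iff_nontrivial.2 hcent
      omega
    · rw [hn]; exact dvd_pow_self 2 (Nat.succ_ne_zero n)
  obtain ⟨w, hw⟩ := exists_prime_orderOf_dvd_card' 2 hdvd
  have hw' : orderOf (((w : S) : G)) = 2 := by
    exact ((Subgroup.orderOf_coe (w : S)).trans (Subgroup.orderOf_coe w)).trans hw
  obtain ⟨g, hg⟩ := isConj_iff.1 (hone _ _ hw' ht)
  have hwc : ∀ x ∈ (S : Subgroup G), x * ((w : S) : G) = ((w : S) : G) * x := by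
    intro x hx
    have := Subgroup.mem_center_iff.1 w.2 ⟨x, hx⟩
    exact congrArg Subtype.val this
  refine ⟨g • S, ?_, ?_⟩
  · rw [← hg]
    show g * ((w : S) : G) * g⁻¹ ∈ ((g • S : Sylow 2 G) : Subgroup G)
    rw [Sylow.coe_subgroup_smul]
    exact Subgroup.smul_mem_pointwise_smul _ (MulAut.conj g) _ (w : S).2
  · intro x hx
    have hx' : x ∈ ((g • S : Sylow 2 G) : Subgroup G) := hx
    rw [Sylow.coe_subgroup_smul] at hx'
    obtain ⟨s, hs, rfl⟩ := (Subgroup.mem_smul_pointwise_iff_exists _ _ _).1 hx'
    have h1 := hwc s hs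
    rw [← hg]
    show g * s * g⁻¹ * (g * ((w : S) : G) * g⁻¹) = g * ((w : S) : G) * g⁻¹ * (g * s * g⁻¹)
    calc g * s * g⁻¹ * (g * ((w : S) : G) * g⁻¹) = g * (s * ((w : S) : G)) * g⁻¹ := by group
      _ = g * (((w : S) : G) * s) * g⁻¹ := by rw [h1]
      _ = _ := by group

end Cfsg.Agent.J3Type.TwoCentral
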